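import Cfsg.Agent.Lib.ThreeCubedSymFour.Facts

/-!
# Computations in `3^3:S4` for the characterisation of `A9`

* `aAx`, `bAx`, `cAx`: representatives of the three classes of the space
* centralizers of the representatives, the Sylow subgroup `sylSub`
-/

set_option autoImplicit false

namespace Cfsg.Agent.AltNineThree

open Cfsg.Agent.ThreeCubedSymFour

/-- The vectors of weight one. -/
def aAx : Q := el 1 0 0 0 false false false
/-- The vectors of weight two. -/
def bAx : Q := el 1 1 0 0 false false false
/-- The vectors of weight three. -/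
def cAx : Q := el 1 1 1 0 false false false
/-- The involution with four transpositions, centralizing `bAx`. -/
def iInv : Q := el 0 0 1 1 true false false
/-- The involution with two transpositions. -/
def jInv : Q := el 1 1 0 0 false true true
/-- An element of order four centralizing `aAx`. -/
def fFour : Q := el 0 0 0 0 true false true

/-- The weight of a vector. -/
def weight (x : Q) : ℕ :=
  (if x.left.toAdd.1 = 0 then 0 else 1) + (if x.left.toAdd.2.1 = 0 then 0 else 1) +
    (if x.left.toAdd.2.2 = 0 then 0 else 1)

set_option synthInstance.maxSize 2000 in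
theorem axes_facts : aAx.right = 1 ∧ bAx.right = 1 ∧ cAx.right = 1 ∧ aAx ≠ 1 ∧ bAx ≠ 1 ∧ cAx ≠ 1 ∧
    iInv * iInv = 1 ∧ iInv ≠ 1 ∧ iInv * bAx = bAx * iInv ∧ jInv * jInv = 1 ∧ jInv ≠ 1 := by
  decide +kernel

theorem fFour_facts : fFour * aAx = aAx * fFour ∧ fFour * fFour * (fFour * fFour) = 1 ∧
    fFour * fFour ≠ 1 := by
  decide +kernel

theorem right_of_comm_plane : ∀ x : Q, x * el 1 0 0 0 false false false = el 1 0 0 0 false false false * x →
    x * el 0 1 0 0 false false false = el 0 1 0 0 false false false * x →
    x * el 0 0 1 0 false false false = el 0 0 1 0 false false false * x → x.right = 1 := by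
  decide +kernel

theorem exists_axis : ∀ x : Q, x.right = 1 → x ≠ 1 →
    ∃ y : Q, y * aAx * y⁻¹ = x ∨ y * bAx * y⁻¹ = x ∨ y * cAx * y⁻¹ = x := by
  decide +kernel

theorem weight_conj : ∀ x y : Q, x.right = 1 → weight (y * x * y⁻¹) = weight x := by
  have key : ∀ (v : Multiplicative V3) (y : Q),
      weight (y * SemidirectProduct.inl v * y⁻¹) = weight (SemidirectProduct.inl v) := by
    decide +kernel
  intro x y hx
  have e : x = SemidirectProduct.inl x.left := SemidirectProduct.ext rfl (by simpa using hx)
  rw [e]
  exact key _ y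

theorem weight_axes : weight aAx = 1 ∧ weight bAx = 2 ∧ weight cAx = 3 := by decide +kernel

theorem three_in_centralizer_a : ∀ x : Q, x * aAx = aAx * x →
    x * x * x * (x * x * x) * (x * x * x) = 1 → x.right = 1 := by decide +kernel

theorem three_in_centralizer_b : ∀ x : Q, x * bAx = bAx * x →
    x * x * x * (x * x * x) * (x * x * x) = 1 → x.right = 1 := by decide +kernel

/-- The Sylow subgroup `3^3:3`. -/
def sylSub : Subgroup Q where
  carrier := {x | x.right.w = false ∧ x.right.s = false ∧ x.right.t = false}
  one_mem' := ⟨rfl, rfl, rfl⟩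
  mul_mem' {a b} ha hb := by
    have key : ∀ g h : Mon, (g.w = false ∧ g.s = false ∧ g.t = false) →
        (h.w = false ∧ h.s = false ∧ h.t = false) →
        (g * h).w = false ∧ (g * h).s = false ∧ (g * h).t = false := by decide +kernel
    exact key _ _ ha hb
  inv_mem' {a} ha := by
    have key : ∀ g : Mon, (g.w = false ∧ g.s = false ∧ g.t = false) →
        g⁻¹.w = false ∧ g⁻¹.s = false ∧ g⁻¹.t = false := by decide +kernel
    exact key _ ha

theorem mem_sylSub (x : Q) :
    x ∈ sylSub ↔ x.right.w = false ∧ x.right.s = false ∧ x.right.t = false := Iff.rfl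

theorem centralizer_c_iff : ∀ x : Q, x * cAx = cAx * x ↔
    (x.right.w = false ∧ x.right.s = false ∧ x.right.t = false) := by decide +kernel

set_option synthInstance.maxSize 2000 in
theorem comm_out : ∀ x : Q, x.right.w = false → x.right.s = false → x.right.t = false → x.right ≠ 1 →
    ∀ v : Multiplicative V3, x * SemidirectProduct.inl v = SemidirectProduct.inl v * x →
      (SemidirectProduct.inl v : Q) = 1 ∨ (SemidirectProduct.inl v : Q) = cAx ∨
        (SemidirectProduct.inl v : Q) = cAx * cAx := by
  decide +kernel

theorem right_of_two_comm_a : ∀ v : Multiplicative V3, v.toAdd.1 = 0 → v ≠ 1 → ∀ x : Q,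
    x * aAx = aAx * x → x * SemidirectProduct.inl v = SemidirectProduct.inl v * x → x.right = 1 := by
  decide +kernel

theorem centralizer_b_cases : ∀ x : Q, x * bAx = bAx * x → x.right = 1 ∨ x.right = iInv.right := by
  decide +kernel

theorem small_cube : ∀ x : Q, x.right.r = 0 → x.right.w = false → x * x * x = 1 → x.right = 1 := by
  decide +kernel

end Cfsg.Agent.AltNineThree
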