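import Cfsg.Agent.Lib.AltNineThree.Factor
import Cfsg.Agent.S0117

/-!
# The centralizers of the three axes

* `Setting.centralizer_b`, `Setting.centralizer_c`: they lie in the model
* `Setting.centralizer_a`: in the model, or the factor is alternating of degree six
-/

set_option autoImplicit false

namespace Cfsg.Agent.AltNineThree

open Cfsg Cfsg.Agent.ThreeCubedSymFour

/-- The coordinate of `bAx`. -/
def lB : V3 →+ ZMod 3 where
  toFun v := v.1 + v.2.1
  map_zero' := by simp
  map_add' a b := by simp only [Prod.fst_add, Prod.snd_add]; abel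

/-- The coordinate of `aAx`. -/
def lA : V3 →+ ZMod 3 := AddMonoidHom.fst _ _

set_option synthInstance.maxSize 4000 in
theorem axis_b : Axis bAx iInv lB where
  right := rfl
  three := three_in_centralizer_b
  comm := axes_facts.2.2.2.2.2.2.2.2.1
  coord := by decide +kernel
  commutators := by decide +kernel
  split := by decide +kernel
  card := by
    rw [Nat.subtype_card (Finset.univ.filter fun v : V3 => lB v = 0) fun v => by simp]
    decide +kernel

set_option synthInstance.maxSize 4000 in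
theorem axis_a : Axis aAx (fFour * fFour) lA where
  right := rfl
  three := three_in_centralizer_a
  comm := by decide +kernel
  coord := by decide +kernel
  commutators := by decide +kernel
  split := by decide +kernel
  card := by
    rw [Nat.subtype_card (Finset.univ.filter fun v : V3 => lA v = 0) fun v => by simp]
    decide +kernel

theorem inverts_b : ∀ v : Multiplicative V3, lB v.toAdd = 0 →
    iInv * SemidirectProduct.inl v * iInv⁻¹ = (SemidirectProduct.inl v : Q)⁻¹ := by decide +kernel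

theorem inverts_a : ∀ v : Multiplicative V3, lA v.toAdd = 0 →
    fFour * fFour * SemidirectProduct.inl v * (fFour * fFour)⁻¹ = (SemidirectProduct.inl v : Q)⁻¹ := by
  decide +kernel

theorem rotate_a : ∀ v : Multiplicative V3, lA v.toAdd = 0 →
    (fFour * SemidirectProduct.inl v * fFour⁻¹).right = 1 ∧
      lA (fFour * SemidirectProduct.inl v * fFour⁻¹).left.toAdd = 0 := by
  decide +kernel

theorem quarter_a : ∀ z : Q, z * aAx = aAx * z →
    ∃ k : Fin 4, (z * fFour ^ (k : ℕ)).right = 1 := by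
  decide +kernel

theorem hyper_eq_inl {l : V3 →+ ZMod 3} {w : Q} (hw : w ∈ hyper l) :
    w = SemidirectProduct.inl w.left ∧ l w.left.toAdd = 0 :=
  ⟨SemidirectProduct.ext rfl (by simpa using (mem_hyper.1 hw).1), (mem_hyper.1 hw).2⟩

variable {G : Type*} [Group G] {π : Q →* G}

theorem mem_sylow_of_plane {x : Q} {l : V3 →+ ZMod 3} {L : Subgroup G} (F : Factor π x l L)
    {P : Sylow 3 L} (hP : ∀ y : L, y ∈ (P : Subgroup L) ↔ ∃ w ∈ hyper l, π w = y) {n : L} {z : Q}
    (hz : z.right = 1) (e : π z = n) : n ∈ (P : Subgroup L) :=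
  (hP n).2 ⟨z, (F.plane_iff z hz).1 (e ▸ n.2), e⟩

theorem mem_normalizer_of_model {x : Q} {l : V3 →+ ZMod 3} {L : Subgroup G}
    (F : Factor π x l L) {P : Sylow 3 L} [Finite G]
    (hP : ∀ y : L, y ∈ (P : Subgroup L) ↔ ∃ w ∈ hyper l, π w = y) {f : Q} {n : L} (e : π f = n)
    (hf : ∀ w ∈ hyper l, f * w * f⁻¹ ∈ hyper l) :
    n ∈ Subgroup.normalizer ((P : Subgroup L) : Set L) := by
  have h1 : (P : Subgroup L).map (MulAut.conj n).toMonoidHom = (P : Subgroup L) := by
    refine Subgroup.eq_of_le_of_card_ge ?_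
      (by rw [Subgroup.card_map_of_injective (MulAut.conj n).injective])
    rintro _ ⟨y, hy, rfl⟩
    obtain ⟨w, hw, ew⟩ := (hP y).1 hy
    refine (hP _).2 ⟨_, hf w hw, ?_⟩
    simp [ew, e]
  exact Subgroup.mem_normalizer_iff_map_conj_eq.2 h1

variable [Finite G]

universe u

theorem Setting.centralizer_b {G : Type u} [Group G] [Finite G] {π : Q →* G} (E : Setting π)
    (hST : SmithTyrer.{u}) : Subgroup.centralizer ({π bAx} : Set G) ≤ π.range := by
  obtain ⟨L, F⟩ := E.exists_factor axis_b
  obtain ⟨P, hP, hN⟩ := E.factor_sylow axis_b F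
  refine E.le_range_of_normal axis_b F hP ?_
  have htt : π iInv * π iInv = 1 := by rw [← map_mul, axes_facts.2.2.2.2.2.2.1, map_one]
  have htL : π iInv ∈ L := F.small _
    (Subgroup.mem_centralizer_singleton_iff.2 (by rw [← map_mul, ← map_mul, axis_b.comm]))
    2 (by norm_num) (by rw [pow_two, htt])
  refine normal_of_inverted hST hN (t := ⟨π iInv, htL⟩) (Subtype.ext htt) ?_ ?_ ?_
  · refine mem_normalizer_of_model F hP (f := iInv) rfl fun w hw => ?_
    obtain ⟨hwe, hwl⟩ := hyper_eq_inl hw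
    rw [hwe, inverts_b w.left hwl, ← hwe]
    exact inv_mem hw
  · intro y hy
    obtain ⟨w, hw, e⟩ := (hP y).1 hy
    obtain ⟨hwe, hwl⟩ := hyper_eq_inl hw
    refine Subtype.ext ?_
    show π iInv * y * (π iInv)⁻¹ = (y : G)⁻¹
    rw [← e, ← map_inv, ← map_mul, ← map_mul, ← map_inv, hwe]
    exact congrArg π (inverts_b _ hwl)
  · intro n hn
    obtain ⟨z, hz, hzb⟩ := E.factor_normalizer axis_b F hP (F.le n.2) fun w hw => by
      have hwL : π w ∈ L := (F.plane_iff w (mem_hyper.1 hw).1).2 hw
      obtain ⟨w', hw', e⟩ := (hP _).1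
        ((Subgroup.mem_normalizer_iff.1 hn ⟨π w, hwL⟩).1 ((hP _).2 ⟨w, hw, rfl⟩))
      exact ⟨w', hw', e.symm⟩
    rcases centralizer_b_cases z hzb with h | h
    · exact Or.inl (mem_sylow_of_plane F hP h hz)
    · refine Or.inr (mem_sylow_of_plane F hP (z := z * iInv) ?_ (by simp [hz]))
      rw [SemidirectProduct.mul_right, h]
      decide +kernel

theorem Setting.centralizer_a {G : Type u} [Group G] [Finite G] {π : Q →* G} (E : Setting π)
    (hST : SmithTyrer.{u}) : Subgroup.centralizer ({π aAx} : Set G) ≤ π.range ∨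
      ∃ L, Factor π aAx lA L ∧ Nonempty (L ≃* alternatingGroup (Fin 6)) := by
  obtain ⟨L, F⟩ := E.exists_factor axis_a
  obtain ⟨P, hP, hN⟩ := E.factor_sylow axis_a F
  obtain ⟨hfa, hf4, -⟩ := fFour_facts
  have hf : π fFour * π fFour * (π fFour * π fFour) = 1 := by
    rw [← map_mul, ← map_mul, hf4, map_one]
  have hfL : π fFour ∈ L := F.small _
    (Subgroup.mem_centralizer_singleton_iff.2 (by rw [← map_mul, ← map_mul, hfa]))
    4 (by norm_num) (by rw [← hf]; simp [pow_succ, mul_assoc])
  have key := normal_or_alt_six hST hN (f := ⟨π fFour, hfL⟩) (Subtype.ext hf) ?_ ?_ ?_ ?_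
    (x := ⟨π (el 0 1 0 0 false false false),
      (F.plane_iff _ rfl).2 (mem_hyper.2 ⟨rfl, rfl⟩)⟩)
    ((hP _).2 ⟨_, mem_hyper.2 ⟨rfl, rfl⟩, rfl⟩) ?_
    (y := ⟨π (el 0 1 1 0 false false false),
      (F.plane_iff _ rfl).2 (mem_hyper.2 ⟨rfl, rfl⟩)⟩)
    ((hP _).2 ⟨_, mem_hyper.2 ⟨rfl, rfl⟩, rfl⟩) ?_ ?_
  · exact key.imp (fun h => E.le_range_of_normal axis_a F hP h) fun h => ⟨L, F, h⟩
  · refine mem_normalizer_of_model F hP (f := fFour) rfl fun w hw => ?_
    obtain ⟨hwe, hwl⟩ := hyper_eq_inl hw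
    rw [hwe]
    exact mem_hyper.2 (rotate_a _ hwl)
  · intro y hy
    obtain ⟨w, hw, e⟩ := (hP y).1 hy
    obtain ⟨hwe, hwl⟩ := hyper_eq_inl hw
    refine Subtype.ext ?_
    show π fFour * π fFour * y * (π fFour * π fFour)⁻¹ = (y : G)⁻¹
    rw [← e, ← map_mul, ← map_inv, ← map_mul, ← map_mul, ← map_inv, hwe]
    exact congrArg π (inverts_a _ hwl)
  · intro n hn
    obtain ⟨z, hz, hza⟩ := E.factor_normalizer axis_a F hP (F.le n.2) fun w hw => by
      have hwL : π w ∈ L := (F.plane_iff w (mem_hyper.1 hw).1).2 hw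
      obtain ⟨w', hw', e⟩ := (hP _).1
        ((Subgroup.mem_normalizer_iff.1 hn ⟨π w, hwL⟩).1 ((hP _).2 ⟨w, hw, rfl⟩))
      exact ⟨w', hw', e.symm⟩
    obtain ⟨k, hk⟩ := quarter_a z hza
    refine ⟨k, k.2, mem_sylow_of_plane F hP (z := z * fFour ^ (k : ℕ)) hk ?_⟩
    simp [hz]
  · intro p hp hp1 g hg
    obtain ⟨w, hw, e⟩ := (hP p).1 hp
    obtain ⟨hwe, hwl⟩ := hyper_eq_inl hw
    have hw1 : w.left ≠ 1 := fun h => hp1 (Subtype.ext (by rw [← e, hwe, h, map_one, map_one]; rfl))
    have hga : Commute (g : G) (π aAx) := Subgroup.mem_centralizer_singleton_iff.1 (F.le g.2)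
    have hgw : Commute (g : G) (π w) := by
      rw [e]; exact congrArg Subtype.val (Subgroup.mem_centralizer_singleton_iff.1 hg)
    have hb : ∀ v : Multiplicative V3, lA v.toAdd = 0 → v ≠ 1 →
        ∃ q : Q, ∃ d : Bool, q * bAx * q⁻¹ = if d then aAx * SemidirectProduct.inl v
          else (SemidirectProduct.inl v : Q) := by decide +kernel
    obtain ⟨q, d, hq⟩ := hb w.left hwl hw1
    have hgr : (g : G) ∈ π.range := by
      refine centralizer_le_range_conj q (E.centralizer_b hST) ?_
      rw [hq]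
      refine Subgroup.mem_centralizer_singleton_iff.2 ?_
      split_ifs
      · rw [← hwe, map_mul]; exact (hga.mul_right hgw).eq
      · rw [← hwe]; exact hgw.eq
    obtain ⟨z, hz⟩ := hgr
    refine mem_sylow_of_plane F hP (right_of_two_comm_a w.left hwl hw1 z (E.inj ?_) (E.inj ?_)) hz
    · rw [map_mul, map_mul, hz]; exact hga.eq
    · rw [← hwe, map_mul, map_mul, hz]; exact hgw.eq
  · intro h
    have e := E.inj ((congrArg Subtype.val h).trans (map_one π).symm)
    revert e
    decide +kernel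
  · intro h
    have e := E.inj ((congrArg Subtype.val h).trans (map_one π).symm)
    revert e
    decide +kernel
  · intro g h
    refine E.not_conj_weight rfl rfl ?_ (g : G) (congrArg Subtype.val h)
    decide +kernel

theorem Setting.centralizer_c (E : Setting π) :
    Subgroup.centralizer ({π cAx} : Set G) ≤ π.range := by
  have : Fact (Nat.Prime 3) := ⟨Nat.prime_three⟩
  set C := Subgroup.centralizer ({π cAx} : Set G)
  have hSC : sylSub.map π ≤ C := by
    rintro _ ⟨s, hs, rfl⟩
    refine Subgroup.mem_centralizer_singleton_iff.2 ?_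
    rw [← map_mul, ← map_mul, (centralizer_c_iff s).2 hs]
  let T : Sylow 3 C :=
    { toSubgroup := (sylSub.map π).subgroupOf C
      isPGroup' := isPGroup_sylSub_map.comap_subtype
      is_maximal' := fun {R} hR hle => by
        have e := E.eq_syl (hR.map C.subtype) fun z hz => ⟨⟨z, hSC hz⟩, hle hz, rfl⟩
        rw [← e, Subgroup.subgroupOf, Subgroup.comap_map_eq_self_of_injective C.subtype_injective] }
  have hJC : plane.map π ≤ C := (Subgroup.map_mono plane_le_sylSub).trans hSC
  set JT : Subgroup (T : Subgroup C) := ((plane.map π).subgroupOf C).subgroupOf (T : Subgroup C)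
  have hJT : (plane.map π).subgroupOf C ≤ (T : Subgroup C) :=
    fun y hy => Subgroup.map_mono plane_le_sylSub hy
  have hJTcard : Nat.card JT = 27 := by
    rw [Cores.card_subgroupOf hJT, Cores.card_subgroupOf hJC, E.card_plane_map]
  have hJTel : IsElementaryAbelian 3 JT := by
    refine ⟨⟨⟨fun a b => Subtype.ext (Subtype.ext (Subtype.ext (plane_map_comm a.2 b.2)))⟩⟩,
      fun a ha => Subtype.ext (Subtype.ext ?_)⟩
    obtain ⟨w, hw, e⟩ := ha
    simp only [Subgroup.coe_pow, Subgroup.coe_one]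
    show ((a : C) : G) ^ 3 = 1
    rw [show ((a : C) : G) = π w from e.symm, ← map_pow, pow_three_of_right hw, map_one]
  have huniq : ∀ A : Subgroup (T : Subgroup C), IsElementaryAbelian 3 A → 27 ≤ Nat.card A → A = JT := by
    intro A hA hc
    set f : (T : Subgroup C) →* G := C.subtype.comp (T : Subgroup C).subtype
    have hf : Function.Injective f := Subtype.val_injective.comp Subtype.val_injective
    have hcomm : ∀ a ∈ A.map f, ∀ b ∈ A.map f, a * b = b * a := by
      rintro _ ⟨a, ha, rfl⟩ _ ⟨b, hb, rfl⟩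
      rw [← map_mul, ← map_mul]
      exact congrArg f (congrArg Subtype.val (hA.1.is_comm.comm ⟨a, ha⟩ ⟨b, hb⟩))
    have hle : A.map f ≤ sylSub.map π := by rintro _ ⟨a, -, rfl⟩; exact a.2
    have hcard : Nat.card (A.map f) = Nat.card A := Subgroup.card_map_of_injective hf
    have h81 : Nat.card A ∣ 81 := by
      rw [← hcard, ← E.card_syl_map]; exact Subgroup.card_dvd_of_le hle
    have h27 : Nat.card A = 27 := by
      rw [show (81 : ℕ) = 3 ^ 4 by norm_num, Nat.dvd_prime_pow Nat.prime_three] at h81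
      obtain ⟨m, hm, e⟩ := h81
      rw [e] at hc ⊢
      interval_cases m <;> first | omega | exfalso
      have e81 : A.map f = sylSub.map π :=
        Subgroup.eq_of_le_of_card_ge hle (by rw [hcard, e, E.card_syl_map]; norm_num)
      have hr : π rotQ ∈ A.map f :=
        e81 ▸ Subgroup.mem_map_of_mem π (show rotQ ∈ sylSub from ⟨rfl, rfl, rfl⟩)
      have ha : π aAx ∈ A.map f :=
        e81 ▸ Subgroup.mem_map_of_mem π (show aAx ∈ sylSub from ⟨rfl, rfl, rfl⟩)
      have hne : rotQ * aAx ≠ aAx * rotQ := by decide +kernel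
      exact hne (E.inj (by rw [map_mul, map_mul]; exact hcomm _ hr _ ha))
    refine Subgroup.map_injective hf ?_
    rw [E.unique_in_syl hle (hcard.trans h27) hcomm]
    refine (Subgroup.eq_of_le_of_card_ge ?_ ?_).symm
    · rintro _ ⟨a, ha, rfl⟩; exact ha
    · rw [Subgroup.card_map_of_injective hf, hJTcard, E.card_plane_map]
  have hthom : Cfsg.thompsonSubgroupOf 3 (T : Subgroup C) = (plane.map π).subgroupOf C := by
    have e : Cfsg.thompsonSubgroup 3 (T : Subgroup C) = JT := by
      refine le_antisymm (sSup_le ?_) (le_sSup ⟨hJTel, fun B hB => ?_⟩)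
      · rintro A ⟨hA, hmax⟩
        exact (huniq A hA (hJTcard ▸ hmax JT hJTel)).le
      · rcases le_total (Nat.card B) 27 with h | h
        · exact hJTcard ▸ h
        · exact (huniq B hB h).symm ▸ le_rfl
    rw [Cfsg.thompsonSubgroupOf, e, Subgroup.subgroupOf_map_subtype, inf_of_le_left hJT]
  have hZJ : Cfsg.centerThompsonOf 3 (T : Subgroup C) = (plane.map π).subgroupOf C := by
    rw [Cfsg.centerThompsonOf, hthom]
    refine inf_of_le_left fun a ha b hb => Subtype.ext ?_
    exact plane_map_comm hb ha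
  have hN : Subgroup.normalizer (Cfsg.centerThompsonOf 3 (T : Subgroup C) : Set C) ≤ (T : Subgroup C) := by
    rw [hZJ]
    intro g hg
    obtain ⟨z, hz⟩ := E.mem_range_of_map (g := (g : G)) fun v hv =>
      (Subgroup.mem_normalizer_iff.1 hg ⟨v, hJC hv⟩).1 hv
    refine ⟨z, (centralizer_c_iff z).1 (E.inj ?_), hz⟩
    rw [map_mul, map_mul, hz]
    exact Subgroup.mem_centralizer_singleton_iff.1 g.2
  obtain ⟨T', N, hNn, hcompl⟩ := (S0117.result (p := 3) (by norm_num) T).2 (by
    set Nm := Subgroup.normalizer (Cfsg.centerThompsonOf 3 (T : Subgroup C) : Set C)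
    have hp : IsPGroup 3 Nm := T.isPGroup'.to_le hN
    refine ⟨{ toSubgroup := ⊤, isPGroup' := hp.to_subgroup _,
              is_maximal' := fun _ h => top_le_iff.1 h }, ⊥, inferInstance, ?_⟩
    exact Subgroup.isComplement'_bot_left.2 rfl)
  have hNcop : (Nat.card N).Coprime 3 := by
    rw [← hcompl.index_eq_card]
    exact ((Nat.Prime.coprime_iff_not_dvd Nat.prime_three).2 T'.not_dvd_index).symm
  have hNbot : N = ⊥ := le_bot_iff.1 (E.core cAx rfl axes_facts.2.2.2.2.2.1 ▸ le_sSup ⟨hNn, hNcop⟩)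
  rw [hNbot, Subgroup.isComplement'_bot_left] at hcompl
  intro g hg
  have hgp : IsPGroup 3 C := by
    have := T'.isPGroup'
    rw [hcompl] at this
    exact this.of_equiv Subgroup.topEquiv
  have e := T.is_maximal' (hgp.to_subgroup ⊤) le_top
  have hgT : (⟨g, hg⟩ : C) ∈ (T : Subgroup C) := e ▸ Subgroup.mem_top _
  obtain ⟨s, -, hs⟩ := (hgT : g ∈ sylSub.map π)
  exact ⟨s, hs⟩

end Cfsg.Agent.AltNineThree
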