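import Cfsg.Agent.Lib.AltPresent.Carmichael
import Cfsg.Agent.Lib.AltAut.Odd

/-!
# Isomorphisms with `A6` normalised at an element of order three

* `exists_exotic`: an automorphism taking `(012)` to a product of two three-cycles
* `exists_iso_cyc`: every element of order three can be sent to `(012)`
-/

set_option autoImplicit false

namespace Cfsg.Agent.AltNineThree

open Equiv

/-- `(012)`. -/
def c0 : Perm (Fin 6) := swap 0 1 * swap 1 2
/-- `(345)`. -/
def c1 : Perm (Fin 6) := swap 3 4 * swap 4 5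

theorem c0_mem : c0 ∈ alternatingGroup (Fin 6) := by
  rw [Perm.mem_alternatingGroup]; decide +kernel

theorem c1_mem : c1 ∈ alternatingGroup (Fin 6) := by
  rw [Perm.mem_alternatingGroup]; decide +kernel

/-- `(012)` in `A6`. -/
def c0A : alternatingGroup (Fin 6) := ⟨c0, c0_mem⟩
/-- `(345)` in `A6`. -/
def c1A : alternatingGroup (Fin 6) := ⟨c1, c1_mem⟩

/-- Double three-cycles with the relations of three-cycles. -/
def exoticGen : Fin 4 → Perm (Fin 6) :=
  ![swap 0 1 * swap 1 2 * (swap 3 4 * swap 4 5), swap 0 2 * swap 2 4 * (swap 1 3 * swap 3 5),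
    swap 0 3 * swap 3 1 * (swap 2 5 * swap 5 4), swap 0 4 * swap 4 3 * (swap 1 5 * swap 5 2)]

theorem exoticGen_facts : (∀ i, exoticGen i * (exoticGen i * exoticGen i) = 1) ∧
    (∀ i j, i ≠ j → exoticGen i * exoticGen j * (exoticGen i * exoticGen j) = 1) ∧
    (∀ i, Perm.sign (exoticGen i) = 1) := by decide +kernel

theorem exists_exotic : ∃ (α : MulAut (alternatingGroup (Fin 6))),
    ((α c0A : alternatingGroup (Fin 6)) : Perm (Fin 6)).support.card = 6 := by
  obtain ⟨h3, h2, hs⟩ := exoticGen_facts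
  let x : Fin 4 → alternatingGroup (Fin 6) := fun i => ⟨exoticGen i, Perm.mem_alternatingGroup.2 (hs i)⟩
  obtain ⟨φ, hφ, -⟩ := AltPresent.exists_hom x
    (fun i => Subtype.ext (by simpa [pow_succ', mul_assoc] using h3 i))
    (fun i j hij => Subtype.ext (by simpa [pow_two] using h2 i j hij))
  let e : Fin 2 ⊕ Fin 4 ≃ Fin 6 := finSumFinEquiv
  let ψ : alternatingGroup (Fin 6) →* alternatingGroup (Fin 6) :=
    φ.comp e.altCongrHom.symm.toMonoidHom
  have hc : ψ c0A = x 0 := by
    have e0 : e.altCongrHom.symm c0A = ⟨AltPresent.cyc (0 : Fin 4), AltPresent.cyc_mem_alternatingGroup _⟩ := by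
      rw [MulEquiv.symm_apply_eq]
      refine Subtype.ext ?_
      decide +kernel
    show φ (e.altCongrHom.symm c0A) = _
    rw [e0, hφ]
  have : IsSimpleGroup (alternatingGroup (Fin 6)) :=
    alternatingGroup.isSimpleGroup (by simp)
  have hinj : Function.Injective ψ := by
    rw [← MonoidHom.ker_eq_bot_iff]
    refine (IsSimpleGroup.eq_bot_or_eq_top_of_normal ψ.ker inferInstance).resolve_right fun h => ?_
    have h1 : ψ c0A = 1 := MonoidHom.mem_ker.1 (h ▸ Subgroup.mem_top _)
    rw [hc] at h1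
    exact absurd (congrArg Subtype.val h1) (by decide +kernel : exoticGen 0 ≠ 1)
  refine ⟨MulEquiv.ofBijective ψ (Finite.injective_iff_bijective.1 hinj), ?_⟩
  show ((ψ c0A : alternatingGroup (Fin 6)) : Perm (Fin 6)).support.card = 6
  rw [hc]
  show (exoticGen 0).support.card = 6
  decide +kernel

theorem order_three_types : ∀ σ : Perm (Fin 6), σ * (σ * σ) = 1 → σ ≠ 1 →
    σ.support.card = 3 ∨ σ.support.card = 6 := by decide +kernel

theorem cycleType_six {σ : Perm (Fin 6)} (h3 : σ ^ 3 = 1) (h6 : σ.support.card = 6) :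
    σ.cycleType = {3, 3} := by
  have : Fact (Nat.Prime 3) := ⟨Nat.prime_three⟩
  have ho : orderOf σ = 3 := orderOf_eq_prime h3 fun h => by simp [h] at h6
  have hall : ∀ m ∈ σ.cycleType, m = 3 := fun m hm => by
    have hd := ho ▸ Perm.dvd_of_mem_cycleType hm
    rcases (Nat.dvd_prime Nat.prime_three).1 hd with h | h
    · exact absurd (Perm.two_le_of_mem_cycleType hm) (by omega)
    · exact h
  have hsum := Perm.sum_cycleType σ
  rw [Multiset.eq_replicate_card.2 hall, h6, Multiset.sum_replicate, smul_eq_mul] at hsum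
  rw [Multiset.eq_replicate_card.2 hall, show σ.cycleType.card = 2 by omega]
  rfl

/-- An element of order three can be sent to `(012)`. -/
theorem exists_iso_cyc {L : Type*} [Group L] (e : L ≃* alternatingGroup (Fin 6)) {a : L}
    (ha : a ^ 3 = 1) (ha1 : a ≠ 1) : ∃ e' : L ≃* alternatingGroup (Fin 6), e' a = c0A := by
  have hconj : ∀ (β : L ≃* alternatingGroup (Fin 6)) (t : alternatingGroup (Fin 6)),
      IsConj (β a : Perm (Fin 6)) (t : Perm (Fin 6)) → ∃ e' : L ≃* alternatingGroup (Fin 6), e' a = t := by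
    intro β t h
    obtain ⟨σ, hσ⟩ := isConj_iff.1 h
    refine ⟨β.trans (MulAut.conjNormal σ), Subtype.ext ?_⟩
    rw [MulEquiv.trans_apply, MulAut.conjNormal_apply]
    exact hσ
  have h3 : ∀ β : L ≃* alternatingGroup (Fin 6), (β a : Perm (Fin 6)) ^ 3 = 1 := fun β => by
    rw [← Subgroup.coe_pow, ← map_pow, ha, map_one]; rfl
  have hc0 : c0.support.card = 3 := by decide +kernel
  have hne : (e a : Perm (Fin 6)) ≠ 1 := fun h => ha1 (e.injective ((Subtype.ext h).trans e.map_one.symm))
  rcases order_three_types _ (by have := h3 e; simpa [pow_succ', mul_assoc] using this) hne with h | h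
  · refine hconj e c0A (Perm.isConj_iff_cycleType_eq.2 ?_)
    exact (card_support_eq_three_iff.1 h).trans (card_support_eq_three_iff.1 hc0).symm
  · obtain ⟨α, hα⟩ := exists_exotic
    have hα3 : (α c0A : Perm (Fin 6)) ^ 3 = 1 := by
      rw [← Subgroup.coe_pow, ← map_pow, show c0A ^ 3 = 1 by decide +kernel, map_one]; rfl
    obtain ⟨e', he'⟩ := hconj e (α c0A) (Perm.isConj_iff_cycleType_eq.2
      ((cycleType_six (h3 e) h).trans (cycleType_six hα3 hα).symm))
    exact ⟨e'.trans α.symm, by rw [MulEquiv.trans_apply, he', MulEquiv.symm_apply_apply]⟩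

end Cfsg.Agent.AltNineThree
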