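import Cfsg.Agent.Lib.HallHigman.PLengthBasic
import Cfsg.Agent.Lib.Cores.Basic
import Cfsg.Agent.Lib.Transfer.Criteria
import Cfsg.Agent.S3341

/-!
# Groups with a self-centralizing Sylow subgroup of order nine

* `SmithTyrer`: the inertial index two criterion at the prime three
* `exists_complement`: a central element outside the kernel of a transfer
* `normal_or_simple`, `normal_or_alt_six`: an automizer of order four
-/

set_option autoImplicit false

namespace Cfsg.Agent.AltNineThree

open Cfsg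

universe u

/-- The criterion of Smith and Tyrer at the prime three. -/
def SmithTyrer : Prop :=
  ∀ (K : Type u) [Group K] [Finite K] (P : Sylow 3 K), IsMulCommutative (P : Subgroup K) →
    ¬ IsCyclic (P : Subgroup K) →
    ((Subgroup.centralizer ((P : Subgroup K) : Set K)).subgroupOf
      (Subgroup.normalizer ((P : Subgroup K) : Set K))).index = 2 →
    Cfsg.pResidual 3 K ≠ ⊤ ∨ Cfsg.PLengthLE 3 1 K

variable {K : Type u} [Group K] [Finite K]

theorem exists_complement (P : Sylow 3 K) {z : K} (hz : z ∈ Subgroup.center K)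
    (hzP : z ∈ (P : Subgroup K)) (φ : (P : Subgroup K) →* Multiplicative (ZMod 3))
    (hφ : φ ⟨z, hzP⟩ ≠ 1) :
    ∃ L : Subgroup K, L.Normal ∧ z ∉ L ∧ (∀ a b : K, a * b * a⁻¹ * b⁻¹ ∈ L) ∧
      ∀ m : K, ∃ k : ℕ, z ^ k * m ∈ L := by
  have key : ∀ (k : ℕ) (g₀ : K), g₀⁻¹ * z ^ k * g₀ ∈ (P : Subgroup K) →
      g₀⁻¹ * z ^ k * g₀ = z ^ k := fun k g₀ _ => by
    rw [mul_assoc, ← Subgroup.mem_center_iff.1 (pow_mem hz k) g₀, inv_mul_cancel_left]
  let τ := MonoidHom.transfer φ
  have hτ : τ z ≠ 1 := by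
    have e : τ z = φ ⟨z, hzP⟩ ^ (P : Subgroup K).index := by
      rw [← map_pow]
      exact MonoidHom.transfer_eq_pow φ z key
    rw [e]
    have hne : ¬ 3 ∣ (P : Subgroup K).index :=
      haveI := Fact.mk Nat.prime_three; P.not_dvd_index
    generalize (P : Subgroup K).index = n at hne
    generalize φ ⟨z, hzP⟩ = y at hφ
    have hy : y ^ 3 = 1 := by revert y; decide
    rw [← Nat.mod_add_div n 3, pow_add, pow_mul, hy, one_pow, mul_one]
    have : n % 3 = 1 ∨ n % 3 = 2 := by omega
    rcases this with h | h <;> rw [h] <;> revert hφ <;> revert hy <;> revert y <;> decide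
  refine ⟨τ.ker, inferInstance, fun h => hτ h, fun a b => ?_, fun m => ?_⟩
  · rw [MonoidHom.mem_ker, map_mul, map_mul, map_mul, map_inv, map_inv, mul_comm (τ a) (τ b),
      mul_inv_cancel_right, mul_inv_cancel]
  · have hall : ∀ y w : Multiplicative (ZMod 3), y ≠ 1 → ∃ k : Fin 3, y ^ (k : ℕ) * w = 1 := by
      decide
    obtain ⟨k, hk⟩ := hall (τ z) (τ m) hτ
    exact ⟨k, by rw [MonoidHom.mem_ker, map_mul, map_pow, hk]⟩

/-- The hypothesis shared by the criteria. -/
structure NineSylow (P : Sylow 3 K) : Prop where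
  comm : IsMulCommutative (P : Subgroup K)
  exp : ∀ p ∈ (P : Subgroup K), p ^ 3 = 1
  card : Nat.card (P : Subgroup K) = 9
  self : Subgroup.centralizer ((P : Subgroup K) : Set K) ≤ P
  core : Cfsg.pPrimeCore 3 K = ⊥

variable {P : Sylow 3 K}

theorem NineSylow.not_cyclic (h : NineSylow P) : ¬ IsCyclic (P : Subgroup K) := by
  intro hc
  obtain ⟨g, hg⟩ := IsCyclic.exists_generator (α := (P : Subgroup K))
  have e : Nat.card (P : Subgroup K) = orderOf g := (orderOf_eq_card_of_forall_mem_zpowers hg).symm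
  have h3 : orderOf g ∣ 3 :=
    orderOf_dvd_of_pow_eq_one (Subtype.ext (by simpa using h.exp g g.2))
  rw [← e, h.card] at h3
  exact absurd (Nat.le_of_dvd (by norm_num) h3) (by norm_num)

theorem normal_of_pResidual (h : NineSylow P) (hp : Cfsg.PLengthLE 3 1 K) :
    (P : Subgroup K).Normal := by
  have : Fact (Nat.Prime 3) := ⟨Nat.prime_three⟩
  haveI := Cores.pCore_normal 3 K
  have h0 := HallHigman.pLengthLE_zero_iff.1
    (HallHigman.pLengthLE_quotient_pCore (k := 0) h.core hp)
  have hcop : (Nat.card (K ⧸ Cfsg.pCore 3 K)).Coprime 3 := by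
    have := Cores.coprime_card_pPrimeCore (G := K ⧸ Cfsg.pCore 3 K) 3
    rwa [h0, Subgroup.card_top] at this
  have hle := Cores.pCore_le_sylow P
  have e : Cfsg.pCore 3 K = (P : Subgroup K) := by
    refine Subgroup.eq_of_le_of_card_ge hle (Nat.le_of_dvd Nat.card_pos ?_)
    have h1 : Nat.card (P : Subgroup K) ∣ Nat.card (Cfsg.pCore 3 K) * (Cfsg.pCore 3 K).index :=
      (Subgroup.card_mul_index (Cfsg.pCore 3 K)).symm ▸ Subgroup.card_subgroup_dvd_card (P : Subgroup K)
    refine (Nat.Coprime.dvd_of_dvd_mul_right ?_ h1)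
    rw [h.card, Subgroup.index_eq_card]
    exact (Nat.Coprime.pow_right 2 hcop).symm
  exact e ▸ inferInstance

/-- Inertial index two. -/
theorem normal_of_inverted (hST : SmithTyrer.{u}) (h : NineSylow P) {t : K} (ht : t * t = 1)
    (htN : t ∈ Subgroup.normalizer ((P : Subgroup K) : Set K))
    (hinv : ∀ p ∈ (P : Subgroup K), t * p * t⁻¹ = p⁻¹)
    (hN : ∀ n ∈ Subgroup.normalizer ((P : Subgroup K) : Set K),
      n ∈ (P : Subgroup K) ∨ n * t ∈ (P : Subgroup K)) : (P : Subgroup K).Normal := by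
  have : Fact (Nat.Prime 3) := ⟨Nat.prime_three⟩
  have hPC : (P : Subgroup K) ≤ Subgroup.centralizer ((P : Subgroup K) : Set K) := fun x hx y hy => by
    exact congrArg Subtype.val (h.comm.is_comm.comm ⟨y, hy⟩ ⟨x, hx⟩)
  have hnt : t ∉ (P : Subgroup K) := fun htP => by
    have h2 : t = 1 := by
      have e := h.exp t htP
      rwa [pow_succ, pow_two, ht, one_mul] at e
    have : (P : Subgroup K) = ⊥ := (Subgroup.eq_bot_iff_forall _).2 fun p hp => by
      have e := hinv p hp
      rw [h2, one_mul, inv_one, mul_one, eq_inv_iff_mul_eq_one] at e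
      have e3 := h.exp p hp
      rwa [pow_succ, pow_two, e, one_mul] at e3
    have := h.card
    simp [‹(P : Subgroup K) = ⊥›] at this
  have hidx : ((Subgroup.centralizer ((P : Subgroup K) : Set K)).subgroupOf
      (Subgroup.normalizer ((P : Subgroup K) : Set K))).index = 2 := by
    refine Subgroup.index_eq_two_iff.2 ⟨⟨t, htN⟩, fun b => ?_⟩
    rcases hN b b.2 with hb | hb
    · refine Or.inr ⟨hPC hb, fun hbt => hnt ?_⟩
      have := mul_mem (inv_mem hb) (h.self hbt)
      simpa using this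
    · refine Or.inl ⟨hPC hb, fun hb' => hnt ?_⟩
      have := mul_mem (inv_mem (h.self hb')) hb
      simpa using this
  refine (hST K P h.comm h.not_cyclic hidx).elim (fun hR => (hR ?_).elim) (normal_of_pResidual h)
  haveI := Transfer.pResidual_normal (p := 3) (G := K)
  set R := Cfsg.pResidual 3 K
  have htR : t ∈ R := Transfer.mem_pResidual_of_coprime (by
    have : orderOf t ∣ 2 := orderOf_dvd_of_pow_eq_one (by rw [pow_two, ht])
    exact Nat.Coprime.coprime_dvd_left this (by norm_num))
  have hPR : (P : Subgroup K) ≤ R := fun p hp => by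
    have h1 : t * p * t⁻¹ * p⁻¹ ∈ R := by
      rw [mul_assoc, mul_assoc, ← mul_assoc p]
      exact R.mul_mem htR (Subgroup.Normal.conj_mem inferInstance _ (R.inv_mem htR) p)
    rw [hinv p hp] at h1
    have e : p = p⁻¹ * p⁻¹ := by
      rw [eq_comm, ← mul_inv_rev, inv_eq_iff_mul_eq_one]
      simpa [pow_succ] using h.exp p hp
    rwa [← e] at h1
  obtain ⟨k, hk⟩ := Transfer.exists_index_pResidual (G := K) (p := 3)
  refine Subgroup.index_eq_one.1 ?_
  have hd := Subgroup.index_dvd_of_le hPR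
  rw [hk] at hd ⊢
  cases k with
  | zero => rfl
  | succ k => exact absurd ((dvd_pow_self 3 (Nat.succ_ne_zero k)).trans hd) P.not_dvd_index

theorem normal_of_central (h : NineSylow P)
    (hN : Subgroup.normalizer ((P : Subgroup K) : Set K) ≤ Subgroup.centralizer ((P : Subgroup K) : Set K)) :
    (P : Subgroup K).Normal := by
  have : Fact (Nat.Prime 3) := ⟨Nat.prime_three⟩
  have hc := MonoidHom.ker_transferSylow_isComplement' P hN
  have hcop : (Nat.card (MonoidHom.transferSylow P hN).ker).Coprime 3 := by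
    rw [← hc.index_eq_card]
    exact ((Nat.Prime.coprime_iff_not_dvd Nat.prime_three).2 P.not_dvd_index).symm
  have hbot : (MonoidHom.transferSylow P hN).ker = ⊥ :=
    le_bot_iff.1 (h.core ▸ le_sSup ⟨inferInstance, hcop⟩)
  have : (P : Subgroup K) = ⊤ := by
    rw [hbot, Subgroup.isComplement'_bot_left] at hc; exact hc
  rw [this]
  infer_instance

/-- Inertial index four. -/
theorem normal_or_simple (hST : SmithTyrer.{u}) (h : NineSylow P) {f : K} (hf : f * f * (f * f) = 1)
    (hfN : f ∈ Subgroup.normalizer ((P : Subgroup K) : Set K))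
    (hinv : ∀ p ∈ (P : Subgroup K), f * f * p * (f * f)⁻¹ = p⁻¹)
    (hN : ∀ n ∈ Subgroup.normalizer ((P : Subgroup K) : Set K),
      ∃ k < 4, n * f ^ k ∈ (P : Subgroup K)) :
    (P : Subgroup K).Normal ∨ IsSimpleGroup K := by
  have : Fact (Nat.Prime 3) := ⟨Nat.prime_three⟩
  have hnt : Nontrivial K := by
    rw [← Finite.one_lt_card_iff_nontrivial]
    exact lt_of_lt_of_le (by rw [h.card]; norm_num) (Subgroup.card_le_card_group (P : Subgroup K))
  by_cases hP : (P : Subgroup K).Normal
  · exact Or.inl hP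
  refine Or.inr ⟨fun R hR => ?_⟩
  by_cases hb : R = ⊥
  · exact Or.inl hb
  refine Or.inr ?_
  haveI := hR
  have h3 : 3 ∣ Nat.card R := by
    by_contra h3
    exact hb (le_bot_iff.1 (h.core ▸ le_sSup
      ⟨hR, (Nat.Prime.coprime_iff_not_dvd Nat.prime_three).2 h3 |>.symm⟩))
  obtain ⟨x, hx⟩ := exists_prime_orderOf_dvd_card' (G := R) 3 h3
  have hxp : IsPGroup 3 (Subgroup.zpowers (x : K)) := IsPGroup.of_card (n := 1) (by
    rw [Nat.card_zpowers, Subgroup.orderOf_coe, hx, pow_one])
  obtain ⟨T, hT⟩ := hxp.exists_le_sylow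
  obtain ⟨c, hc⟩ := MulAction.exists_smul_eq K T P
  set p := c * (x : K) * c⁻¹
  have hpP : p ∈ (P : Subgroup K) := by
    rw [← hc]; exact ⟨x, hT (Subgroup.mem_zpowers _), rfl⟩
  have hpR : p ∈ R := hR.conj_mem _ x.2 c
  have hp1 : p ≠ 1 := fun e => by
    rw [conj_eq_one_iff, OneMemClass.coe_eq_one] at e
    rw [e, orderOf_one] at hx
    exact absurd hx (by norm_num)
  have hqP : f * p * f⁻¹ ∈ (P : Subgroup K) := (Subgroup.mem_normalizer_iff.1 hfN p).1 hpP
  have hord : orderOf p = 3 := orderOf_eq_prime (h.exp p hpP) hp1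
  have hPR : (P : Subgroup K) ≤ R := by
    have hle : Subgroup.closure ({p, f * p * f⁻¹} : Set K) ≤ (P : Subgroup K) :=
      (Subgroup.closure_le _).2 (by rintro y (rfl | rfl); exacts [hpP, hqP])
    have he : Subgroup.closure ({p, f * p * f⁻¹} : Set K) = (P : Subgroup K) := by
      refine Subgroup.eq_of_le_of_card_ge hle ?_
      have hd := Subgroup.card_dvd_of_le hle
      rw [h.card, show (9 : ℕ) = 3 ^ 2 by norm_num, Nat.dvd_prime_pow Nat.prime_three] at hd
      obtain ⟨m, hm, hcd⟩ := hd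
      have hz : Subgroup.zpowers p ≤ Subgroup.closure ({p, f * p * f⁻¹} : Set K) :=
        Subgroup.zpowers_le.2 (Subgroup.subset_closure (by simp))
      have h1 := Subgroup.card_le_of_le hz
      rw [Nat.card_zpowers, hord, hcd] at h1
      rw [hcd, h.card]
      interval_cases m
      · norm_num at h1
      · exfalso
        have e := Subgroup.eq_of_le_of_card_ge hz (by rw [hcd, Nat.card_zpowers, hord]; norm_num)
        have hq : f * p * f⁻¹ ∈ Subgroup.zpowers p := e ▸ Subgroup.subset_closure (by simp)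
        obtain ⟨i, hi⟩ := Subgroup.mem_zpowers_iff.1 hq
        have e2 : f * f * p * (f * f)⁻¹ = p ^ (i * i) := by
          rw [zpow_mul, hi, conj_zpow, hi]; group
        rw [hinv p hpP] at e2
        have hmod := orderOf_dvd_iff_zpow_eq_one.2 (show p ^ (i * i + 1) = 1 by
          rw [zpow_add, zpow_one, ← e2, inv_mul_cancel])
        rw [hord] at hmod
        have key : ∀ y : ZMod 3, y * y + 1 ≠ 0 := by decide +revert
        exact key (i : ZMod 3) (by
          have := (ZMod.intCast_zmod_eq_zero_iff_dvd _ 3).2 hmod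
          push_cast at this
          exact this)
      · norm_num
    rw [← he]
    exact (Subgroup.closure_le _).2 (by rintro y (rfl | rfl); exacts [hpR, hR.conj_mem _ hpR f])
  by_contra hRtop
  have hfR : f ∉ R := fun hfR => hRtop (top_le_iff.1 (by
    rw [← Sylow.normalizer_sup_eq_top' P hPR]
    refine sup_le (fun n hn => ?_) le_rfl
    obtain ⟨k, -, hk⟩ := hN n hn
    have := R.mul_mem (hPR hk) (R.inv_mem (R.pow_mem hfR k))
    rwa [mul_inv_cancel_right] at this))
  let PR : Sylow 3 R := P.subtype hPR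
  have hmem : ∀ y : R, y ∈ (PR : Subgroup R) ↔ (y : K) ∈ (P : Subgroup K) := fun y => Iff.rfl
  have hnine : NineSylow PR := by
    refine ⟨⟨⟨fun a b => Subtype.ext (Subtype.ext (by
      have e := congrArg Subtype.val (h.comm.is_comm.comm ⟨_, (hmem a).1 a.2⟩ ⟨_, (hmem b).1 b.2⟩)
      exact e))⟩⟩, fun y hy => ?_, ?_, ?_, ?_⟩
    · exact Subtype.ext (by simpa using h.exp y ((hmem y).1 hy))
    · exact (Cores.card_subgroupOf hPR).trans h.card
    · exact fun y hy => (hmem y).2 (h.self fun q hq =>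
        congrArg Subtype.val (hy ⟨q, hPR hq⟩ ((hmem _).2 hq)))
    · refine (Subgroup.map_eq_bot_iff_of_injective _ R.subtype_injective).1 (le_bot_iff.1 ?_)
      rw [← h.core]
      exact le_sSup ⟨Cores.map_subtype_normal_of_characteristic R _, by
        rw [Cores.card_map_subtype]; exact Cores.coprime_card_pPrimeCore 3⟩
  have hnorm : ∀ n ∈ Subgroup.normalizer ((PR : Subgroup R) : Set R),
      (n : K) ∈ Subgroup.normalizer ((P : Subgroup K) : Set K) := fun n hn => by
    refine Subgroup.mem_normalizer_iff.2 fun y => ⟨fun hy => ?_, fun hy => ?_⟩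
    · exact (hmem _).1 ((Subgroup.mem_normalizer_iff.1 hn ⟨y, hPR hy⟩).1 ((hmem _).2 hy))
    · have hyR : y ∈ R := by
        have := R.mul_mem (R.mul_mem (R.inv_mem n.2) (hPR hy)) n.2
        simpa [mul_assoc] using this
      exact (hmem _).1 ((Subgroup.mem_normalizer_iff.1 hn ⟨y, hyR⟩).2 ((hmem _).2 hy))
  have hcase : ∀ n ∈ Subgroup.normalizer ((PR : Subgroup R) : Set R),
      (n : K) ∈ (P : Subgroup K) ∨ ((n : K) * (f * f) ∈ (P : Subgroup K) ∧ f * f ∈ R) := by
    intro n hn
    obtain ⟨k, hk4, hk⟩ := hN _ (hnorm n hn)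
    have hkR : f ^ k ∈ R := by
      have := R.mul_mem (R.inv_mem n.2) (hPR hk)
      rwa [inv_mul_cancel_left] at this
    interval_cases k
    · exact Or.inl (by simpa using hk)
    · exact absurd (by simpa using hkR) hfR
    · exact Or.inr ⟨by rwa [pow_two] at hk, by rwa [pow_two] at hkR⟩
    · refine absurd ?_ hfR
      have e : f ^ 3 = f⁻¹ := by
        rw [eq_inv_iff_mul_eq_one, ← hf]
        simp [pow_succ, mul_assoc]
      rw [e] at hkR
      exact inv_mem_iff.1 hkR
  have hnormal : (PR : Subgroup R).Normal := by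
    by_cases hff : f * f ∈ R
    · refine normal_of_inverted hST hnine (t := ⟨f * f, hff⟩) (Subtype.ext hf) ?_
        (fun y hy => Subtype.ext (hinv y ((hmem y).1 hy))) fun n hn => ?_
      · refine Subgroup.mem_normalizer_iff.2 fun y => ?_
        exact (Subgroup.mem_normalizer_iff.1 (mul_mem hfN hfN) (y : K))
      · rcases hcase n hn with e | ⟨e, -⟩
        exacts [Or.inl ((hmem _).2 e), Or.inr ((hmem _).2 e)]
    · refine normal_of_central hnine fun n hn y hy => ?_
      rcases hcase n hn with e | ⟨-, e⟩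
      · refine Subtype.ext ?_
        have e' := congrArg Subtype.val (h.comm.is_comm.comm ⟨_, (hmem y).1 hy⟩ ⟨_, e⟩)
        exact e'
      · exact absurd e hff
  refine hP ?_
  have e : (P : Subgroup K) = (Cfsg.pCore 3 R).map R.subtype := by
    rw [Cores.pCore_eq_sylow PR (hP := hnormal), Sylow.coe_subtype, Subgroup.subgroupOf_map_subtype,
      inf_of_le_left hPR]
  rw [e]
  exact Cores.map_subtype_normal_of_characteristic R _

/-- Inertial index four with two classes. -/
theorem normal_or_alt_six (hST : SmithTyrer.{u}) (h : NineSylow P) {f : K} (hf : f * f * (f * f) = 1)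
    (hfN : f ∈ Subgroup.normalizer ((P : Subgroup K) : Set K))
    (hinv : ∀ p ∈ (P : Subgroup K), f * f * p * (f * f)⁻¹ = p⁻¹)
    (hN : ∀ n ∈ Subgroup.normalizer ((P : Subgroup K) : Set K),
      ∃ k < 4, n * f ^ k ∈ (P : Subgroup K))
    (hcent : ∀ p ∈ (P : Subgroup K), p ≠ 1 → Subgroup.centralizer ({p} : Set K) ≤ P)
    {x y : K} (hx : x ∈ (P : Subgroup K)) (hx1 : x ≠ 1) (hy : y ∈ (P : Subgroup K)) (hy1 : y ≠ 1)
    (hxy : ∀ g : K, g * x * g⁻¹ ≠ y) :
    (P : Subgroup K).Normal ∨ Nonempty (K ≃* alternatingGroup (Fin 6)) := by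
  refine (normal_or_simple hST h hf hfN hinv hN).imp_right fun hs => ?_
  haveI := hs
  have : Fact (Nat.Prime 3) := ⟨Nat.prime_three⟩
  refine S3341.result P P rfl h.comm h.exp h.card
    ⟨x, y, orderOf_eq_prime (h.exp x hx) hx1, orderOf_eq_prime (h.exp y hy) hy1, hxy⟩
    fun s hs hs1 => le_antisymm (hcent s hs hs1) fun q hq => ?_
  exact Subgroup.mem_centralizer_singleton_iff.2
    (congrArg Subtype.val (h.comm.is_comm.comm ⟨q, hq⟩ ⟨s, hs⟩))

end Cfsg.Agent.AltNineThree
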