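import Cfsg.Agent.Lib.AltNineThree.Setup
import Cfsg.Agent.Lib.AltNineThree.Local

/-!
# The factor of the centralizer of an axis

* `Axis`: the numerical facts about an axis
* `Setting.exists_factor`: `C(x) = <x> × L` with a self-centralizing Sylow subgroup of order nine in `L`
* `Setting.le_range_of_normal`: the normal case
-/

set_option autoImplicit false

namespace Cfsg.Agent.AltNineThree

open Cfsg Cfsg.Agent.ThreeCubedSymFour

/-- A coordinate of the space, as a homomorphism. -/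
def coordHom (l : V3 →+ ZMod 3) : plane →* Multiplicative (ZMod 3) where
  toFun y := Multiplicative.ofAdd (l (y : Q).left.toAdd)
  map_one' := by simp
  map_mul' a b := by
    have ha : (a : Q).right = 1 := a.2
    simp [ha]

/-- The hyperplane where a coordinate vanishes. -/
def hyper (l : V3 →+ ZMod 3) : Subgroup Q := (coordHom l).ker.map plane.subtype

theorem mem_hyper {l : V3 →+ ZMod 3} {y : Q} :
    y ∈ hyper l ↔ y.right = 1 ∧ l y.left.toAdd = 0 := by
  constructor
  · rintro ⟨z, hz, rfl⟩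
    exact ⟨z.2, hz⟩
  · rintro ⟨hy, hl⟩
    exact ⟨⟨y, hy⟩, hl, rfl⟩

/-- The numerical facts about an axis `x` with coordinate `l` and witness `t`. -/
structure Axis (x t : Q) (l : V3 →+ ZMod 3) : Prop where
  right : x.right = 1
  three : ∀ z : Q, z * x = x * z → z * z * z * (z * z * z) * (z * z * z) = 1 → z.right = 1
  comm : t * x = x * t
  coord : l x.left.toAdd ≠ 0
  commutators : ∀ v : Multiplicative V3, l v.toAdd = 0 →
    ∃ u : Multiplicative V3, (SemidirectProduct.inl v : Q) =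
      SemidirectProduct.inl u * t * (SemidirectProduct.inl u)⁻¹ * t⁻¹
  split : ∀ v : Multiplicative V3, ∃ k : Fin 3, ∃ w : Multiplicative V3, l w.toAdd = 0 ∧
    (SemidirectProduct.inl v : Q) = x ^ (k : ℕ) * SemidirectProduct.inl w
  card : Nat.card {v : V3 // l v = 0} = 9

theorem Axis.card_hyper {x t : Q} {l : V3 →+ ZMod 3} (A : Axis x t l) : Nat.card (hyper l) = 9 := by
  rw [← A.card]
  refine Nat.card_congr (Equiv.ofBijective
    (fun y : hyper l => (⟨(y : Q).left.toAdd, (mem_hyper.1 y.2).2⟩ : {v : V3 // l v = 0})) ⟨?_, ?_⟩)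
  · intro a b h
    refine Subtype.ext (SemidirectProduct.ext ?_ ?_)
    · exact Multiplicative.toAdd.injective (congrArg Subtype.val h)
    · rw [(mem_hyper.1 a.2).1, (mem_hyper.1 b.2).1]
  · rintro ⟨v, hv⟩
    exact ⟨⟨SemidirectProduct.inl (Multiplicative.ofAdd v), mem_hyper.2 ⟨rfl, hv⟩⟩, rfl⟩

theorem Axis.exists_split {x t : Q} {l : V3 →+ ZMod 3} (A : Axis x t l) {y : Q} (hy : y.right = 1) :
    ∃ k < 3, ∃ w ∈ hyper l, y = x ^ k * w := by
  obtain ⟨k, w, hw, e⟩ := A.split y.left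
  refine ⟨k, k.2, SemidirectProduct.inl w, mem_hyper.2 ⟨SemidirectProduct.right_inl _, by simpa using hw⟩, ?_⟩
  rw [← e]
  exact SemidirectProduct.ext rfl (by simpa using hy)

variable {G : Type*} [Group G]

/-- `C(π x) = <π x> × L`. -/
structure Factor (π : Q →* G) (x : Q) (l : V3 →+ ZMod 3) (L : Subgroup G) : Prop where
  le : L ≤ Subgroup.centralizer ({π x} : Set G)
  conj : ∀ c ∈ Subgroup.centralizer ({π x} : Set G), ∀ y ∈ L, c * y * c⁻¹ ∈ L
  gen : ∀ c ∈ Subgroup.centralizer ({π x} : Set G), ∃ k < 3, π x ^ k * c ∈ L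
  plane_iff : ∀ y : Q, y.right = 1 → (π y ∈ L ↔ y ∈ hyper l)
  small : ∀ c ∈ Subgroup.centralizer ({π x} : Set G), ∀ n, ¬ 3 ∣ n → c ^ n = 1 → c ∈ L
  core : Cfsg.pPrimeCore 3 L = ⊥

variable [Finite G] {π : Q →* G} (E : Setting π)
include E

theorem Setting.exists_factor {x t : Q} {l : V3 →+ ZMod 3} (A : Axis x t l) :
    ∃ L, Factor π x l L := by
  set C := Subgroup.centralizer ({π x} : Set G) with hC
  have hJC : plane.map π ≤ C := fun z hz =>
    Subgroup.mem_centralizer_singleton_iff.2 (plane_map_comm hz ((mem_plane_map E.inj).2 A.right))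
  let JC : Sylow 3 C :=
    { toSubgroup := (plane.map π).subgroupOf C
      isPGroup' := (IsPGroup.of_card (n := 3) (E.card_plane_map.trans (by norm_num))).comap_subtype
      is_maximal' := fun {R} hR hle => by
        have e := E.eq_plane_of_le A.three (hR.map C.subtype)
          (fun z hz => ⟨⟨z, hJC hz⟩, hle hz, rfl⟩) (Subgroup.map_subtype_le _)
        rw [← e, Subgroup.subgroupOf, Subgroup.comap_map_eq_self_of_injective C.subtype_injective] }
  have hzC : π x ∈ C := Subgroup.mem_centralizer_singleton_iff.2 rfl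
  have hz : (⟨π x, hzC⟩ : C) ∈ Subgroup.center C := Subgroup.mem_center_iff.2 fun g =>
    Subtype.ext (Subgroup.mem_centralizer_singleton_iff.1 g.2)
  have hzJ : (⟨π x, hzC⟩ : C) ∈ (JC : Subgroup C) := (mem_plane_map E.inj).2 A.right
  let φ : (JC : Subgroup C) →* Multiplicative (ZMod 3) := (coordHom l).comp
    ((plane.equivMapOfInjective π E.inj).symm.toMonoidHom.comp
      (Subgroup.subgroupOfEquivOfLe hJC).toMonoidHom)
  have hφ : φ ⟨_, hzJ⟩ ≠ 1 := by
    have e : (plane.equivMapOfInjective π E.inj).symm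
        (Subgroup.subgroupOfEquivOfLe hJC ⟨_, hzJ⟩) = ⟨x, A.right⟩ := by
      rw [MulEquiv.symm_apply_eq]; rfl
    show coordHom l ((plane.equivMapOfInjective π E.inj).symm
      (Subgroup.subgroupOfEquivOfLe hJC ⟨_, hzJ⟩)) ≠ 1
    rw [e]
    exact A.coord
  obtain ⟨L0, hL0, hzL, hcomm, hgen⟩ := exists_complement JC hz hzJ φ hφ
  have hx3 : (⟨π x, hzC⟩ : C) ^ 3 = 1 := Subtype.ext (by
    rw [Subgroup.coe_pow, ← map_pow, pow_three_of_right A.right, map_one]; rfl)
  have hzk : ∀ k, (⟨π x, hzC⟩ : C) ^ k ∈ L0 → 3 ∣ k := by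
    intro k hk
    by_contra h
    refine hzL ?_
    have : ∃ m, (⟨π x, hzC⟩ : C) = ((⟨π x, hzC⟩ : C) ^ k) ^ m := by
      rcases (by omega : k % 3 = 1 ∨ k % 3 = 2) with h1 | h1
      · refine ⟨1, ?_⟩
        rw [pow_one, ← Nat.mod_add_div k 3, h1, pow_add, pow_mul, hx3, one_pow, mul_one, pow_one]
      · refine ⟨2, ?_⟩
        rw [← Nat.mod_add_div k 3, h1, pow_add, pow_mul, hx3, one_pow, mul_one, ← pow_mul,
          show 2 * 2 = 3 + 1 from rfl, pow_add, hx3, one_mul, pow_one]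
    obtain ⟨m, hm⟩ := this
    rw [hm]
    exact pow_mem hk m
  have hplane : ∀ (y : Q) (hy : y.right = 1),
      (⟨π y, hJC ((mem_plane_map E.inj).2 hy)⟩ : C) ∈ L0 ↔ y ∈ hyper l := by
    have hmem : ∀ (y : Q) (hy : y ∈ hyper l),
        (⟨π y, hJC ((mem_plane_map E.inj).2 (mem_hyper.1 hy).1)⟩ : C) ∈ L0 := by
      intro y hy
      obtain ⟨u, hu⟩ := A.commutators y.left (mem_hyper.1 hy).2
      have hy' : y = SemidirectProduct.inl y.left :=
        SemidirectProduct.ext rfl (by simpa using (mem_hyper.1 hy).1)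
      have htC : π t ∈ C :=
        Subgroup.mem_centralizer_singleton_iff.2 (by rw [← map_mul, ← map_mul, A.comm])
      have huC : π (SemidirectProduct.inl u) ∈ C :=
        hJC ((mem_plane_map E.inj).2 (SemidirectProduct.right_inl _))
      convert hcomm ⟨_, huC⟩ ⟨_, htC⟩ using 1
      refine Subtype.ext ?_
      show π y = _
      rw [hy', hu, map_mul, map_mul, map_mul, map_inv, map_inv]
      rfl
    refine fun y hy => ⟨fun h => ?_, hmem y⟩
    obtain ⟨k, hk3, w, hw, rfl⟩ := A.exists_split hy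
    have hk : (⟨π x, hzC⟩ : C) ^ k ∈ L0 := by
      convert L0.mul_mem h (L0.inv_mem (hmem w hw)) using 1
      exact Subtype.ext (by simp)
    obtain ⟨m, rfl⟩ := hzk k hk
    rw [show m = 0 by omega]
    simpa using hw
  refine ⟨L0.map C.subtype, ⟨Subgroup.map_subtype_le _, ?_, ?_, ?_, ?_, ?_⟩⟩
  · rintro c hc _ ⟨y, hy, rfl⟩
    exact ⟨⟨c, hc⟩ * y * ⟨c, hc⟩⁻¹, hL0.conj_mem _ hy _, rfl⟩
  · intro c hc
    obtain ⟨k, hk⟩ := hgen ⟨c, hc⟩
    refine ⟨k % 3, Nat.mod_lt _ (by norm_num), _, hk, ?_⟩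
    show (((⟨π x, hzC⟩ : C) ^ k * ⟨c, hc⟩ : C) : G) = _
    rw [← Nat.mod_add_div k 3, pow_add, pow_mul, hx3, one_pow, mul_one]
    simp [Nat.mod_add_div]
  · intro y hy
    refine ⟨?_, fun h => ⟨_, (hplane y hy).2 h, rfl⟩⟩
    rintro ⟨z, hz', e⟩
    have ez : z = ⟨π y, hJC ((mem_plane_map E.inj).2 hy)⟩ := Subtype.ext e
    exact (hplane y hy).1 (ez ▸ hz')
  · intro c hc n hn hcn
    obtain ⟨k, hk⟩ := hgen ⟨c, hc⟩
    have e : ((⟨π x, hzC⟩ : C) ^ k * ⟨c, hc⟩) ^ n = (⟨π x, hzC⟩ : C) ^ (k * n) := by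
      have hcomm' : Commute ((⟨π x, hzC⟩ : C) ^ k) ⟨c, hc⟩ :=
        (Subgroup.mem_center_iff.1 (pow_mem hz k) ⟨c, hc⟩).symm
      rw [hcomm'.mul_pow, ← pow_mul, show (⟨c, hc⟩ : C) ^ n = 1 from Subtype.ext (by simpa using hcn),
        mul_one]
    obtain ⟨m, hm⟩ := (Nat.Prime.dvd_mul Nat.prime_three).1 (hzk _ (e ▸ pow_mem hk n)) |>.resolve_right hn
    refine ⟨_, hk, ?_⟩
    show (((⟨π x, hzC⟩ : C) ^ k * ⟨c, hc⟩ : C) : G) = c
    rw [hm, pow_mul, hx3, one_pow, one_mul]
  · have hCcore : Cfsg.pPrimeCore 3 C = ⊥ :=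
      E.core x A.right (fun h => A.coord (by simp [h]))
    have : Cfsg.pPrimeCore 3 L0 = ⊥ := by
      refine (Subgroup.map_eq_bot_iff_of_injective _ L0.subtype_injective).1 (le_bot_iff.1 ?_)
      rw [← hCcore]
      exact le_sSup ⟨Cores.map_subtype_normal_of_characteristic L0 _, by
        rw [Cores.card_map_subtype]; exact Cores.coprime_card_pPrimeCore 3⟩
    rw [← Cores.pPrimeCore_map_mulEquiv (L0.equivMapOfInjective C.subtype C.subtype_injective), this,
      Subgroup.map_bot]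

/-- The Sylow subgroup of the factor. -/
theorem Setting.factor_sylow {x t : Q} {l : V3 →+ ZMod 3} (A : Axis x t l) {L : Subgroup G}
    (F : Factor π x l L) :
    ∃ P : Sylow 3 L, (∀ y : L, y ∈ (P : Subgroup L) ↔ ∃ w ∈ hyper l, π w = y) ∧
      NineSylow P := by
  have hWL : (hyper l).map π ≤ L := by
    rintro _ ⟨w, hw, rfl⟩; exact (F.plane_iff w (mem_hyper.1 hw).1).2 hw
  have hWJ : (hyper l).map π ≤ plane.map π := Subgroup.map_mono fun w hw => (mem_hyper.1 hw).1
  have hWcard : Nat.card ((hyper l).map π) = 9 := by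
    rw [← Nat.card_congr ((hyper l).equivMapOfInjective π E.inj).toEquiv, A.card_hyper]
  have hWp : IsPGroup 3 ((hyper l).map π) := IsPGroup.of_card (n := 2) (hWcard.trans (by norm_num))
  have hinW : ∀ g ∈ L, g ∈ plane.map π → g ∈ (hyper l).map π := by
    rintro _ hg ⟨y, hy, rfl⟩
    exact ⟨y, (F.plane_iff y hy).1 hg, rfl⟩
  let P : Sylow 3 L :=
    { toSubgroup := ((hyper l).map π).subgroupOf L
      isPGroup' := hWp.comap_subtype
      is_maximal' := fun {R} hR hle => by
        refine le_antisymm (fun r hr => ?_) hle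
        set R' := R.map L.subtype ⊔ Subgroup.zpowers (π x)
        have hn : R.map L.subtype ≤ Subgroup.normalizer (Subgroup.zpowers (π x) : Set G) := by
          rintro _ ⟨y, -, rfl⟩
          refine Subgroup.mem_normalizer_iff.2 fun g => ?_
          have hc : Commute (y : G) (π x) := Subgroup.mem_centralizer_singleton_iff.1 (F.le y.2)
          have hfix : ∀ g ∈ Subgroup.zpowers (π x), (y : G) * g * (y : G)⁻¹ = g ∧
              (y : G)⁻¹ * g * y = g := by
            intro g hg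
            obtain ⟨i, rfl⟩ := Subgroup.mem_zpowers_iff.1 hg
            exact ⟨by rw [(hc.zpow_right i).eq, mul_inv_cancel_right],
              by rw [mul_assoc, ← (hc.zpow_right i).eq, inv_mul_cancel_left]⟩
          refine ⟨fun hg => (hfix g hg).1.symm ▸ hg, fun hg => ?_⟩
          have e := (hfix _ hg).2
          simp [mul_assoc] at e hg
          rwa [e]
        have hzp : IsPGroup 3 (Subgroup.zpowers (π x)) := by
          intro g
          obtain ⟨i, hi⟩ := Subgroup.mem_zpowers_iff.1 g.2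
          refine ⟨1, Subtype.ext ?_⟩
          rw [pow_one, Subgroup.coe_pow, ← hi, ← zpow_natCast, ← zpow_mul, mul_comm, zpow_mul,
            zpow_natCast, ← map_pow, pow_three_of_right A.right, map_one, one_zpow]
          rfl
        have hR' : IsPGroup 3 R' := (hR.map L.subtype).to_sup_of_normal_right' hzp hn
        have e := E.eq_plane_of_le A.three hR' ?_ ?_
        · refine hinW r r.2 (e ▸ ?_)
          exact Subgroup.mem_sup_left ⟨r, hr, rfl⟩
        · rintro _ ⟨y, hy, rfl⟩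
          obtain ⟨k, -, w, hw, rfl⟩ := A.exists_split hy
          rw [map_mul, map_pow]
          refine mul_mem (Subgroup.mem_sup_right (pow_mem (Subgroup.mem_zpowers _) k)) ?_
          exact Subgroup.mem_sup_left ⟨⟨π w, hWL ⟨w, hw, rfl⟩⟩, hle ⟨w, hw, rfl⟩, rfl⟩
        · refine sup_le (fun g hg => ?_) (Subgroup.zpowers_le.2 ?_)
          · obtain ⟨y, -, rfl⟩ := hg
            exact F.le y.2
          · exact Subgroup.mem_centralizer_singleton_iff.2 rfl }
  have hmem : ∀ y : L, y ∈ (P : Subgroup L) ↔ ∃ w ∈ hyper l, π w = y := fun y => Iff.rfl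
  refine ⟨P, hmem, ⟨⟨⟨fun a b => Subtype.ext (Subtype.ext ?_)⟩⟩, fun y hy => ?_, ?_, ?_, F.core⟩⟩
  · exact plane_map_comm (hWJ a.2) (hWJ b.2)
  · obtain ⟨w, hw, e⟩ := (hmem y).1 hy
    refine Subtype.ext ?_
    rw [Subgroup.coe_pow, ← e, ← map_pow, pow_three_of_right (mem_hyper.1 hw).1, map_one]
    rfl
  · exact (Cores.card_subgroupOf hWL).trans hWcard
  · intro y hy
    refine (hmem y).2 ?_
    refine hinW y y.2 (E.mem_plane_of_cent fun v hv => ?_)
    obtain ⟨k, -, w, hw, rfl⟩ := A.exists_split hv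
    have h1 : Commute (y : G) (π x) := Subgroup.mem_centralizer_singleton_iff.1 (F.le y.2)
    have h2 : Commute (y : G) (π w) :=
      (congrArg Subtype.val (hy ⟨π w, hWL ⟨w, hw, rfl⟩⟩ ((hmem _).2 ⟨w, hw, rfl⟩))).symm
    rw [map_mul, map_pow]
    exact (h1.pow_right k).mul_right h2

/-- The normalizer of the Sylow subgroup of the factor lies in the model. -/
theorem Setting.factor_normalizer {x t : Q} {l : V3 →+ ZMod 3} (A : Axis x t l) {L : Subgroup G}
    (F : Factor π x l L) {P : Sylow 3 L} (hP : ∀ y : L, y ∈ (P : Subgroup L) ↔ ∃ w ∈ hyper l, π w = y)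
    {g : G} (hg : g ∈ Subgroup.centralizer ({π x} : Set G))
    (hgW : ∀ w ∈ hyper l, ∃ w' ∈ hyper l, g * π w * g⁻¹ = π w') : ∃ z : Q, π z = g ∧ z * x = x * z := by
  have hgx := Subgroup.mem_centralizer_singleton_iff.1 hg
  have hr : g ∈ π.range := by
    refine E.norm g fun v hv => ?_
    obtain ⟨k, -, w, hw, rfl⟩ := A.exists_split hv
    obtain ⟨w', hw', e⟩ := hgW w hw
    refine ⟨x ^ k * w', ?_, ?_⟩
    · show SemidirectProduct.rightHom (x ^ k * w') = 1
      rw [map_mul, map_pow, SemidirectProduct.rightHom_eq_right, A.right, (mem_hyper.1 hw').1,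
        one_pow, one_mul]
    · rw [map_mul, map_mul, map_pow, ← e, show g * (π x ^ k * π w) * g⁻¹ =
        (g * π x ^ k * g⁻¹) * (g * π w * g⁻¹) by group, (Commute.pow_right hgx k).eq,
        mul_inv_cancel_right]
  obtain ⟨z, rfl⟩ := hr
  exact ⟨z, rfl, E.inj (by rw [map_mul, map_mul, hgx])⟩

theorem Setting.le_range_of_normal {x t : Q} {l : V3 →+ ZMod 3} (A : Axis x t l) {L : Subgroup G}
    (F : Factor π x l L) {P : Sylow 3 L} (hP : ∀ y : L, y ∈ (P : Subgroup L) ↔ ∃ w ∈ hyper l, π w = y)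
    (hn : (P : Subgroup L).Normal) : Subgroup.centralizer ({π x} : Set G) ≤ π.range := by
  have : Fact (Nat.Prime 3) := ⟨Nat.prime_three⟩
  intro c hc
  obtain ⟨z, rfl, -⟩ := E.factor_normalizer A F hP hc fun w hw => by
    have hwL : π w ∈ L := (F.plane_iff w (mem_hyper.1 hw).1).2 hw
    set y : L := ⟨c * π w * c⁻¹, F.conj c hc _ hwL⟩
    have hy : IsPGroup 3 (Subgroup.zpowers y) := by
      have h3 : y ^ 3 = 1 := Subtype.ext (by
        rw [Subgroup.coe_pow]
        show (c * π w * c⁻¹) ^ 3 = 1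
        rw [conj_pow, ← map_pow, pow_three_of_right (mem_hyper.1 hw).1, map_one]
        group)
      obtain ⟨k, -, hk⟩ := (Nat.dvd_prime_pow Nat.prime_three).mp
        (orderOf_dvd_of_pow_eq_one (show y ^ 3 ^ 1 = 1 by simpa using h3))
      exact IsPGroup.of_card (n := k) (by rw [Nat.card_zpowers, hk])
    obtain ⟨T, hT⟩ := hy.exists_le_sylow
    have := Sylow.unique_of_normal P hn
    obtain ⟨w', hw', e⟩ := (hP y).1 (Subsingleton.elim T P ▸ hT (Subgroup.mem_zpowers y))
    exact ⟨w', hw', e.symm⟩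
  exact ⟨z, rfl⟩

end Cfsg.Agent.AltNineThree
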