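import Cfsg.Agent.Lib.AltNineThree.Sextet

/-!
# The three sextets

* `Frame`: the situation with an alternating factor
* `iotaMid`, `iotaLast`: the sextets of the other two block cycles
* `Setting.range_weight_three`, `Frame.cent_two`: small centralizers
-/

set_option autoImplicit false

namespace Cfsg.Agent.AltNineThree

open Cfsg Cfsg.Agent.ThreeCubedSymFour Equiv

variable {G : Type*} [Group G]

/-- The situation with an alternating factor. -/
structure Frame (π : Q →* G) (ι : Perm (Fin 6) →* G) : Prop where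
  setting : Setting π
  sext : Sextet π ι
  cb : Subgroup.centralizer ({π bAx} : Set G) ≤ π.range

/-- The sextet of the second block cycle, on the last and the first block. -/
def iotaMid (π : Q →* G) (ι : Perm (Fin 6) →* G) : Perm (Fin 6) →* G :=
  (MulAut.conj (π rotQ)).toMonoidHom.comp ι

/-- The sextet of the last block cycle, on the first two blocks. -/
def iotaLast (π : Q →* G) (ι : Perm (Fin 6) →* G) : Perm (Fin 6) →* G :=
  (MulAut.conj (π (rotQ * rotQ))).toMonoidHom.comp ι

/-- A double transposition on the outer blocks. -/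
def sideFlip : Q := rotQ * rotQ * jInv * (rotQ * rotQ)⁻¹

set_option synthInstance.maxSize 4000 in
theorem rotate_facts : rotQ * rotQ * mid * (rotQ * rotQ)⁻¹ = aAx ∧
    rotQ * rotQ * last * (rotQ * rotQ)⁻¹ = mid ∧
    rotQ * rotQ * flipPair * (rotQ * rotQ)⁻¹ = jInv ∧
    rotQ * rotQ * exchPair * (rotQ * rotQ)⁻¹ = iInv ∧
    rotQ * rotQ * aAx * (rotQ * rotQ)⁻¹ = last ∧
    rotQ * mid * rotQ⁻¹ = last ∧ rotQ * last * rotQ⁻¹ = aAx ∧ rotQ * jInv * rotQ⁻¹ = flipPair ∧
    rotQ * flipPair * rotQ⁻¹ = sideFlip ∧ rotQ * aAx * rotQ⁻¹ = mid := by decide +kernel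

variable {π : Q →* G} {ι : Perm (Fin 6) →* G}

theorem iota_apply_conj {x : Q} {s : Perm (Fin 6)} (h : ι s = π x) (q : Q) :
    (MulAut.conj (π q)).toMonoidHom.comp ι s = π (q * x * q⁻¹) := by
  simp [h]

variable (F : Frame π ι)
include F

theorem Frame.last_cyc0 : iotaLast π ι c0 = π aAx :=
  (iota_apply_conj F.sext.cyc0 _).trans (congrArg π rotate_facts.1)

theorem Frame.last_cyc1 : iotaLast π ι c1 = π mid :=
  (iota_apply_conj F.sext.cyc1 _).trans (congrArg π rotate_facts.2.1)

theorem Frame.last_flip : iotaLast π ι (swap 0 1) = π sideFlip :=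
  iota_apply_conj F.sext.flip _

theorem Frame.last_flip2 : iotaLast π ι (swap 0 1 * swap 3 4) = π jInv :=
  (iota_apply_conj F.sext.flip2 _).trans (congrArg π rotate_facts.2.2.1)

theorem Frame.last_exch : iotaLast π ι (swap 0 3 * swap 1 4 * swap 2 5) = π iInv :=
  (iota_apply_conj F.sext.exch _).trans (congrArg π rotate_facts.2.2.2.1)

theorem Frame.last_inj : Function.Injective (iotaLast π ι) :=
  (MulAut.conj (π (rotQ * rotQ))).injective.comp F.sext.inj

theorem Frame.mid_inj : Function.Injective (iotaMid π ι) :=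
  (MulAut.conj (π rotQ)).injective.comp F.sext.inj

theorem Frame.last_even {s : Perm (Fin 6)} (hs : Perm.sign s = 1) :
    Commute (iotaLast π ι s) (π last) := by
  have h := (show Commute (ι s) (π aAx) from F.sext.even s hs).map
    (MulAut.conj (π (rotQ * rotQ))).toMonoidHom
  rwa [show (MulAut.conj (π (rotQ * rotQ))).toMonoidHom (π aAx) = π last by
    rw [← rotate_facts.2.2.2.2.1]; simp [mul_assoc]] at h

theorem Frame.mid_even {s : Perm (Fin 6)} (hs : Perm.sign s = 1) :
    Commute (iotaMid π ι s) (π mid) := by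
  have h := (show Commute (ι s) (π aAx) from F.sext.even s hs).map (MulAut.conj (π rotQ)).toMonoidHom
  rwa [show (MulAut.conj (π rotQ)).toMonoidHom (π aAx) = π mid by
    rw [← rotate_facts.2.2.2.2.2.2.2.2.2]; simp] at h

theorem Frame.last_gen {g : G} (hg : Commute g (π last)) :
    ∃ k < 3, ∃ s, Perm.sign s = 1 ∧ g = π last ^ k * iotaLast π ι s := by
  set C := MulAut.conj (π (rotQ * rotQ))
  have hC : C (π aAx) = π last := by rw [← rotate_facts.2.2.2.2.1]; simp [C, mul_assoc]
  have h : C.symm g ∈ Subgroup.centralizer ({π aAx} : Set G) := by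
    refine Subgroup.mem_centralizer_singleton_iff.2 (C.injective ?_)
    rw [map_mul, map_mul, MulEquiv.apply_symm_apply, hC, hg.eq]
  obtain ⟨k, hk, s, hs, e⟩ := F.sext.gen _ h
  refine ⟨k, hk, s, hs, ?_⟩
  have := congrArg C e
  rw [MulEquiv.apply_symm_apply, map_mul, map_pow, hC] at this
  exact this

theorem Frame.mid_gen {g : G} (hg : Commute g (π mid)) :
    ∃ k < 3, ∃ s, Perm.sign s = 1 ∧ g = π mid ^ k * iotaMid π ι s := by
  set C := MulAut.conj (π rotQ)
  have hC : C (π aAx) = π mid := by rw [← rotate_facts.2.2.2.2.2.2.2.2.2]; simp [C]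
  have h : C.symm g ∈ Subgroup.centralizer ({π aAx} : Set G) := by
    refine Subgroup.mem_centralizer_singleton_iff.2 (C.injective ?_)
    rw [map_mul, map_mul, MulEquiv.apply_symm_apply, hC, hg.eq]
  obtain ⟨k, hk, s, hs, e⟩ := F.sext.gen _ h
  refine ⟨k, hk, s, hs, ?_⟩
  have := congrArg C e
  rw [MulEquiv.apply_symm_apply, map_mul, map_pow, hC] at this
  exact this

/-- The axis and the image of `ι` meet trivially. -/
theorem Frame.indep {s : Perm (Fin 6)} {k : ℕ} (h : π aAx ^ k = ι s) : s = 1 ∧ 3 ∣ k := by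
  have hJ : ∀ z : Q, z.right = 1 → Commute (ι s) (π z) := fun z hz => by
    rw [← h]
    refine Commute.pow_left ?_ k
    show _ = _
    rw [← map_mul, ← map_mul, comm_of_right aAx z rfl hz]
  have e0 : s * c0 = c0 * s := F.sext.inj (by rw [map_mul, map_mul, F.sext.cyc0]; exact (hJ mid rfl).eq)
  have e1 : s * c1 = c1 * s := F.sext.inj (by rw [map_mul, map_mul, F.sext.cyc1]; exact (hJ last rfl).eq)
  have key : ∀ s : Perm (Fin 6), s * c0 = c0 * s → s * c1 = c1 * s →
      ∃ i : Fin 3, ∃ j : Fin 3, s = c0 ^ (i : ℕ) * c1 ^ (j : ℕ) := by decide +kernel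
  obtain ⟨i, j, rfl⟩ := key s e0 e1
  rw [map_mul, map_pow, map_pow, F.sext.cyc0, F.sext.cyc1, ← map_pow, ← map_pow, ← map_pow, ← map_mul,
    ← Nat.mod_add_div k 3, pow_add, pow_mul, pow_three_of_right rfl, one_pow, mul_one] at h
  have key2 : ∀ a i j : Fin 3, aAx ^ (a : ℕ) = mid ^ (i : ℕ) * last ^ (j : ℕ) → a = 0 ∧ i = 0 ∧ j = 0 := by
    decide +kernel
  obtain ⟨ha, rfl, rfl⟩ := key2 ⟨k % 3, Nat.mod_lt _ (by norm_num)⟩ i j (F.setting.inj h)
  exact ⟨by simp, Nat.dvd_of_mod_eq_zero (congrArg Fin.val ha)⟩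

theorem Frame.last_indep {s : Perm (Fin 6)} {k : ℕ} (h : π last ^ k = iotaLast π ι s) :
    s = 1 ∧ 3 ∣ k := by
  refine F.indep ((MulAut.conj (π (rotQ * rotQ))).injective ?_)
  rw [map_pow, show MulAut.conj (π (rotQ * rotQ)) (π aAx) = π last by
    rw [← rotate_facts.2.2.2.2.1]; simp [mul_assoc]]
  exact h

theorem Frame.mid_indep {s : Perm (Fin 6)} {k : ℕ} (h : π mid ^ k = iotaMid π ι s) :
    s = 1 ∧ 3 ∣ k := by
  refine F.indep ((MulAut.conj (π rotQ)).injective ?_)
  rw [map_pow, show MulAut.conj (π rotQ) (π aAx) = π mid by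
    rw [← rotate_facts.2.2.2.2.2.2.2.2.2]; simp]
  exact h

variable [Finite G]

omit F in
theorem Setting.range_weight_three (E : Setting π) {v : Q} (hv : v.right = 1) (hw : weight v = 3)
    {g : G} (hg : Commute g (π v)) : g ^ 9 = 1 := by
  obtain ⟨q, hq⟩ := exists_axis v hv (fun h => by rw [h] at hw; exact absurd hw (by decide +kernel))
  have hne : ∀ x : Q, x.right = 1 → weight x ≠ 3 → q * x * q⁻¹ ≠ v := fun x hx hx3 h =>
    hx3 (by rw [← weight_conj x q hx, h, hw])
  rcases hq with h | h | h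
  · exact absurd h (hne _ rfl (by rw [weight_axes.1]; norm_num))
  · exact absurd h (hne _ rfl (by rw [weight_axes.2.1]; norm_num))
  · have hm : g ∈ Subgroup.centralizer ({π (q * cAx * q⁻¹)} : Set G) :=
      Subgroup.mem_centralizer_singleton_iff.2 (by rw [h]; exact hg.eq)
    obtain ⟨z, rfl⟩ := centralizer_le_range_conj q E.centralizer_c hm
    have hz : q⁻¹ * z * q * cAx = cAx * (q⁻¹ * z * q) := by
      have e : z * v = v * z := E.inj (by rw [map_mul, map_mul]; exact hg.eq)
      rw [← h] at e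
      calc q⁻¹ * z * q * cAx = q⁻¹ * (z * (q * cAx * q⁻¹)) * q := by group
        _ = _ := by rw [e]; group
    have key : ∀ z : Q, z.right.w = false ∧ z.right.s = false ∧ z.right.t = false →
        z * z * z * (z * z * z) * (z * z * z) = 1 := by decide +kernel
    have h9 : (q⁻¹ * z * q) ^ 9 = 1 := by
      rw [← key _ ((centralizer_c_iff _).1 hz)]
      simp only [pow_succ, pow_zero, one_mul, mul_assoc]
    have : z = q * (q⁻¹ * z * q) * q⁻¹ := by group
    rw [← map_pow, this, conj_pow, h9, mul_one, mul_inv_cancel, map_one]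

theorem Frame.range_weight_two {v : Q} (hv : v.right = 1) (hw : weight v = 2) {g : G}
    (hg : Commute g (π v)) : ∃ z : Q, π z = g ∧ z * v = v * z := by
  obtain ⟨q, hq⟩ := exists_axis v hv (fun h => by rw [h] at hw; exact absurd hw (by decide +kernel))
  have hne : ∀ x : Q, x.right = 1 → weight x ≠ 2 → q * x * q⁻¹ ≠ v := fun x hx hx2 h =>
    hx2 (by rw [← weight_conj x q hx, h, hw])
  rcases hq with h | h | h
  · exact absurd h (hne _ rfl (by rw [weight_axes.1]; norm_num))
  · have hm : g ∈ Subgroup.centralizer ({π (q * bAx * q⁻¹)} : Set G) :=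
      Subgroup.mem_centralizer_singleton_iff.2 (by rw [h]; exact hg.eq)
    obtain ⟨z, rfl⟩ := centralizer_le_range_conj q F.cb hm
    exact ⟨z, rfl, F.setting.inj (by rw [map_mul, map_mul]; exact hg.eq)⟩
  · exact absurd h (hne _ rfl (by rw [weight_axes.2.2]; norm_num))

omit [Finite G] in
theorem Frame.eq_one_of_right {z : Q} (hz : z.right = 1) {n : ℕ} (h3 : ¬ 3 ∣ n) (hn : π z ^ n = 1) :
    z = 1 := by
  have e : z ^ n = 1 := F.setting.inj (by rw [map_pow, hn, map_one])
  have hg := pow_gcd_eq_one.2 ⟨pow_three_of_right hz, e⟩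
  rwa [Nat.Coprime.gcd_eq_one ((Nat.Prime.coprime_iff_not_dvd Nat.prime_three).2 h3), pow_one] at hg

end Cfsg.Agent.AltNineThree
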