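import Cfsg.Agent.Lib.AltNineThree.GenCalc

/-!
# The homomorphism from `A9`

* `Frame.zGen`: the element `(016)` and its properties
* `Frame.exists_hom`: `A9 → G` agreeing with the space and the sextet of the first two blocks
* `NineModel φ`, `Frame.exists_model`: the resulting subgroup `A9` with the data needed later
-/

set_option autoImplicit false

namespace Cfsg.Agent.AltNineThree

open Cfsg Cfsg.Agent.ThreeCubedSymFour Equiv

variable {G : Type*} [Group G]

/-- The element `(016)`. -/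
def zGen (π : Q →* G) (ι : Perm (Fin 6) →* G) : G := ι wU * iotaLast π ι (cyc6 5) * (ι wU)⁻¹

theorem nineSum_val : ∀ i : Fin 7, (nineSum (Sum.inr i) : ℕ) = 2 + i := by decide +kernel

theorem sq_mul_comm {a b : G} (h : (a * b) ^ 2 = 1) : (b * a) ^ 2 = 1 := by
  calc (b * a) ^ 2 = b * (a * b) ^ 2 * b⁻¹ := by simp only [pow_two]; group
    _ = 1 := by rw [h, mul_one, mul_inv_cancel]

theorem sq_conj {a b t : G} (h : (a * b) ^ 2 = 1) : (t * a * t⁻¹ * (t * b * t⁻¹)) ^ 2 = 1 := by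
  rw [show t * a * t⁻¹ * (t * b * t⁻¹) = t * (a * b) * t⁻¹ by group, conj_pow, h, mul_one, mul_inv_cancel]

/-- The four group on `0123` in `A9`. -/
def vSub : Subgroup (alternatingGroup (Fin 9)) := (kV.subgroupOf (alternatingGroup (Fin 6))).map embA

/-- The four group of three transpositions in `A9`. -/
def rSub : Subgroup (alternatingGroup (Fin 9)) := (kR.subgroupOf (alternatingGroup (Fin 6))).map embA

/-- A subgroup `A9` with the data used to show it is everything. -/
structure NineModel (φ : alternatingGroup (Fin 9) →* G) : Prop where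
  inj : Function.Injective φ
  setting : Setting (φ.comp toPermA)
  ca : Subgroup.centralizer ({φ (toPermA aAx)} : Set G) ≤ φ.range
  cb : Subgroup.centralizer ({φ (toPermA bAx)} : Set G) ≤ (φ.comp toPermA).range
  cardV : Nat.card (Subgroup.centralizer (vSub.map φ : Set G)) = 240
  cardR : Nat.card (Subgroup.centralizer (rSub.map φ : Set G)) = 12 ∨
    Nat.card (Subgroup.centralizer (rSub.map φ : Set G)) = 24

variable {π : Q →* G} {ι : Perm (Fin 6) →* G}

theorem Frame.mid_cyc0 (F : Frame π ι) : iotaMid π ι c0 = π last :=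
  (iota_apply_conj F.sext.cyc0 _).trans (congrArg π rotate_facts.2.2.2.2.2.1)

theorem Frame.mid_cyc1 (F : Frame π ι) : iotaMid π ι c1 = π aAx :=
  (iota_apply_conj F.sext.cyc1 _).trans (congrArg π rotate_facts.2.2.2.2.2.2.1)

theorem Frame.comm_four (F : Frame π ι) {s : Perm (Fin 6)} (hs : ι s ∈ wGroup π ι) :
    Commute (ι s) (iotaLast π ι (cyc6 3)) := by
  obtain ⟨v, hv, i, e⟩ := four_cycle_gen
  rw [e, map_mul, map_pow, F.last_cyc0]
  refine Commute.mul_right ?_ ((show Commute (ι s) (π aAx) from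
    Subgroup.mem_centralizer_singleton_iff.1 hs.1).pow_right _)
  exact (Subgroup.mem_centralizer_iff.1 hs.2 _
    ⟨v, mem_kV.2 (by simpa using hv), rfl⟩).symm

theorem Frame.cycle_conj (F : Frame π ι) (k : Fin 3) :
    iotaLast π ι (cyc6 ⟨3 + k, by omega⟩) =
      π mid ^ (k : ℕ) * iotaLast π ι (cyc6 3) * (π mid ^ (k : ℕ))⁻¹ := by
  rw [cyc6_facts.2.2.2 k, map_mul, map_mul, map_inv, map_pow, F.last_cyc1]

variable [Finite G]

theorem Frame.zGen_first (F : Frame π ι) : (iotaLast π ι (cyc6 3) * zGen π ι) ^ 2 = 1 := by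
  have hu : Commute (ι wU) (iotaLast π ι (cyc6 3)) := F.comm_four F.wU_mem
  have h : (iotaLast π ι (cyc6 3) * iotaLast π ι (cyc6 5)) ^ 2 = 1 := by
    rw [← map_mul, ← map_pow, cyc6_facts.2.2.1 3 5 (by decide) (by decide) (by decide), map_one]
  have := sq_conj (t := ι wU) h
  rw [hu.eq, mul_inv_cancel_right] at this
  exact this

theorem Frame.zGen_mid (F : Frame π ι) : Commute (zGen π ι) (π mid) := by
  obtain ⟨hmv, hw, -, hUU, -⟩ := moved_cycle
  set a := π mid
  have hW : ι (wT * c1 * wU) ∈ wGroup π ι := by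
    rw [map_mul, map_mul]; exact mul_mem (mul_mem F.wT_mem F.c1_mem) F.wU_mem
  have h := (F.comm_four hW).map (MulAut.conj (a ^ 2)).toMonoidHom
  have e1 : MulAut.conj (a ^ 2) (ι (wT * c1 * wU)) = ι (swap 0 1 * swap 1 3) := by
    show a ^ 2 * ι (wT * c1 * wU) * (a ^ 2)⁻¹ = _
    rw [hw, map_mul ι (c0 ^ 2 * (wT * c1 * wU)), map_mul ι (c0 ^ 2), map_inv, map_pow, F.sext.cyc0]
  have e2 : MulAut.conj (a ^ 2) (iotaLast π ι (cyc6 3)) = iotaLast π ι (cyc6 5) := (F.cycle_conj 2).symm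
  have h' : Commute (ι (swap 0 1 * swap 1 3)) (iotaLast π ι (cyc6 5)) := by
    rw [← e1, ← e2]; exact h
  have h2 := h'.map (MulAut.conj (ι wU)).toMonoidHom
  have hUi : (ι wU)⁻¹ = ι wU := by
    rw [← map_inv]; exact congrArg ι (inv_eq_of_mul_eq_one_left hUU)
  have e3 : MulAut.conj (ι wU) (ι (swap 0 1 * swap 1 3)) = a := by
    rw [← hmv]
    show ι wU * ι (wU * c0 * wU⁻¹) * (ι wU)⁻¹ = a
    rw [map_mul, map_mul, map_inv, hUi]
    have h1 : ι wU * ι wU = 1 := by rw [← map_mul, hUU, map_one]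
    calc ι wU * (ι wU * ι c0 * ι wU) * ι wU = ι wU * ι wU * ι c0 * (ι wU * ι wU) := by group
      _ = a := by rw [h1, one_mul, mul_one, F.sext.cyc0]
  have h3 : Commute a (zGen π ι) := by rw [← e3]; exact h2
  exact h3.symm

theorem Frame.zGen_eq (F : Frame π ι) : zGen π ι = iotaMid π ι (zLocal 0) := by
  obtain ⟨-, -, hUs, hUU, hU45, h45, hinv5, hdl, hne⟩ := moved_cycle
  obtain ⟨hd1, hd2, hd3, hd4⟩ := d_facts
  obtain ⟨h3c, -, hp, -⟩ := cyc6_facts
  set u := ι wU
  set z := zGen π ι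
  have hu0 : Commute u (π aAx) := F.sext.even _ hUs
  have hz3 : z ^ 3 = 1 := by
    show (u * iotaLast π ι (cyc6 5) * u⁻¹) ^ 3 = 1
    rw [conj_pow, ← map_pow, (h3c 5 (by decide)).1, map_one, mul_one, mul_inv_cancel]
  have hz0 : (π aAx * z) ^ 2 = 1 := by
    have h : (π aAx * iotaLast π ι (cyc6 5)) ^ 2 = 1 := by
      rw [← F.last_cyc0, ← cyc6_facts.2.1, ← map_mul, ← map_pow,
        hp 2 5 (by decide) (by decide) (by decide), map_one]
    have := sq_conj (t := u) h
    rwa [hu0.eq, mul_inv_cancel_right] at this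
  obtain ⟨k, hk, s, hs, e⟩ := F.mid_gen F.zGen_mid
  have hcomm : ∀ {t}, Perm.sign t = 1 → ∀ n : ℕ, Commute (iotaMid π ι t) (π mid ^ n) := fun {t} ht n =>
    (F.mid_even ht).pow_right n
  have hc1 : Perm.sign (c1 * s) = 1 := by rw [map_mul, hs, Perm.mem_alternatingGroup.1 AltNineThree.c1_mem, mul_one]
  have e0 : π aAx * z = π mid ^ k * iotaMid π ι (c1 * s) := by
    show π aAx * zGen π ι = _
    rw [e, ← F.mid_cyc1, map_mul, ← mul_assoc,
      (hcomm (Perm.mem_alternatingGroup.1 AltNineThree.c1_mem) k).eq, mul_assoc]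
  rw [e0, (hcomm hc1 k).symm.mul_pow, ← pow_mul, ← map_pow (iotaMid π ι)] at hz0
  have hk2 := (F.mid_indep (k := k * 2) (s := ((c1 * s) ^ 2)⁻¹)
    (by rw [map_inv]; exact eq_inv_of_mul_eq_one_left hz0))
  have hk0 : k = 0 := by omega
  subst hk0
  rw [pow_zero, one_mul] at e
  have ez : z = iotaMid π ι s := e
  -- inversion
  have hd : ι (swap 4 5) = π dQ := by
    rw [h45, map_mul, map_mul, map_inv, map_mul ι (swap 0 1), F.sext.flip, F.sext.flip2, F.sext.cyc1,
      ← hd1, map_mul π, map_mul π, map_inv, map_mul π jInv]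
  have hud : Commute u (π dQ) := by
    rw [← hd]; exact Commute.map (show Commute wU (swap 4 5) from hU45) ι
  have hdy : π dQ * iotaLast π ι (cyc6 5) * (π dQ)⁻¹ = (iotaLast π ι (cyc6 5))⁻¹ := by
    have hl : Commute (iotaLast π ι (cyc6 5)) (π last) := F.last_even (h3c 5 (by decide)).2
    rw [dQ, map_mul, map_mul, map_inv, ← F.last_flip]
    calc π last * iotaLast π ι (swap 0 1) * (π last)⁻¹ * iotaLast π ι (cyc6 5) *
          (π last * iotaLast π ι (swap 0 1) * (π last)⁻¹)⁻¹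
        = π last * iotaLast π ι (swap 0 1) * ((π last)⁻¹ * iotaLast π ι (cyc6 5) * π last) *
            (iotaLast π ι (swap 0 1))⁻¹ * (π last)⁻¹ := by group
      _ = π last * (iotaLast π ι (swap 0 1) * iotaLast π ι (cyc6 5) *
            (iotaLast π ι (swap 0 1))⁻¹) * (π last)⁻¹ := by
          rw [mul_assoc (π last)⁻¹, hl.eq, inv_mul_cancel_left]; group
      _ = _ := by
          rw [← map_inv, ← map_mul, ← map_mul, swap_inv, hinv5, map_inv, ← hl.inv_left.eq,
            mul_inv_cancel_right]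
  have hdz : π dQ * z * (π dQ)⁻¹ = z⁻¹ := by
    show π dQ * (u * iotaLast π ι (cyc6 5) * u⁻¹) * (π dQ)⁻¹ = (u * iotaLast π ι (cyc6 5) * u⁻¹)⁻¹
    calc _ = π dQ * u * iotaLast π ι (cyc6 5) * (π dQ * u)⁻¹ := by group
      _ = u * (π dQ * iotaLast π ι (cyc6 5) * (π dQ)⁻¹) * u⁻¹ := by rw [← hud.eq]; group
      _ = _ := by rw [hdy]; group
  have hdm : iotaMid π ι dLocal = π dQ := by
    have hA : iotaMid π ι (swap 0 1 * (swap 0 1 * swap 3 4)) = π jInv :=
      (iota_apply_conj (x := jInv * flipPair) (by rw [map_mul ι (swap 0 1), map_mul π, F.sext.flip, F.sext.flip2]) _).trans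
        (congrArg π hd2)
    have hB : iotaMid π ι (c0 * swap 0 1 * c0⁻¹) = π (last * flipPair * last⁻¹) :=
      (iota_apply_conj (x := mid * jInv * mid⁻¹)
        (by rw [map_mul, map_mul, map_inv, F.sext.cyc0, F.sext.flip, map_mul, map_mul, map_inv]) _).trans
        (congrArg π hd4)
    rw [hdl, map_mul (iotaMid π ι), hA, hB, ← map_mul, hd3]
  rw [ez, ← hdm, ← map_inv, ← map_mul, ← map_mul, ← map_inv] at hdz
  have hs3 : s * (s * s) = 1 := F.mid_inj (by
    rw [map_one, map_mul, map_mul, ← ez, ← hz3, _root_.pow_three])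
  have hc2 : c1 * s * (c1 * s) = 1 := by
    have := hk2.1
    rwa [inv_eq_one, pow_two] at this
  rcases zLocal_unique s hs hs3 hc2 (F.mid_inj hdz) with h | h
  · exfalso
    refine hne (F.last_inj ?_)
    rw [map_inv, F.last_cyc0]
    have : u * iotaLast π ι (cyc6 5) * u⁻¹ = (π aAx)⁻¹ := by
      show z = _
      rw [ez, h, map_inv, F.mid_cyc1]
    calc iotaLast π ι (cyc6 5) = u⁻¹ * (u * iotaLast π ι (cyc6 5) * u⁻¹) * u := by group
      _ = _ := by rw [this, mul_assoc, ← hu0.inv_right.eq, inv_mul_cancel_left]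
  · rw [ez, h]

/-- The images of the seven cycles `(01m)`. -/
def yGen (π : Q →* G) (ι : Perm (Fin 6) →* G) : Fin 7 → G := fun i =>
  if h : (i : ℕ) < 4 then iotaLast π ι (cyc6 ⟨2 + i, by omega⟩)
  else iotaMid π ι (zLocal ⟨i - 4, by omega⟩)

theorem Frame.zLocal_conj (F : Frame π ι) (l : Fin 3) :
    iotaMid π ι (zLocal l) = π last ^ (l : ℕ) * zGen π ι * (π last ^ (l : ℕ))⁻¹ := by
  rw [F.zGen_eq, ← F.mid_cyc0, ← map_pow, ← map_inv, ← map_mul, ← map_mul, zLocal_facts.2.2]
  rfl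

theorem Frame.yGen_cross (F : Frame π ι) (k l : Fin 3) :
    (iotaLast π ι (cyc6 ⟨3 + k, by omega⟩) * iotaMid π ι (zLocal l)) ^ 2 = 1 := by
  have hl : Commute (iotaLast π ι (cyc6 ⟨3 + k, by omega⟩)) (π last ^ (l : ℕ)) :=
    (F.last_even (cyc6_facts.1 _ (by rw [Fin.le_def]; simp <;> omega)).2).pow_right _
  have h := sq_conj (t := π mid ^ (k : ℕ)) F.zGen_first
  rw [← F.cycle_conj, ((F.zGen_mid.pow_right (k : ℕ)).symm).eq, mul_inv_cancel_right] at h
  have h' := sq_conj (t := π last ^ (l : ℕ)) h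
  rwa [hl.symm.eq, mul_inv_cancel_right, ← F.zLocal_conj] at h'

theorem Frame.yGen_rel (F : Frame π ι) :
    (∀ i, yGen π ι i ^ 3 = 1) ∧ ∀ i j, i ≠ j → (yGen π ι i * yGen π ι j) ^ 2 = 1 := by
  obtain ⟨h3, h2, hp, -⟩ := cyc6_facts
  obtain ⟨hz, hzz, -⟩ := zLocal_facts
  refine ⟨fun i => ?_, ?_⟩
  · unfold yGen
    split_ifs with h
    · rw [← map_pow, (h3 _ (by rw [Fin.le_def]; simp <;> omega)).1, map_one]
    · rw [← map_pow, (hz _).1, map_one]
  have key : ∀ i j : Fin 7, (i : ℕ) < j → (yGen π ι i * yGen π ι j) ^ 2 = 1 := by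
    intro i j hij
    unfold yGen
    split_ifs with hi hj hj
    · rw [← map_mul, ← map_pow, hp _ _ (by rw [Fin.le_def]; simp <;> omega) (by rw [Fin.le_def]; simp <;> omega)
        (by simp only [ne_eq, Fin.mk.injEq]; omega), map_one]
    · by_cases hi0 : (i : ℕ) = 0
      · have e : (⟨2 + i, by omega⟩ : Fin 6) = 2 := Fin.ext (by simp [hi0])
        rw [e, h2, F.last_cyc0, ← F.mid_cyc1, ← map_mul, ← map_pow, (hz _).2.2.1, map_one]
      · have e : (⟨2 + i, by omega⟩ : Fin 6) = ⟨3 + (⟨i - 1, by omega⟩ : Fin 3), by simp; omega⟩ :=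
          Fin.ext (by simp; omega)
        rw [e]
        exact F.yGen_cross _ _
    · omega
    · rw [← map_mul, ← map_pow, hzz _ _ (by simp only [ne_eq, Fin.mk.injEq]; omega), map_one]
  intro i j hij
  rcases Nat.lt_or_gt_of_ne (fun h => hij (Fin.ext h)) with h | h
  · exact key i j h
  · exact sq_mul_comm (key j i h)

theorem Frame.exists_hom (F : Frame π ι) : ∃ φ : alternatingGroup (Fin 9) →* G,
    Function.Injective φ ∧ (∀ s : alternatingGroup (Fin 6), φ (embA s) = iotaLast π ι s) ∧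
      ∀ x : Q, x.right = 1 → φ (toPermA x) = π x := by
  obtain ⟨h3, h2⟩ := F.yGen_rel
  obtain ⟨φ₀, hφ₀, -⟩ := AltPresent.exists_hom (yGen π ι) h3 h2
  obtain ⟨hlo, hside1, hsidez, eA, eM, eL⟩ := emb_cyc
  let ψ : alternatingGroup (Fin 9) →* alternatingGroup (Fin 2 ⊕ Fin 7) :=
    (nineSum.symm.permCongrHom.toMonoidHom.comp (alternatingGroup (Fin 9)).subtype).codRestrict _
      fun p => Perm.mem_alternatingGroup.2 (by
        show Perm.sign (nineSum.symm.permCongr p) = 1
        rw [Perm.sign_permCongr]; exact Perm.mem_alternatingGroup.1 p.2)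
  let φ := φ₀.comp ψ
  have hφ : ∀ (i : Fin 7) (m : Fin 9) (hm : nineSum (Sum.inr i) = m) (p : alternatingGroup (Fin 9)),
      (p : Perm (Fin 9)) = cyc9 m → φ p = yGen π ι i := by
    intro i m hm p hp
    rw [← hφ₀ i]
    refine congrArg φ₀ (Subtype.ext ?_)
    show nineSum.symm.permCongr (p : Perm (Fin 9)) = AltPresent.cyc i
    rw [hp, ← hm, ← nineSum_cyc]
    ext x
    simp
  have agree : ∀ s, Perm.sign s = 1 →
      (∀ p : alternatingGroup (Fin 9), (p : Perm (Fin 9)) = embNine s → φ p = iotaLast π ι s) ∧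
      (∀ p : alternatingGroup (Fin 9),
        (p : Perm (Fin 9)) = embSide ((swap 0 3 * swap 1 4 * swap 2 5) * s * (swap 0 3 * swap 1 4 * swap 2 5)⁻¹) →
          φ p = iotaMid π ι ((swap 0 3 * swap 1 4 * swap 2 5) * s * (swap 0 3 * swap 1 4 * swap 2 5)⁻¹)) := by
    intro s hs
    refine (even_induction (P := fun s => Perm.sign s = 1 ∧
      (∀ p : alternatingGroup (Fin 9), (p : Perm (Fin 9)) = embNine s → φ p = iotaLast π ι s) ∧
      (∀ p : alternatingGroup (Fin 9),
        (p : Perm (Fin 9)) = embSide ((swap 0 3 * swap 1 4 * swap 2 5) * s * (swap 0 3 * swap 1 4 * swap 2 5)⁻¹) →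
          φ p = iotaMid π ι ((swap 0 3 * swap 1 4 * swap 2 5) * s * (swap 0 3 * swap 1 4 * swap 2 5)⁻¹)))
      ⟨map_one _, ?_, ?_⟩ ?_ ?_ hs).2
    · intro p hp
      rw [map_one] at hp ⊢
      rw [show p = 1 from Subtype.ext hp, map_one]
    · intro p hp
      rw [mul_one, mul_inv_cancel, map_one] at hp ⊢
      rw [show p = 1 from Subtype.ext hp, map_one]
    · rintro s t ⟨hs, hs1, hs2⟩ ⟨ht, ht1, ht2⟩
      refine ⟨by rw [map_mul, hs, ht, mul_one], fun p hp => ?_, fun p hp => ?_⟩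
      · let a : alternatingGroup (Fin 9) :=
          ⟨embNine s, Perm.mem_alternatingGroup.2 (by rw [sign_embNine, hs])⟩
        let b : alternatingGroup (Fin 9) :=
          ⟨embNine t, Perm.mem_alternatingGroup.2 (by rw [sign_embNine, ht])⟩
        rw [show p = a * b from Subtype.ext (hp.trans (map_mul _ _ _)), map_mul, hs1 a rfl, ht1 b rfl, map_mul]
      · set σ : Perm (Fin 6) := swap 0 3 * swap 1 4 * swap 2 5
        have e : σ * (s * t) * σ⁻¹ = σ * s * σ⁻¹ * (σ * t * σ⁻¹) := by group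
        have hsgn : ∀ s, Perm.sign s = 1 → Perm.sign (embSide (σ * s * σ⁻¹)) = 1 := by
          intro s hs
          show Perm.sign (sideShift * embNine (σ * s * σ⁻¹) * sideShift⁻¹) = 1
          rw [map_mul, map_mul, map_inv, sign_embNine, map_mul, map_mul, map_inv, hs]
          simp
        let a : alternatingGroup (Fin 9) := ⟨_, Perm.mem_alternatingGroup.2 (hsgn s hs)⟩
        let b : alternatingGroup (Fin 9) := ⟨_, Perm.mem_alternatingGroup.2 (hsgn t ht)⟩
        rw [e] at hp ⊢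
        rw [show p = a * b from Subtype.ext (hp.trans (map_mul _ _ _)), map_mul, hs2 a rfl, ht2 b rfl,
          ← map_mul]
    · intro m hm
      refine ⟨(cyc6_facts.1 m hm).2, fun p hp => ?_, fun p hp => ?_⟩
      · rw [hlo m hm] at hp
        rw [hφ ⟨m - 2, by omega⟩ _ (Fin.ext (by rw [nineSum_val]; simp <;> omega)) p hp, yGen, dif_pos (by simp; omega)]
        congr 1
        exact congrArg cyc6 (Fin.ext (by simp; omega))
      · have key : ∀ m : Fin 6, 2 ≤ m →
            (m = 2 ∧ swap 0 3 * swap 1 4 * swap 2 5 * cyc6 m * (swap 0 3 * swap 1 4 * swap 2 5)⁻¹ = c1) ∨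
            ∃ l : Fin 3, swap 0 3 * swap 1 4 * swap 2 5 * cyc6 m * (swap 0 3 * swap 1 4 * swap 2 5)⁻¹ =
              zLocal l := by decide +kernel
        rcases key m hm with ⟨rfl, e⟩ | ⟨l, e⟩ <;> rw [e] at hp ⊢
        · rw [hside1] at hp
          rw [hφ 0 _ (by decide) p hp, F.mid_cyc1, yGen, dif_pos (by decide),
            show (⟨2 + ((0 : Fin 7) : ℕ), by decide⟩ : Fin 6) = 2 from rfl, cyc6_facts.2.1, F.last_cyc0]
        · rw [hsidez] at hp
          rw [hφ ⟨4 + l, by omega⟩ _ (Fin.ext (by rw [nineSum_val]; simp <;> omega)) p hp, yGen, dif_neg (by simp)]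
          congr 1
          exact congrArg zLocal (Fin.ext (by simp))
  have hA : φ (toPermA aAx) = π aAx := by
    rw [(agree c0 (Perm.mem_alternatingGroup.1 c0_mem)).1 _ eA, F.last_cyc0]
  have hM : φ (toPermA mid) = π mid := by
    rw [(agree c1 (Perm.mem_alternatingGroup.1 AltNineThree.c1_mem)).1 _ eM, F.last_cyc1]
  have hL : φ (toPermA last) = π last := by
    have e : (swap 0 3 * swap 1 4 * swap 2 5 : Perm (Fin 6)) * c1 * (swap 0 3 * swap 1 4 * swap 2 5)⁻¹ = c0 := by
      decide +kernel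
    have := (agree c1 (Perm.mem_alternatingGroup.1 AltNineThree.c1_mem)).2 (toPermA last) (by rw [e]; exact eL)
    rw [this, e, F.mid_cyc0]
  refine ⟨φ, ?_, fun s => (agree s (Perm.mem_alternatingGroup.1 s.2)).1 _ rfl, fun x hx => ?_⟩
  · have : IsSimpleGroup (alternatingGroup (Fin 9)) := alternatingGroup.isSimpleGroup (by simp)
    refine (MonoidHom.ker_eq_bot_iff φ).1 ((IsSimpleGroup.eq_bot_or_eq_top_of_normal _
      (MonoidHom.normal_ker φ)).resolve_right fun h => axes_facts.2.2.2.1 (F.setting.inj ?_))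
    rw [map_one, ← hA]
    exact MonoidHom.mem_ker.1 (h ▸ Subgroup.mem_top _)
  · rw [show x = SemidirectProduct.inl x.left from SemidirectProduct.ext rfl (by simpa using hx),
      inl_decomposition]
    simp only [map_mul, map_pow]
    show φ (toPermA aAx) ^ _ * φ (toPermA mid) ^ _ * φ (toPermA last) ^ _ = _
    rw [hA, hM, hL]
    rfl

/-- The subgroup `A9`. -/
theorem Frame.exists_model (F : Frame π ι) :
    ∃ φ : alternatingGroup (Fin 9) →* G, NineModel φ := by
  obtain ⟨φ, hinj, hemb, hplane⟩ := F.exists_hom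
  set π' := φ.comp toPermA
  have hq : ∀ q : Q, ∃ v : Q, v.right = 1 ∧ π q = π' (q * v) := by
    intro q
    obtain ⟨v, hv, ev⟩ := F.setting.mem_plane_of_cent (g := (π' q)⁻¹ * π q) fun v hv => by
      have e : π q * π v * (π q)⁻¹ = π' q * π v * (π' q)⁻¹ := by
        rw [← map_inv, ← map_mul, ← map_mul,
          ← hplane (q * v * q⁻¹) (by simp [hv]), ← hplane v hv]
        show π' (q * v * q⁻¹) = _
        rw [map_mul, map_mul, map_inv]
        rfl
      calc (π' q)⁻¹ * π q * π v = (π' q)⁻¹ * (π q * π v * (π q)⁻¹) * π q := by group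
        _ = _ := by rw [e]; group
    refine ⟨v, hv, ?_⟩
    rw [map_mul, show π' v = π v from hplane v hv, ev, mul_inv_cancel_left]
  have hle : π.range ≤ π'.range := by
    rintro _ ⟨q, rfl⟩
    obtain ⟨v, -, e⟩ := hq q
    exact ⟨_, e.symm⟩
  have hinj' : Function.Injective π' := hinj.comp fun a b h => toPerm_injective (congrArg Subtype.val h)
  have hmap : ∀ s : alternatingGroup (Fin 6), iotaLast π ι s ∈ φ.range := fun s => ⟨_, hemb s⟩
  have hsub : ∀ (K : Subgroup (Perm (Fin 6))), (∀ k ∈ K, Perm.sign k = 1) →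
      ((K.subgroupOf (alternatingGroup (Fin 6))).map embA).map φ = K.map (iotaLast π ι) := by
    intro K hK
    ext g
    constructor
    · rintro ⟨_, ⟨s, hs, rfl⟩, rfl⟩; exact ⟨s, hs, (hemb s).symm⟩
    · rintro ⟨s, hs, rfl⟩
      exact ⟨_, ⟨⟨s, Perm.mem_alternatingGroup.2 (hK s hs)⟩, hs, rfl⟩, hemb _⟩
  have hkR : ∀ k ∈ kR, Perm.sign k = 1 := by
    intro k hk
    rcases mem_kR.1 hk with rfl | rfl | rfl | rfl <;> simp [kR_facts.1, kR_facts.2.1]
  refine ⟨φ, hinj, ⟨hinj', fun g h => hle (F.setting.norm g fun v hv => ?_), fun x hx hx1 => ?_⟩, ?_, ?_, ?_, ?_⟩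
  · obtain ⟨w, hw, e⟩ := h v hv
    refine ⟨w, hw, ?_⟩
    rw [← show π' v = π v from hplane v hv, ← show π' w = π w from hplane w hw]
    exact e
  · rw [show π' x = π x from hplane x hx]; exact F.setting.core x hx hx1
  · rw [hplane aAx rfl]
    intro g hg
    obtain ⟨k, -, s, hs, rfl⟩ := F.sext.gen g hg
    refine mul_mem (pow_mem (show π aAx ∈ φ.range from ⟨_, hplane aAx rfl⟩) k) ?_
    obtain ⟨v, -, ev⟩ := hq (rotQ * rotQ)
    have hr : π (rotQ * rotQ) ∈ φ.range := ⟨_, ev.symm⟩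
    have e : ι s = (π (rotQ * rotQ))⁻¹ * iotaLast π ι s * π (rotQ * rotQ) := by
      simp [iotaLast, mul_assoc]
    rw [e]
    exact mul_mem (mul_mem (inv_mem hr) (hmap ⟨s, Perm.mem_alternatingGroup.2 hs⟩)) hr
  · rw [hplane bAx rfl]; exact F.cb.trans hle
  · rw [vSub, hsub kV fun k hk => F.even_kV hk]; exact F.card_centralizer_V
  · rw [rSub, hsub kR hkR]; exact F.card_centralizer_R

end Cfsg.Agent.AltNineThree
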