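import Cfsg.Agent.Lib.AltNineThree.Setup

/-!
# The model is the normalizer of three block cycles in `A9`

* `map_plane_eq`: the space maps onto the group generated by the three cycles
* `range_toPerm_eq`: the image is the normalizer in `A9`
-/

set_option autoImplicit false

namespace Cfsg.Agent.AltNineThree

open Cfsg Cfsg.Agent.ThreeCubedSymFour Equiv

/-- The block cycles. -/
def blockCycle (k : Fin 3) : Q :=
  el (if k = 0 then 1 else 0) (if k = 1 then 1 else 0) (if k = 2 then 1 else 0) 0 false false false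

/-- A signed block cycle as a permutation. -/
def signedCycle (k : Fin 3) (b : Bool) : Perm (Fin 9) :=
  if b then toPerm (blockCycle k * blockCycle k) else toPerm (blockCycle k)

theorem map_plane_eq : plane.map toPerm =
    Subgroup.closure ({swap (0 : Fin 9) 1 * swap 1 2, swap (3 : Fin 9) 4 * swap 4 5,
      swap (6 : Fin 9) 7 * swap 7 8} : Set (Perm (Fin 9))) := by
  obtain ⟨g1, g2, g3, -, -, -, -⟩ := frozen_gens
  rw [← g1, ← g2, ← g3]
  refine le_antisymm ?_ ((Subgroup.closure_le _).2 ?_)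
  · rintro _ ⟨x, hx, rfl⟩
    rw [show x = SemidirectProduct.inl x.left from SemidirectProduct.ext rfl (by simpa [mem_plane] using hx),
      inl_decomposition, map_mul, map_mul, map_pow, map_pow, map_pow]
    refine mul_mem (mul_mem (pow_mem ?_ _) (pow_mem ?_ _)) (pow_mem ?_ _) <;>
      exact Subgroup.subset_closure (by simp)
  · rintro x (rfl | rfl | rfl) <;> exact Subgroup.mem_map_of_mem _ rfl

theorem sign_toPerm : ∀ x : Q, Perm.sign (toPerm x) = 1 := by
  intro x
  have hmem : toPerm x ∈ Subgroup.closure ({Equiv.swap (0 : Fin 9) 1 * Equiv.swap 1 2,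
        Equiv.swap (0 : Fin 9) 3 * Equiv.swap 3 6 * (Equiv.swap (1 : Fin 9) 4 * Equiv.swap 4 7) * (Equiv.swap (2 : Fin 9) 5 * Equiv.swap 5 8),
        Equiv.swap (0 : Fin 9) 1 * Equiv.swap 3 4, Equiv.swap (0 : Fin 9) 3 * Equiv.swap 1 4 * Equiv.swap 2 5 * Equiv.swap 6 7} : Set (Equiv.Perm (Fin 9))) :=
    range_toPerm ▸ ⟨x, rfl⟩
  refine (Subgroup.closure_le (K := alternatingGroup (Fin 9))).2 ?_ hmem
  rintro g (rfl | rfl | rfl | rfl) <;>
    simp [Perm.mem_alternatingGroup, Perm.sign_mul, Perm.sign_swap']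

theorem three_support : ∀ v : Multiplicative V3,
    (toPerm (SemidirectProduct.inl v)).support.card = 3 →
      ∃ k : Fin 3, ∃ b : Bool, toPerm (SemidirectProduct.inl v) = signedCycle k b := by
  decide +kernel

theorem support_block : ∀ k : Fin 3, (toPerm (blockCycle k)).support.card = 3 := by decide +kernel

theorem signed_eq : ∀ k k' : Fin 3, ∀ b b' : Bool,
    (signedCycle k b = signedCycle k' b' → k = k' ∧ b = b') ∧
      signedCycle k b * signedCycle k b = signedCycle k !b := by decide +kernel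

theorem realize : ∀ i j k : Fin 3, i ≠ j → i ≠ k → j ≠ k → ∀ bi bj bk : Bool,
    ∃ g : Mon, ∃ odd : Bool,
      let σ := toPerm (SemidirectProduct.inr g) * if odd then swap (0 : Fin 9) 1 else 1
      σ * toPerm (blockCycle 0) = signedCycle i bi * σ ∧
      σ * toPerm (blockCycle 1) = signedCycle j bj * σ ∧
      σ * toPerm (blockCycle 2) = signedCycle k bk * σ := by
  decide +kernel

theorem cent_moved : ∀ x : Fin 9, (toPerm (blockCycle 0) x ≠ x → x.val / 3 = 0) ∧
    (toPerm (blockCycle 1) x ≠ x → x.val / 3 = 1) ∧ (toPerm (blockCycle 2) x ≠ x → x.val / 3 = 2) := by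
  decide +kernel

theorem cent_values : ∀ x y z : Fin 9, x.val / 3 = 0 → y.val / 3 = 1 → z.val / 3 = 2 →
    ∃ v : Multiplicative V3, toPerm (SemidirectProduct.inl v) 0 = x ∧
      toPerm (SemidirectProduct.inl v) 3 = y ∧ toPerm (SemidirectProduct.inl v) 6 = z := by
  decide +kernel

theorem base_points : ∀ x : Fin 9, ∃ n : Fin 3,
    (toPerm (blockCycle 0) ^ (n : ℕ)) 0 = x ∨ (toPerm (blockCycle 1) ^ (n : ℕ)) 3 = x ∨
      (toPerm (blockCycle 2) ^ (n : ℕ)) 6 = x := by
  decide +kernel

theorem base_moved : toPerm (blockCycle 0) 0 ≠ 0 ∧ toPerm (blockCycle 1) 3 ≠ 3 ∧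
    toPerm (blockCycle 2) 6 ≠ 6 := by
  decide +kernel

theorem blockCycle_right (k : Fin 3) : (blockCycle k).right = 1 := rfl

theorem eq_of_centralize {c : Perm (Fin 9)}
    (h : ∀ k, c * toPerm (blockCycle k) = toPerm (blockCycle k) * c) : c ∈ plane.map toPerm := by
  have hmv : ∀ (k : Fin 3) (p : Fin 9), toPerm (blockCycle k) p ≠ p →
      toPerm (blockCycle k) (c p) ≠ c p := fun k p hp e => hp (c.injective (by
    rw [← Perm.mul_apply, h k, Perm.mul_apply, e]))
  obtain ⟨v, e0, e3, e6⟩ := cent_values (c 0) (c 3) (c 6)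
    ((cent_moved _).1 (hmv 0 0 base_moved.1)) ((cent_moved _).2.1 (hmv 1 3 base_moved.2.1))
    ((cent_moved _).2.2 (hmv 2 6 base_moved.2.2))
  refine ⟨(SemidirectProduct.inl v : Q), rfl, Equiv.ext fun x => ?_⟩
  have hcomm : ∀ (k : Fin 3) (n : ℕ) (p : Fin 9), toPerm (SemidirectProduct.inl v) p = c p →
      toPerm (SemidirectProduct.inl v) ((toPerm (blockCycle k) ^ n) p) =
        c ((toPerm (blockCycle k) ^ n) p) := by
    intro k n p hp
    have h1 : Commute c (toPerm (blockCycle k) ^ n) := Commute.pow_right (h k) n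
    have h2 : Commute (toPerm (SemidirectProduct.inl v)) (toPerm (blockCycle k) ^ n) := by
      refine Commute.pow_right ?_ n
      show _ * _ = _ * _
      rw [← map_mul, ← map_mul, comm_of_right _ _ (SemidirectProduct.right_inl v) (blockCycle_right k)]
    rw [← Perm.mul_apply, h2.eq, Perm.mul_apply, hp, ← Perm.mul_apply, ← h1.eq, Perm.mul_apply]
  obtain ⟨n, hn | hn | hn⟩ := base_points x <;> rw [← hn]
  exacts [hcomm 0 n 0 e0, hcomm 1 n 3 e3, hcomm 2 n 6 e6]

theorem exists_signed {g : Perm (Fin 9)}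
    (hg : g ∈ Subgroup.normalizer (plane.map toPerm : Set (Perm (Fin 9)))) (k : Fin 3) :
    ∃ m : Fin 3, ∃ b : Bool, g * toPerm (blockCycle k) * g⁻¹ = signedCycle m b := by
  obtain ⟨w, hw, e⟩ := (Subgroup.mem_normalizer_iff.1 hg _).1
    (Subgroup.mem_map_of_mem toPerm (show blockCycle k ∈ plane from rfl))
  have hwe : w = SemidirectProduct.inl w.left :=
    SemidirectProduct.ext rfl (by simpa [mem_plane] using hw)
  rw [← e, hwe]
  refine three_support _ ?_
  rw [← hwe, e, Perm.card_support_conj]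
  exact support_block k

/-- The image is the normalizer in `A9`. -/
theorem range_toPerm_eq (J₀ : Subgroup (Perm (Fin 9)))
    (hJ₀ : J₀ = Subgroup.closure {swap (0 : Fin 9) 1 * swap 1 2, swap (3 : Fin 9) 4 * swap 4 5,
      swap (6 : Fin 9) 7 * swap 7 8}) :
    toPerm.range = alternatingGroup (Fin 9) ⊓ Subgroup.normalizer (J₀ : Set (Perm (Fin 9))) := by
  rw [hJ₀, ← map_plane_eq]
  refine le_antisymm ?_ ?_
  · rintro _ ⟨x, rfl⟩
    refine ⟨Perm.mem_alternatingGroup.2 (sign_toPerm x), ?_⟩
    have h1 : (plane.map toPerm).map (MulAut.conj (toPerm x)).toMonoidHom = plane.map toPerm := by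
      refine Subgroup.eq_of_le_of_card_ge ?_
        (Subgroup.card_map_of_injective (MulAut.conj (toPerm x)).injective).ge
      rintro _ ⟨_, ⟨y, hy, rfl⟩, rfl⟩
      refine ⟨x * y * x⁻¹, ?_, by simp⟩
      rw [SetLike.mem_coe, mem_plane] at hy ⊢
      simp [hy]
    exact Subgroup.mem_normalizer_iff_map_conj_eq.2 h1
  rintro g ⟨hgA, hgN⟩
  obtain ⟨i, bi, hi⟩ := exists_signed hgN 0
  obtain ⟨j, bj, hj⟩ := exists_signed hgN 1
  obtain ⟨k, bk, hk⟩ := exists_signed hgN 2
  have hd : ∀ (p q m : Fin 3) (b b' : Bool), p ≠ q → g * toPerm (blockCycle p) * g⁻¹ = signedCycle m b →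
      g * toPerm (blockCycle q) * g⁻¹ = signedCycle m b' → False := by
    intro p q m b b' hpq hp hq
    have hf : ∀ p : Fin 3, signedCycle p false = toPerm (blockCycle p) := fun p => rfl
    have ht : ∀ p : Fin 3, signedCycle p true = toPerm (blockCycle p) * toPerm (blockCycle p) :=
      fun p => map_mul toPerm _ _
    by_cases hb : b = b'
    · subst hb
      have e : toPerm (blockCycle p) = toPerm (blockCycle q) := by
        have := hp.trans hq.symm; simpa using this
      rw [← hf, ← hf] at e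
      exact hpq ((signed_eq _ _ _ _).1 e).1
    · have hb' : b' = !b := by revert hb; cases b <;> cases b' <;> simp
      have e : toPerm (blockCycle p) * toPerm (blockCycle p) = toPerm (blockCycle q) := by
        have h1 : g * (toPerm (blockCycle p) * toPerm (blockCycle p)) * g⁻¹ =
            g * toPerm (blockCycle q) * g⁻¹ := by
          rw [hq, hb', ← (signed_eq m m b b).2, ← hp]; group
        simpa using h1
      rw [← hf q, ← ht p] at e
      exact hpq ((signed_eq _ _ _ _).1 e).1
  obtain ⟨m, odd, h0, h1, h2⟩ := realize i j k (fun e => hd 0 1 i bi bj (by decide) hi (e ▸ hj))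
    (fun e => hd 0 2 i bi bk (by decide) hi (e ▸ hk)) (fun e => hd 1 2 j bj bk (by decide) hj (e ▸ hk))
    bi bj bk
  set σ := toPerm (SemidirectProduct.inr m) * if odd then swap (0 : Fin 9) 1 else 1
  have hc : σ⁻¹ * g ∈ plane.map toPerm := by
    refine eq_of_centralize fun p => ?_
    have key : ∀ (p : Fin 3) (s : Perm (Fin 9)), g * toPerm (blockCycle p) * g⁻¹ = s →
        σ * toPerm (blockCycle p) = s * σ → σ⁻¹ * g * toPerm (blockCycle p) =
          toPerm (blockCycle p) * (σ⁻¹ * g) := by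
      intro p s hs hσ
      calc σ⁻¹ * g * toPerm (blockCycle p) = σ⁻¹ * (g * toPerm (blockCycle p) * g⁻¹) * g := by group
        _ = σ⁻¹ * (σ * toPerm (blockCycle p) * σ⁻¹) * g := by rw [hs, hσ, mul_inv_cancel_right]
        _ = _ := by group
    fin_cases p
    exacts [key 0 _ hi h0, key 1 _ hj h1, key 2 _ hk h2]
  obtain ⟨v, -, hv⟩ := hc
  have hge : g = σ * toPerm v := by rw [hv, mul_inv_cancel_left]
  have hodd : odd = false := by
    have hs : Perm.sign g = 1 := Perm.mem_alternatingGroup.1 hgA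
    rw [hge, Perm.sign_mul, Perm.sign_mul, sign_toPerm, sign_toPerm] at hs
    cases odd
    · rfl
    · simp [Perm.sign_swap'] at hs
  refine ⟨SemidirectProduct.inr m * v, ?_⟩
  rw [hge, map_mul]
  simp [σ, hodd]

end Cfsg.Agent.AltNineThree
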