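import Cfsg.Agent.Lib.AltNineThree.NoSmall
import Cfsg.Agent.Lib.AltNineThree.Normalizer

/-!
# Embeddings into `A9` and the cycle generators

* `embNine`, `embSide`: `S6` on the points `012345` and `678012`
* `toPermA`, `embA`: maps into `A9`
* `even_induction`: `A6` is generated by the cycles `(01m)`
-/

set_option autoImplicit false

namespace Cfsg.Agent.AltNineThree

open Cfsg Cfsg.Agent.ThreeCubedSymFour Equiv

/-- `S6` on the first six of nine points. -/
def embNine : Perm (Fin 6) →* Perm (Fin 9) :=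
  (finSumFinEquiv (m := 6) (n := 3)).permCongrHom.toMonoidHom.comp
    ((Perm.sumCongrHom (Fin 6) (Fin 3)).comp (MonoidHom.inl _ _))

theorem sign_embNine (s : Perm (Fin 6)) : Perm.sign (embNine s) = Perm.sign s := by
  show Perm.sign ((finSumFinEquiv (m := 6) (n := 3)).permCongr (Equiv.sumCongr s 1)) = _
  rw [Perm.sign_permCongr, Perm.sign_sumCongr, map_one, mul_one]

/-- The rotation carrying the first two blocks to the outer blocks. -/
def sideShift : Perm (Fin 9) := toPerm (rotQ * rotQ)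

/-- `S6` on the points `012678`. -/
def embSide : Perm (Fin 6) →* Perm (Fin 9) := (MulAut.conj sideShift).toMonoidHom.comp embNine

/-- The model in `A9`. -/
def toPermA : Q →* alternatingGroup (Fin 9) :=
  toPerm.codRestrict _ fun q => Perm.mem_alternatingGroup.2 (sign_toPerm q)

/-- `A6` in `A9`. -/
def embA : alternatingGroup (Fin 6) →* alternatingGroup (Fin 9) :=
  (embNine.comp (alternatingGroup (Fin 6)).subtype).codRestrict _ fun s =>
    Perm.mem_alternatingGroup.2 (by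
      show Perm.sign (embNine s) = 1
      rw [sign_embNine]; exact Perm.mem_alternatingGroup.1 s.2)

/-- The cycle `(01m)` of degree six. -/
def cyc6 (m : Fin 6) : Perm (Fin 6) := swap 0 m * swap 0 1
/-- The cycle `(01m)` of degree nine. -/
def cyc9 (m : Fin 9) : Perm (Fin 9) := swap 0 m * swap 0 1

/-- The involution inverting `(016)`. -/
def dQ : Q := last * sideFlip * last⁻¹
/-- Its trace on the points `678012`. -/
def dLocal : Perm (Fin 6) := swap 3 4 * swap 1 2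
/-- The cycle on the points `678012` corresponding to `(016)`, rotated. -/
def zLocal (l : Fin 3) : Perm (Fin 6) := c0 ^ (l : ℕ) * (swap 3 4 * swap 4 0) * (c0 ^ (l : ℕ))⁻¹

theorem cyc6_facts : (∀ m : Fin 6, 2 ≤ m → cyc6 m ^ 3 = 1 ∧ Perm.sign (cyc6 m) = 1) ∧
    cyc6 2 = c0 ∧ (∀ i j : Fin 6, 2 ≤ i → 2 ≤ j → i ≠ j → (cyc6 i * cyc6 j) ^ 2 = 1) ∧
    (∀ k : Fin 3, cyc6 ⟨3 + k, by omega⟩ = c1 ^ (k : ℕ) * cyc6 3 * (c1 ^ (k : ℕ))⁻¹) := by
  decide +kernel

theorem zLocal_facts : (∀ l, zLocal l ^ 3 = 1 ∧ Perm.sign (zLocal l) = 1 ∧ (c1 * zLocal l) ^ 2 = 1 ∧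
      (zLocal l * c1) ^ 2 = 1) ∧
    (∀ l m, l ≠ m → (zLocal l * zLocal m) ^ 2 = 1) ∧ zLocal 0 = swap 3 4 * swap 4 0 := by
  decide +kernel

theorem zLocal_unique : ∀ s : Perm (Fin 6), Perm.sign s = 1 → s * (s * s) = 1 →
    c1 * s * (c1 * s) = 1 → dLocal * s * dLocal⁻¹ = s⁻¹ → s = c1⁻¹ ∨ s = zLocal 0 := by
  decide +kernel

theorem four_cycle_gen :
    ∃ v ∈ ([1, vA, vB, vA * vB] : List (Perm (Fin 6))), ∃ i : Fin 3,
      cyc6 3 = v * c0 ^ (i : ℕ) := by
  decide +kernel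

theorem moved_cycle : wU * c0 * wU⁻¹ = swap 0 1 * swap 1 3 ∧
    swap 0 1 * swap 1 3 = c0 ^ 2 * (wT * c1 * wU) * (c0 ^ 2)⁻¹ ∧ Perm.sign wU = 1 ∧ wU * wU = 1 ∧
    wU * swap 4 5 = swap 4 5 * wU ∧ (swap 4 5 : Perm (Fin 6)) = c1 * (swap 0 1 * (swap 0 1 * swap 3 4)) * c1⁻¹ ∧
    swap 0 1 * cyc6 5 * swap 0 1 = (cyc6 5)⁻¹ ∧
    dLocal = swap 0 1 * (swap 0 1 * swap 3 4) * (c0 * swap 0 1 * c0⁻¹) ∧ cyc6 5 ≠ c0⁻¹ := by
  decide +kernel

set_option synthInstance.maxSize 4000 in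
theorem d_facts : last * (jInv * flipPair) * last⁻¹ = dQ ∧
    rotQ * (jInv * flipPair) * rotQ⁻¹ = jInv ∧
    jInv * (last * flipPair * last⁻¹) = dQ ∧ rotQ * (mid * jInv * mid⁻¹) * rotQ⁻¹ = last * flipPair * last⁻¹ := by
  decide +kernel

/-- `Fin 2 ⊕ Fin 7` as nine points. -/
def nineSum : Fin 2 ⊕ Fin 7 ≃ Fin 9 := finSumFinEquiv

theorem nineSum_cyc : ∀ i : Fin 7, nineSum.permCongr (AltPresent.cyc i) = cyc9 (nineSum (Sum.inr i)) := by
  decide +kernel

theorem emb_cyc : (∀ m : Fin 6, 2 ≤ m → embNine (cyc6 m) = cyc9 ⟨m, by omega⟩) ∧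
    embSide c1 = cyc9 2 ∧ (∀ l : Fin 3, embSide (zLocal l) = cyc9 ⟨6 + l, by omega⟩) ∧
    toPerm aAx = embNine c0 ∧ toPerm mid = embNine c1 ∧ toPerm last = embSide c0 := by
  decide +kernel

/-- `Fin 2 ⊕ Fin 4` as six points. -/
def sixSum : Fin 2 ⊕ Fin 4 ≃ Fin 6 := finSumFinEquiv

theorem sixSum_cyc : ∀ i : Fin 4, sixSum.permCongr (AltPresent.cyc i) = cyc6 (sixSum (Sum.inr i)) ∧
    2 ≤ sixSum (Sum.inr i) := by
  decide +kernel

/-- The alternating group of degree six is generated by the cycles `(01m)`. -/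
theorem even_induction {P : Perm (Fin 6) → Prop} (h1 : P 1) (hmul : ∀ s t, P s → P t → P (s * t))
    (hgen : ∀ m, 2 ≤ m → P (cyc6 m)) {s : Perm (Fin 6)} (hs : Perm.sign s = 1) : P s := by
  obtain ⟨L, hL⟩ := AltPresent.exists_word (σ := sixSum.symm.permCongr s)
    (by rw [Perm.sign_permCongr]; exact hs)
  have key : ∀ L : List (Fin 4), P (sixSum.permCongrHom (L.map AltPresent.cyc).prod) := by
    intro L
    induction L with
    | nil => rw [List.map_nil, List.prod_nil, map_one]; exact h1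
    | cons i L ih =>
      rw [List.map_cons, List.prod_cons, map_mul]
      refine hmul _ _ ?_ ih
      show P (sixSum.permCongr _)
      rw [(sixSum_cyc i).1]
      exact hgen _ (sixSum_cyc i).2
  have := key L
  rw [hL] at this
  convert this using 1
  ext x
  simp

end Cfsg.Agent.AltNineThree
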