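import Cfsg.Agent.Lib.AltNineThree.GenCalc

/-!
# Computations with involutions of `A9`

* `jJ`, `jZ`, `iI`: involutions
* `splitHom`, `tailA`: the parts on `0123` and `45678`
* `pair_four`, `flips`, `involution_cases`: classifications
* `treeSub`: a Sylow two-subgroup centralizing `iI`
-/

set_option autoImplicit false

namespace Cfsg.Agent.AltNineThree

open Cfsg Cfsg.Agent.ThreeCubedSymFour Equiv

/-- `(01)(23)`. -/
def pJ : Perm (Fin 9) := swap 0 1 * swap 2 3
/-- `(02)(13)`. -/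
def pZ : Perm (Fin 9) := swap 0 2 * swap 1 3
/-- `(01)(23)(45)(67)`. -/
def pI : Perm (Fin 9) := swap 0 1 * swap 2 3 * swap 4 5 * swap 6 7

/-- `(01)(23)` in `A9`. -/
def jJ : alternatingGroup (Fin 9) := ⟨pJ, Perm.mem_alternatingGroup.2 (by decide +kernel)⟩
/-- `(02)(13)` in `A9`. -/
def jZ : alternatingGroup (Fin 9) := ⟨pZ, Perm.mem_alternatingGroup.2 (by decide +kernel)⟩
/-- `(01)(45)` in `A9`. -/
def jW : alternatingGroup (Fin 9) :=
  ⟨swap 0 1 * swap 4 5, Perm.mem_alternatingGroup.2 (by decide +kernel)⟩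
/-- `(01)(23)(45)(67)` in `A9`. -/
def iI : alternatingGroup (Fin 9) := ⟨pI, Perm.mem_alternatingGroup.2 (by decide +kernel)⟩
/-- `(024)(135)` in `A9`. -/
def iX : alternatingGroup (Fin 9) :=
  ⟨swap 0 2 * swap 2 4 * (swap 1 3 * swap 3 5), Perm.mem_alternatingGroup.2 (by decide +kernel)⟩

/-- The two parts. -/
def splitHom : Perm (Fin 4) × Perm (Fin 5) →* Perm (Fin 9) :=
  (finSumFinEquiv (m := 4) (n := 5)).permCongrHom.toMonoidHom.comp (Perm.sumCongrHom (Fin 4) (Fin 5))

theorem splitHom_injective : Function.Injective splitHom :=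
  (finSumFinEquiv (m := 4) (n := 5)).permCongrHom.injective.comp Perm.sumCongrHom_injective

theorem sign_splitHom (p : Perm (Fin 4) × Perm (Fin 5)) :
    Perm.sign (splitHom p) = Perm.sign p.1 * Perm.sign p.2 := by
  show Perm.sign ((finSumFinEquiv (m := 4) (n := 5)).permCongr (Equiv.sumCongr p.1 p.2)) = _
  rw [Perm.sign_permCongr, Perm.sign_sumCongr]

/-- `A5` on `45678`. -/
def tailA : alternatingGroup (Fin 5) →* alternatingGroup (Fin 9) :=
  ((splitHom.comp (MonoidHom.inr _ _)).comp (alternatingGroup (Fin 5)).subtype).codRestrict _ fun a =>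
    Perm.mem_alternatingGroup.2 (by
      show Perm.sign (splitHom (1, (a : Perm (Fin 5)))) = 1
      rw [sign_splitHom, map_one, one_mul]; exact Perm.mem_alternatingGroup.1 a.2)

/-- The four group on four points. -/
def kFour : Subgroup (Perm (Fin 4)) :=
  fourGroup (swap 0 1 * swap 2 3) (swap 0 2 * swap 1 3) (by decide +kernel) (by decide +kernel)
    (by decide +kernel)

theorem card_kFour : Nat.card kFour = 4 := by
  have h : Nat.card {x : Perm (Fin 4) // x = 1 ∨ x = swap 0 1 * swap 2 3 ∨ x = swap 0 2 * swap 1 3 ∨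
      x = swap 0 1 * swap 2 3 * (swap 0 2 * swap 1 3)} = 4 := by
    rw [Nat.subtype_card (Finset.univ.filter fun x => x = 1 ∨ x = swap 0 1 * swap 2 3 ∨
      x = swap 0 2 * swap 1 3 ∨ x = swap 0 1 * swap 2 3 * (swap 0 2 * swap 1 3)) fun x => by simp]
    decide +kernel
  exact h

theorem split_facts : splitHom (swap 0 1 * swap 2 3, 1) = pJ ∧ splitHom (swap 0 2 * swap 1 3, 1) = pZ ∧
    ∀ v ∈ ([1, swap 0 1 * swap 2 3, swap 0 2 * swap 1 3,
        swap 0 1 * swap 2 3 * (swap 0 2 * swap 1 3)] : List (Perm (Fin 4))),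
      v * (swap 0 1 * swap 2 3) = swap 0 1 * swap 2 3 * v ∧
      v * (swap 0 2 * swap 1 3) = swap 0 2 * swap 1 3 * v ∧ v * v = 1 ∧ Perm.sign v = 1 := by
  decide +kernel

/-- A transfer of `(02)(13)` commuting with `(01)(23)`. -/
theorem four_normalized : ∀ a b : Fin 9, pJ a ≠ a → pJ b ≠ b → a ≠ b → pJ a ≠ b →
    swap a b * swap (pJ a) (pJ b) = pZ ∨ swap a b * swap (pJ a) (pJ b) = pJ * pZ := by
  decide +kernel

theorem conj_jZ {m : alternatingGroup (Fin 9)} (h : m * jJ = jJ * m) :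
    m * jZ * m⁻¹ = jZ ∨ m * jZ * m⁻¹ = jJ * jZ := by
  have hp : ∀ k, (m : Perm (Fin 9)) (pJ k) = pJ ((m : Perm (Fin 9)) k) := fun k =>
    DFunLike.congr_fun (show (m : Perm (Fin 9)) * pJ = pJ * (m : Perm (Fin 9)) from congrArg Subtype.val h) k
  have e : (m : Perm (Fin 9)) * pZ * (m : Perm (Fin 9))⁻¹ =
      swap ((m : Perm (Fin 9)) 0) ((m : Perm (Fin 9)) 2) *
        swap (pJ ((m : Perm (Fin 9)) 0)) (pJ ((m : Perm (Fin 9)) 2)) := by
    have k0 : pJ 0 = 1 := by decide +kernel
    have k2 : pJ 2 = 3 := by decide +kernel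
    rw [← hp, ← hp, k0, k2, Equiv.swap_apply_apply, Equiv.swap_apply_apply, pZ]
    group
  have hinj := (m : Perm (Fin 9)).injective
  rcases four_normalized ((m : Perm (Fin 9)) 0) ((m : Perm (Fin 9)) 2)
      (by rw [← hp]; exact fun e => absurd (hinj e) (by decide +kernel))
      (by rw [← hp]; exact fun e => absurd (hinj e) (by decide +kernel))
      (fun e => absurd (hinj e) (by decide +kernel))
      (by rw [← hp]; exact fun e => absurd (hinj e) (by decide +kernel)) with h' | h'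
  · exact Or.inl (Subtype.ext (e.trans h'))
  · exact Or.inr (Subtype.ext (e.trans h'))

/-- The two transfers of `(01)(34)`, `(01)(25)` to a pair. -/
def pairBase (k : Fin 2) : Perm (Fin 9) :=
  if k = 0 then swap 2 3 * swap 2 4 else swap 0 2 * swap 1 3 * (swap 2 3 * swap 2 4)

/-- Candidates for the transfer. -/
def pairCands : List (Perm (Fin 9)) :=
  ([(4, 5), (4, 6), (4, 7), (4, 8), (5, 6), (5, 7), (5, 8), (6, 7), (6, 8), (7, 8)] : List (Fin 9 × Fin 9)).flatMap
    fun p => (List.finRange 2).flatMap fun k =>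
      let β := swap 4 p.1 * swap 5 p.2 * pairBase k
      [β, swap 0 1 * β]

set_option synthInstance.maxSize 4000 in
theorem pair_four : ∀ a b c d : Fin 9, a < b → c < d → a < c → b ≠ c → b ≠ d →
    let m := swap a b * swap c d
    m * pJ = pJ * m → (pJ * m).support.card = 4 →
    m = pZ ∨ m = pJ * pZ ∨ ∃ σ ∈ pairCands, Perm.sign σ = 1 ∧
      σ * embNine rA = pJ * σ ∧ σ * embNine rB = m * σ := by
  decide +kernel

/-- Candidates carrying `(01)(23)` to a flip. -/
def flipCands : List (Perm (Fin 9)) :=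
  [1, swap 2 4 * swap 3 5, swap 2 6 * swap 3 7, swap 0 4 * swap 1 5, swap 0 6 * swap 1 7,
    swap 0 4 * swap 1 5 * (swap 2 6 * swap 3 7)]

set_option synthInstance.maxSize 4000 in
theorem flips : ∀ a b c d : Fin 9, a < b → c < d → a < c → b ≠ c → b ≠ d →
    let m := swap a b * swap c d
    m * pI = pI * m → (m * pI).support.card = 4 →
    ∃ σ ∈ flipCands, Perm.sign σ = 1 ∧ σ * pI = pI * σ ∧ σ * pJ = m * σ := by
  decide +kernel

theorem double_normal {a b c d : Fin 9} (hab : a ≠ b) (hcd : c ≠ d) (hac : a ≠ c) (had : a ≠ d)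
    (hbc : b ≠ c) (hbd : b ≠ d) :
    ∃ a' b' c' d', a' < b' ∧ c' < d' ∧ a' < c' ∧ b' ≠ c' ∧ b' ≠ d' ∧
      swap a b * swap c d = swap a' b' * swap c' d' := by
  have hsw : ∀ p q r s : Fin 9, p ≠ r → p ≠ s → q ≠ r → q ≠ s → swap p q * swap r s = swap r s * swap p q := by
    intro p q r s h1 h2 h3 h4
    rw [← mul_inv_eq_iff_eq_mul, ← Equiv.swap_apply_apply, swap_apply_of_ne_of_ne h1.symm h3.symm,
      swap_apply_of_ne_of_ne h2.symm h4.symm]
  wlog h1 : a < b generalizing a b
  · rw [swap_comm a b]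
    exact this hab.symm hbc hbd hac had (lt_of_le_of_ne (not_lt.1 h1) hab.symm)
  wlog h2 : c < d generalizing c d
  · rw [swap_comm c d]
    exact this hcd.symm had hac hbd hbc (lt_of_le_of_ne (not_lt.1 h2) hcd.symm)
  rcases lt_or_gt_of_ne hac with h | h
  · exact ⟨a, b, c, d, h1, h2, h, hbc, hbd, rfl⟩
  · exact ⟨c, d, a, b, h2, h1, h, had.symm, hbd.symm, hsw a b c d hac had hbc hbd⟩

theorem class_facts :
    (toPerm jInv).cycleType = {2, 2} ∧ (toPerm iInv).cycleType = {2, 2, 2, 2} ∧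
      swap (6 : Fin 9) 7 * toPerm jInv = toPerm jInv * swap 6 7 ∧
      swap (6 : Fin 9) 7 * toPerm iInv = toPerm iInv * swap 6 7 ∧
      toPerm jInv = swap (0 : Fin 9) 1 * swap 3 4 := by
  decide +kernel

theorem conj_alt {p : Perm (Fin 9)} (hp : Perm.sign p = 1) {q : Q} (hq : swap (6 : Fin 9) 7 * toPerm q = toPerm q * swap 6 7)
    (h : (toPerm q).cycleType = p.cycleType) :
    ∃ σ : alternatingGroup (Fin 9), σ * toPermA q * σ⁻¹ = ⟨p, Perm.mem_alternatingGroup.2 hp⟩ := by
  obtain ⟨σ, hσ⟩ := isConj_iff.1 (Perm.isConj_iff_cycleType_eq.2 h)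
  rcases Int.units_eq_one_or (Perm.sign σ) with hs | hs
  · exact ⟨⟨σ, Perm.mem_alternatingGroup.2 hs⟩, Subtype.ext hσ⟩
  · refine ⟨⟨σ * swap 6 7, Perm.mem_alternatingGroup.2 (by
      rw [map_mul, hs, Perm.sign_swap (by decide)]; rfl)⟩, Subtype.ext ?_⟩
    show σ * swap 6 7 * toPerm q * (σ * swap 6 7)⁻¹ = p
    rw [mul_assoc σ, hq, mul_inv_rev, ← mul_assoc, ← mul_assoc σ, mul_inv_cancel_right]
    exact hσ

/-- An involution of `A9` is of one of two classes. -/
theorem involution_cases (m : alternatingGroup (Fin 9)) (h2 : m * m = 1) (h1 : m ≠ 1) :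
    (∃ σ : alternatingGroup (Fin 9), σ * toPermA jInv * σ⁻¹ = m) ∨
      ∃ σ : alternatingGroup (Fin 9), σ * toPermA iInv * σ⁻¹ = m := by
  obtain ⟨cj, ci, hj, hi, -⟩ := class_facts
  set p := (m : Perm (Fin 9))
  have hord : orderOf p = 2 := orderOf_eq_prime (by rw [pow_two]; exact congrArg Subtype.val h2)
    fun h => h1 (Subtype.ext h)
  obtain ⟨n, hn⟩ := Perm.cycleType_prime_order (σ := p) (hord ▸ Nat.prime_two)
  rw [hord] at hn
  have hsum := Perm.sum_cycleType p ▸ Finset.card_le_univ p.support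
  have hsgn := Perm.sign_of_cycleType p
  rw [Perm.mem_alternatingGroup.1 m.2, hn, Multiset.sum_replicate, Multiset.card_replicate, smul_eq_mul] at hsgn
  rw [hn, Multiset.sum_replicate, smul_eq_mul, Fintype.card_fin] at hsum
  have hn' : n + 1 = 2 ∨ n + 1 = 4 := by
    have hle : n + 1 ≤ 4 := by omega
    interval_cases hk : n + 1 <;> simp_all <;> exact absurd hsgn (by decide)
  have key : ∀ q : Q, swap (6 : Fin 9) 7 * toPerm q = toPerm q * swap 6 7 →
      (toPerm q).cycleType = Multiset.replicate (n + 1) 2 →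
      ∃ σ : alternatingGroup (Fin 9), σ * toPermA q * σ⁻¹ = m := fun q hq h =>
    conj_alt (Perm.mem_alternatingGroup.1 m.2) hq (h.trans hn.symm)
  rcases hn' with h | h
  · exact Or.inl (key jInv hj (by rw [cj, h]; rfl))
  · exact Or.inr (key iInv hi (by rw [ci, h]; rfl))

/-- A conjugate of `(01)(34)` is a double transposition. -/
theorem double_of_conj (σ : alternatingGroup (Fin 9)) :
    ∃ a b c d : Fin 9, a < b ∧ c < d ∧ a < c ∧ b ≠ c ∧ b ≠ d ∧
      ((σ * toPermA jInv * σ⁻¹ : alternatingGroup (Fin 9)) : Perm (Fin 9)) = swap a b * swap c d := by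
  set s := (σ : Perm (Fin 9))
  have hne : ∀ p q : Fin 9, p ≠ q → s p ≠ s q := fun p q h e => h (s.injective e)
  obtain ⟨a, b, c, d, h1, h2, h3, h4, h5, h⟩ := double_normal (hne 0 1 (by decide)) (hne 3 4 (by decide))
    (hne 0 3 (by decide)) (hne 0 4 (by decide)) (hne 1 3 (by decide)) (hne 1 4 (by decide))
  refine ⟨a, b, c, d, h1, h2, h3, h4, h5, ?_⟩
  show s * toPerm jInv * s⁻¹ = _
  rw [class_facts.2.2.2.2, ← h, Equiv.swap_apply_apply, Equiv.swap_apply_apply]
  group

theorem support_of_conj (σ : alternatingGroup (Fin 9)) :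
    ((σ * toPermA jInv * σ⁻¹ : alternatingGroup (Fin 9)) : Perm (Fin 9)).support.card = 4 := by
  show ((σ : Perm (Fin 9)) * toPerm jInv * (σ : Perm (Fin 9))⁻¹).support.card = 4
  rw [Perm.card_support_conj]
  decide +kernel

set_option synthInstance.maxSize 4000 in
theorem special_facts : jJ * jJ = 1 ∧ jJ ≠ 1 ∧ jZ * jZ = 1 ∧ jZ ≠ 1 ∧ jZ ≠ jJ ∧ jJ * jZ = jZ * jJ ∧
    jW * jJ = jJ * jW ∧ jW * jZ * jW⁻¹ = jZ * jJ ∧ jJ * jZ = embA ⟨vA, Perm.mem_alternatingGroup.2 trich_facts.2.2.1⟩ *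
      embA ⟨vB, Perm.mem_alternatingGroup.2 trich_facts.2.2.2.1⟩ ∧
    jJ = embA ⟨vA, Perm.mem_alternatingGroup.2 trich_facts.2.2.1⟩ ∧
    jZ = embA ⟨vB, Perm.mem_alternatingGroup.2 trich_facts.2.2.2.1⟩ := by
  decide +kernel

/-- The parameters of the automorphisms of the binary tree on eight points, of even parity. -/
abbrev Tree : Type := Bool × (Bool × Bool) × (Bool × Bool × Bool)

/-- The flip at the last level over a node. -/
def Tree.low (t : Tree) (b2 b1 : Bool) : Bool :=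
  match b2, b1 with
  | false, false => t.2.2.1
  | false, true => t.2.2.2.1
  | true, false => t.2.2.2.2
  | true, true => xor t.2.2.1 (xor t.2.2.2.1 t.2.2.2.2)

/-- The flip at the middle level over a node. -/
def Tree.high (t : Tree) (b2 : Bool) : Bool := cond b2 t.2.1.2 t.2.1.1

/-- The product of two parameters. -/
def Tree.prod (t u : Tree) : Tree :=
  let h := fun b2 => xor (u.high b2) (t.high (xor b2 u.1))
  let l := fun b2 b1 => xor (u.low b2 b1) (t.low (xor b2 u.1) (xor b1 (u.high b2)))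
  (xor t.1 u.1, (h false, h true), (l false false, l false true, l true false))

/-- The permutation of a parameter. -/
def Tree.perm (t : Tree) : Perm (Fin 9) :=
  cond t.1 (swap 0 4 * swap 1 5 * (swap 2 6 * swap 3 7)) 1 *
    (cond t.2.1.1 (swap 0 2 * swap 1 3) 1 * cond t.2.1.2 (swap 4 6 * swap 5 7) 1) *
    (cond (t.low false false) (swap 0 1) 1 * cond (t.low false true) (swap 2 3) 1 *
      (cond (t.low true false) (swap 4 5) 1 * cond (t.low true true) (swap 6 7) 1))

theorem Tree.perm_mul : ∀ t u : Tree, t.perm * u.perm = (t.prod u).perm := by decide +kernel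

theorem Tree.perm_inv : ∀ t : Tree, ∃ u : Tree, u.perm * t.perm = 1 := by decide +kernel

theorem Tree.even : ∀ t : Tree, Perm.sign t.perm = 1 := by decide +kernel

theorem Tree.eq_of_perm {t u : Tree} : t.perm = u.perm → t = u := by revert t u; decide +kernel

/-- A Sylow two-subgroup centralizing `iI`. -/
def treeSub : Subgroup (alternatingGroup (Fin 9)) where
  carrier := Set.range fun t : Tree => (⟨t.perm, Perm.mem_alternatingGroup.2 t.even⟩ : alternatingGroup (Fin 9))
  one_mem' := ⟨(false, (false, false), (false, false, false)), Subtype.ext (by decide +kernel)⟩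
  mul_mem' := by
    rintro _ _ ⟨t, rfl⟩ ⟨u, rfl⟩
    exact ⟨t.prod u, Subtype.ext (Tree.perm_mul t u).symm⟩
  inv_mem' := by
    rintro _ ⟨t, rfl⟩
    obtain ⟨u, hu⟩ := Tree.perm_inv t
    exact ⟨u, eq_inv_of_mul_eq_one_left (Subtype.ext hu)⟩

theorem card_treeSub : Nat.card treeSub = 64 := by
  exact (Nat.card_congr (Equiv.ofInjective (fun t : Tree =>
    (⟨t.perm, Perm.mem_alternatingGroup.2 t.even⟩ : alternatingGroup (Fin 9)))
    fun t u h => Tree.eq_of_perm (congrArg Subtype.val h))).symm.trans (by simp [Nat.card_prod])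

theorem treeSub_facts : jJ ∈ treeSub ∧ ∀ m ∈ treeSub, m * iI = iI * m := by
  refine ⟨⟨(false, (false, false), (true, true, false)), Subtype.ext (by decide +kernel)⟩, ?_⟩
  have key : ∀ t : Tree, t.perm * pI = pI * t.perm := by decide +kernel
  rintro _ ⟨t, rfl⟩
  exact Subtype.ext (key t)

end Cfsg.Agent.AltNineThree
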