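import Cfsg.Agent.Lib.AltNineThree.InvJ
import Cfsg.Agent.Lib.NilGroup.Basic

/-!
# The centralizer of `(01)(23)(45)(67)` lies in `A9`

* `index_quotient_dvd`: the index bound for a subgroup over a normal subgroup
* `NineModel.centralizer_iI`: the centralizer lies in the subgroup
-/

set_option autoImplicit false

namespace Cfsg.Agent.AltNineThree

open Cfsg Cfsg.Agent.ThreeCubedSymFour Equiv

/-- The transfer of `(012)(345)` to `(024)(135)`. -/
def pSigma : Perm (Fin 9) := swap 1 2 * swap 2 4 * swap 4 3 * swap 6 7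

/-- The exchange of `(01)(23)` with `(45)(67)`. -/
def jS : alternatingGroup (Fin 9) :=
  ⟨swap 0 4 * swap 1 5 * (swap 2 6 * swap 3 7), Perm.mem_alternatingGroup.2 (by decide +kernel)⟩

set_option synthInstance.maxSize 4000 in
theorem iI_facts : iI * iI = 1 ∧ iI ≠ 1 ∧ jJ * iI = iI * jJ ∧ jS * iI = iI * jS ∧
    jS * jJ * jS⁻¹ = jJ * iI ∧ jJ ≠ iI ∧ iX * iX * iX = 1 ∧ iX ≠ 1 ∧ iX ≠ iI ∧ iX * iI = iI * iX ∧
    jJ * (iX * jJ * iX⁻¹) = iX * jJ * iX⁻¹ * jJ ∧
    Perm.sign pSigma = 1 ∧ pSigma * toPerm bAx = (iX : Perm (Fin 9)) * pSigma ∧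
    pSigma * toPerm iInv = pI * pSigma ∧ Perm.sign (pJ * pI) = 1 ∧
    (toPerm jInv).cycleType = (pJ * pI).cycleType := by
  decide +kernel

theorem cent_two : ∀ q : Q, q * bAx = bAx * q → q * iInv = iInv * q →
    ∃ k : Fin 3, ∃ e : Fin 2, q = bAx ^ (k : ℕ) * iInv ^ (e : ℕ) := by
  decide +kernel

set_option synthInstance.maxSize 4000 in
theorem three_quot : ∀ u v : Perm (Fin 3), u * u = 1 → v * v * v = 1 → v ≠ 1 →
    u * (v * u * v⁻¹) = v * u * v⁻¹ * u → u = 1 := by
  decide +kernel

variable {G : Type*} [Group G]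

theorem card_model_alt : Nat.card (alternatingGroup (Fin 9)) = 181440 := by
  rw [nat_card_alternatingGroup, Nat.card_fin]
  rfl

/-- The centralizer of `(01)(23)(45)(67)`. -/
theorem NineModel.centralizer_iI {G : Type*} [Group G] [Finite G] {φ : alternatingGroup (Fin 9) →* G}
    (N : NineModel φ) {g : G} (hg : Commute g (φ iI)) : g ∈ φ.range := by
  have : Fact (Nat.Prime 2) := ⟨Nat.prime_two⟩
  have : Fact (Nat.Prime 3) := ⟨Nat.prime_three⟩
  obtain ⟨hI2, hI1, hJI, hSI, hSJ, -, hX3, hX1, hXI, hXIc, hXJ, hσ, hσb, hσi, hJIs, hJIc⟩ := iI_facts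
  obtain ⟨hJ2, hJ1, -⟩ := special_facts
  set I := φ iI
  set J := φ jJ
  set Y := Subgroup.centralizer ({I} : Set G)
  have hYI : ∀ y : Y, Commute (y : G) I := fun y => Subgroup.mem_centralizer_singleton_iff.1 y.2
  let iy : Y := ⟨I, Subgroup.mem_centralizer_singleton_iff.2 rfl⟩
  have iy2 : iy * iy = 1 := Subtype.ext (by show I * I = 1; rw [← map_mul, hI2, map_one])
  set Kj := Subgroup.zpowers iy
  haveI : Kj.Normal := ⟨fun k hk y => by
    obtain ⟨n, rfl⟩ := Subgroup.mem_zpowers_iff.1 hk
    have : Commute y iy := Subtype.ext (hYI y)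
    rw [(this.zpow_right n).eq, mul_inv_cancel_right]
    exact Subgroup.zpow_mem_zpowers iy n⟩
  set q := QuotientGroup.mk' Kj
  have hqs : Function.Surjective q := QuotientGroup.mk'_surjective Kj
  have hKj : ∀ y ∈ Kj, y = 1 ∨ y = iy := by
    intro y hy
    obtain ⟨n, rfl⟩ := Subgroup.mem_zpowers_iff.1 hy
    obtain ⟨m, rfl | rfl⟩ := Int.even_or_odd' n
    · exact Or.inl (by rw [zpow_mul, zpow_two, iy2, one_zpow])
    · exact Or.inr (by rw [zpow_add_one, zpow_mul, zpow_two, iy2, one_zpow, one_mul])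
  have hq : ∀ a b : Y, q a = q b → (b : G) = a ∨ (b : G) = (a : G) * I := by
    intro a b h
    rcases hKj _ ((QuotientGroup.eq).1 h) with e | e
    · exact Or.inl (by rw [inv_mul_eq_one.1 e])
    · refine Or.inr ?_
      have := congrArg (fun y : Y => ((a * y : Y) : G)) e
      simpa using this
  have qiy : q iy = 1 := (QuotientGroup.eq_one_iff iy).2 (Subgroup.mem_zpowers _)
  have hmem : ∀ m : alternatingGroup (Fin 9), m * iI = iI * m → φ m ∈ Y := fun m h =>
    Subgroup.mem_centralizer_singleton_iff.2 (by rw [← map_mul, ← map_mul, h])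
  let a : Y := ⟨J, hmem jJ hJI⟩
  let x : Y := ⟨φ iX, hmem iX hXIc⟩
  -- the centralizer of `(01)(23)` in the quotient
  have hca : ∀ y : Y, Commute (q y) (q a) → (y : G) ∈ φ.range := by
    intro y hy
    rcases hq a (y * a * y⁻¹) (by rw [map_mul, map_mul, map_inv, hy.eq, mul_inv_cancel_right]) with h | h
    · exact N.centralizer_jJ (mul_inv_eq_iff_eq_mul.1 (show (y : G) * J * (y : G)⁻¹ = J from h))
    · have h' : (y : G) * J * (y : G)⁻¹ = J * I := h
      have hS : φ jS * J * (φ jS)⁻¹ = J * I := by rw [← map_inv, ← map_mul, ← map_mul, hSJ, map_mul]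
      have e : (φ jS)⁻¹ * y * J * ((φ jS)⁻¹ * y)⁻¹ = J := by
        calc _ = (φ jS)⁻¹ * ((y : G) * J * (y : G)⁻¹) * φ jS := by group
          _ = _ := by rw [h', ← hS]; group
      have := mul_mem (⟨jS, rfl⟩ : φ jS ∈ φ.range) (N.centralizer_jJ (mul_inv_eq_iff_eq_mul.1 e))
      rwa [mul_inv_cancel_left] at this
  -- fusion of the flips
  have hfus : ∀ y : Y, (y : G) * J * (y : G)⁻¹ ∈ φ.range → (y : G) ∈ φ.range := by
    rintro y ⟨m, hm⟩
    have hmI : m * iI = iI * m := N.inj (by
      rw [map_mul, map_mul, hm]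
      exact (((hYI y).mul_left (hYI a)).mul_left (hYI y).inv_left).eq)
    obtain ⟨σ, hσm⟩ := N.class_j (m := m) (hm ▸ isJ_jJ.1.conj _)
    obtain ⟨τ, hτ⟩ := conj_alt hJIs class_facts.2.2.1 hJIc
    obtain ⟨ρ, hρ⟩ := N.class_j (m := m * iI) (by
      have e : φ (m * iI) = (y : G) * (J * I) * (y : G)⁻¹ := by
        rw [map_mul, hm]
        calc (y : G) * J * (y : G)⁻¹ * I = (y : G) * J * ((y : G)⁻¹ * I) := mul_assoc _ _ _
          _ = (y : G) * J * (I * (y : G)⁻¹) := by rw [(hYI y).inv_left.eq]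
          _ = _ := by group
      rw [e]
      refine IsJ.conj ?_ _
      have : J * I = φ ⟨pJ * pI, Perm.mem_alternatingGroup.2 hJIs⟩ := (map_mul φ jJ iI).symm
      rw [this]
      exact isJ_of_conj hτ)
    have hsupp := support_of_conj ρ
    rw [hρ] at hsupp
    obtain ⟨p1, p2, p3, p4, h1, h2, h3, h4, h5, hp⟩ := double_of_conj σ
    rw [hσm] at hp
    obtain ⟨π₀, -, hs, hπI, hπJ⟩ := flips p1 p2 p3 p4 h1 h2 h3 h4 h5
      (by rw [← hp]; exact congrArg Subtype.val hmI) (by rw [← hp]; exact hsupp)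
    rw [← hp] at hπJ
    let h : alternatingGroup (Fin 9) := ⟨π₀, Perm.mem_alternatingGroup.2 hs⟩
    have hh : φ h * J * (φ h)⁻¹ = (y : G) * J * (y : G)⁻¹ := by
      rw [← hm, ← map_inv, ← map_mul, ← map_mul]
      exact congrArg φ (Subtype.ext (mul_inv_eq_iff_eq_mul.2 hπJ))
    have e : (φ h)⁻¹ * y * J * ((φ h)⁻¹ * y)⁻¹ = J := by
      calc _ = (φ h)⁻¹ * ((y : G) * J * (y : G)⁻¹) * φ h := by group
        _ = _ := by rw [← hh]; group
    have := mul_mem (⟨h, rfl⟩ : φ h ∈ φ.range) (N.centralizer_jJ (mul_inv_eq_iff_eq_mul.1 e))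
    rwa [mul_inv_cancel_left] at this
  -- a Sylow two-subgroup
  set T₀ := treeSub.map φ
  have hT0Y : T₀ ≤ Y := by
    rintro _ ⟨m, hm, rfl⟩; exact hmem m (treeSub_facts.2 m hm)
  have hT0M : T₀ ≤ φ.range := Subgroup.map_le_range _ _
  have hT0c : Nat.card T₀ = 64 := by rw [Subgroup.card_map_of_injective N.inj, card_treeSub]
  set T' := T₀.subgroupOf Y
  have hT'c : Nat.card T' = 64 := (Cores.card_subgroupOf hT0Y).trans hT0c
  have hT'p : IsPGroup 2 T' := IsPGroup.of_card (n := 6) hT'c
  have haT : a ∈ T' := ⟨jJ, treeSub_facts.1, rfl⟩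
  let T : Sylow 2 Y :=
    { toSubgroup := T'
      isPGroup' := hT'p
      is_maximal' := fun {R} hR hle => by
        haveI := hR.isNilpotent
        by_contra hne
        have hlt : T'.subgroupOf R < ⊤ := lt_top_iff_ne_top.2 fun e =>
          hne (le_antisymm (Subgroup.subgroupOf_eq_top.1 e) hle)
        have h1 := normalizerCondition_of_isNilpotent (G := R) _ hlt
        set W := ((Subgroup.normalizer (T'.subgroupOf R : Set R)).map R.subtype).map Y.subtype
        have hW : W ≤ φ.range := by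
          rintro _ ⟨_, ⟨r, hr, rfl⟩, rfl⟩
          refine hfus r (hT0M ?_)
          exact (Subgroup.mem_normalizer_iff.1 hr ⟨a, hle haT⟩).1 haT
        obtain ⟨n, hn⟩ := (((hR.to_subgroup _).map R.subtype).map Y.subtype : IsPGroup 2 W).exists_card_eq
        have hgt : 64 < Nat.card W := by
          rw [Cores.card_map_subtype, Cores.card_map_subtype]
          have : Nat.card (T'.subgroupOf R) < Nat.card (Subgroup.normalizer (T'.subgroupOf R : Set R)) := by
            by_contra hcon
            exact h1.ne (Subgroup.eq_of_le_of_card_ge h1.le (not_lt.1 hcon))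
          rwa [Cores.card_subgroupOf hle, hT'c] at this
        have hd := Subgroup.card_dvd_of_le hW
        rw [hn, ← Nat.card_congr (MonoidHom.ofInjective N.inj).toEquiv, card_model_alt] at hd
        rw [hn] at hgt
        have h7 : 7 ≤ n := by
          by_contra h7
          have : 2 ^ n ≤ 2 ^ 6 := Nat.pow_le_pow_right (by norm_num) (by omega)
          norm_num at this
          omega
        have := (pow_dvd_pow 2 h7).trans hd
        norm_num at this }
  have hTodd : ¬ 2 ∣ T'.index := T.not_dvd_index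
  set X := Y ⧸ Kj
  set Tb := T'.map q
  have hTb : ¬ 2 ∣ Tb.index := fun h => hTodd (h.trans (Subgroup.index_map_dvd T' hqs))
  have hXcard : ∃ k, ¬ 2 ∣ k ∧ Nat.card X = 32 * k := by
    refine ⟨T'.index, hTodd, ?_⟩
    have h2 : Nat.card Kj = 2 := by
      rw [Nat.card_zpowers]
      refine orderOf_eq_prime (by rw [pow_two, iy2]) fun h => hI1 (N.inj ?_)
      rw [map_one]
      exact congrArg Subtype.val h
    have h1 := Subgroup.card_eq_card_quotient_mul_card_subgroup Kj
    have h3 := T'.card_mul_index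
    rw [h2, ← h3, hT'c] at h1
    show Nat.card (Y ⧸ Kj) = _
    omega
  let Tbar : Sylow 2 X := IsPGroup.toSylow (hT'p.map q : IsPGroup 2 Tb) hTb
  set Mb := (φ.range.subgroupOf Y).map q
  have hTM : Tb ≤ Mb := Subgroup.map_mono (Subgroup.comap_mono hT0M)
  have hMb : ∀ y : Y, (y : G) ∈ φ.range → q y ∈ Mb := fun y hy => ⟨y, hy, rfl⟩
  have hxo : q x * q x * q x = 1 := by
    rw [← map_mul, ← map_mul, ← map_one q]
    refine congrArg q (Subtype.ext ?_)
    show φ iX * φ iX * φ iX = 1
    rw [← map_mul, ← map_mul, hX3, map_one]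
  have hx1 : q x ≠ 1 := by
    intro h
    rcases hKj _ ((QuotientGroup.eq_one_iff x).1 h) with e | e
    · exact hX1 (N.inj (by rw [map_one]; exact congrArg Subtype.val e))
    · exact hXI (N.inj (congrArg Subtype.val e))
  have hord : orderOf (q x) = 3 := orderOf_eq_prime (by rw [pow_succ, pow_two, hxo]) hx1
  -- the centralizer of the three-element
  have hcent : Subgroup.centralizer ((Subgroup.zpowers (q x) : Subgroup X) : Set X) =
      Subgroup.zpowers (q x) := by
    refine le_antisymm (fun u hu => ?_) ?_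
    · obtain ⟨y, rfl⟩ := hqs u
      have hc : Commute (q y) (q x) := (Subgroup.mem_centralizer_iff.1 hu _ (Subgroup.mem_zpowers _)).symm
      have hyx : Commute (y : G) (φ iX) := by
        rcases hq x (y * x * y⁻¹) (by rw [map_mul, map_mul, map_inv, hc.eq, mul_inv_cancel_right]) with h | h
        · exact mul_inv_eq_iff_eq_mul.1 (show (y : G) * φ iX * (y : G)⁻¹ = φ iX from h)
        · exfalso
          have h' : (y : G) * φ iX * (y : G)⁻¹ = φ iX * I := h
          have h6 : ((y : G) * φ iX * (y : G)⁻¹) ^ 3 = (φ iX * I) ^ 3 := by rw [h']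
          have hx3 : φ iX ^ 3 = 1 := by rw [← map_pow, pow_succ, pow_two, hX3, map_one]
          rw [conj_pow, hx3, mul_one, mul_inv_cancel, (show Commute (φ iX) I from hYI x).mul_pow, hx3,
            one_mul, pow_succ, pow_two, ← map_mul, hI2, map_one, one_mul] at h6
          exact hI1 (N.inj (by rw [map_one]; exact h6.symm))
      set s : G := φ ⟨pSigma, Perm.mem_alternatingGroup.2 hσ⟩
      have eb : φ iX = s * φ (toPermA bAx) * s⁻¹ := by
        rw [← map_inv, ← map_mul, ← map_mul]
        exact congrArg φ (Subtype.ext (mul_inv_eq_iff_eq_mul.2 hσb).symm)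
      have ei : I = s * φ (toPermA iInv) * s⁻¹ := by
        rw [← map_inv, ← map_mul, ← map_mul]
        exact congrArg φ (Subtype.ext (mul_inv_eq_iff_eq_mul.2 hσi).symm)
      have hb : Commute (s⁻¹ * y * s) (φ (toPermA bAx)) := by
        calc s⁻¹ * y * s * φ (toPermA bAx) = s⁻¹ * (y * φ iX) * s := by rw [eb]; group
          _ = s⁻¹ * (φ iX * y) * s := by rw [hyx.eq]
          _ = _ := by rw [eb]; group
      have hi : Commute (s⁻¹ * y * s) (φ (toPermA iInv)) := by
        calc s⁻¹ * y * s * φ (toPermA iInv) = s⁻¹ * (y * I) * s := by rw [ei]; group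
          _ = s⁻¹ * (I * y) * s := by rw [(hYI y).eq]
          _ = _ := by rw [ei]; group
      obtain ⟨z, hz⟩ := N.cb (Subgroup.mem_centralizer_singleton_iff.2 hb.eq)
      obtain ⟨k, e, rfl⟩ := cent_two z
        (N.setting.inj (by rw [map_mul, map_mul, hz]; exact hb.eq))
        (N.setting.inj (by rw [map_mul, map_mul, hz]; exact hi.eq))
      have hy : y = x ^ (k : ℕ) * iy ^ (e : ℕ) := Subtype.ext (by
        rw [map_mul, map_pow, map_pow] at hz
        show (y : G) = φ iX ^ (k : ℕ) * I ^ (e : ℕ)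
        rw [eb, ei, conj_pow, conj_pow,
          show (y : G) = s * (s⁻¹ * y * s) * s⁻¹ by group, ← hz]
        show s * (φ (toPermA bAx) ^ (k : ℕ) * φ (toPermA iInv) ^ (e : ℕ)) * s⁻¹ = _
        group)
      rw [hy, map_mul, map_pow, map_pow, qiy, one_pow, mul_one]
      exact pow_mem (Subgroup.mem_zpowers _) _
    · intro u hu
      refine Subgroup.mem_centralizer_iff.2 fun r hr => ?_
      obtain ⟨i, rfl⟩ := Subgroup.mem_zpowers_iff.1 hu
      obtain ⟨j, rfl⟩ := Subgroup.mem_zpowers_iff.1 hr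
      exact ((Commute.refl _).zpow_zpow j i).eq
  suffices htop : Mb = ⊤ by
    obtain ⟨m, hm, e⟩ := htop ▸ Subgroup.mem_top (q ⟨g, Subgroup.mem_centralizer_singleton_iff.2 hg.eq⟩)
    rcases hq m ⟨g, _⟩ e with h | h
    · exact (show g = (m : G) from h) ▸ hm
    · exact (show g = (m : G) * I from h) ▸ mul_mem (show (m : G) ∈ φ.range from hm) ⟨iI, rfl⟩
  obtain ⟨k, hk2, hk⟩ := hXcard
  rcases S3331.result (Subgroup.zpowers (q x)) (by rw [Nat.card_zpowers, hord]) hcent with
    ⟨K, hK, hnil, hK3, hquot⟩ | ⟨K, hK, -, hK2, ⟨e⟩⟩ | ⟨⟨e⟩⟩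
  · -- nilpotent kernel
    haveI := hnil
    have hxK : q x ∉ K := fun h => by
      have hd : orderOf (⟨q x, h⟩ : K) ∣ Nat.card K := orderOf_dvd_natCard _
      rw [Subgroup.orderOf_mk, hord] at hd
      exact (Nat.Prime.coprime_iff_not_dvd Nat.prime_three).1 hK3.symm hd
    have haK : q a ∈ K := by
      set u := QuotientGroup.mk' K (q a)
      set v := QuotientGroup.mk' K (q x)
      have hu : u * u = 1 := by
        rw [← map_mul, ← map_mul, show a * a = 1 from Subtype.ext (by
          show φ jJ * φ jJ = 1; rw [← map_mul, hJ2, map_one]), map_one, map_one]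
      have hv : v * v * v = 1 := by rw [← map_mul, ← map_mul, hxo, map_one]
      have hv1 : v ≠ 1 := fun h => hxK ((QuotientGroup.eq_one_iff _).1 h)
      have hc : u * (v * u * v⁻¹) = v * u * v⁻¹ * u := by
        simp only [u, v, ← map_inv, ← map_mul]
        refine congrArg _ (congrArg q (Subtype.ext ?_))
        show J * (φ iX * J * (φ iX)⁻¹) = φ iX * J * (φ iX)⁻¹ * J
        simp only [J, ← map_inv, ← map_mul, hXJ]
      refine (QuotientGroup.eq_one_iff _).1 ?_
      rcases hquot with h | ⟨⟨e⟩⟩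
      · have h3 : u ^ 3 = 1 := by rw [← h]; exact pow_card_eq_one'
        rwa [pow_succ, pow_two, hu, one_mul] at h3
      · refine e.injective ((three_quot (e u) (e v) ?_ ?_ ?_ ?_).trans e.map_one.symm)
        · rw [← map_mul, hu, map_one]
        · rw [← map_mul, ← map_mul, hv, map_one]
        · exact fun h => hv1 (e.injective (h.trans e.map_one.symm))
        · have h' := congrArg e hc
          rw [map_mul e u, map_mul e _ u, map_mul e _ v⁻¹, map_mul e v u, map_inv e] at h'
          exact h'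
    have hKM : K ≤ Mb := by
      intro n hn
      obtain ⟨i, m, hm, hnm⟩ := Nat.exists_eq_two_pow_mul_odd (orderOf_pos n).ne'
      have hodd : n ^ 2 ^ i ∈ Mb := by
        set n' : K := ⟨n ^ 2 ^ i, K.pow_mem hn _⟩
        have ho : (orderOf n').Coprime (orderOf (⟨q a, haK⟩ : K)) := by
          have h1 : orderOf n' ∣ m := orderOf_dvd_of_pow_eq_one (Subtype.ext (by
            show (n ^ 2 ^ i) ^ m = 1
            rw [← pow_mul, ← hnm, pow_orderOf_eq_one]))
          have h2 : orderOf (⟨q a, haK⟩ : K) ∣ 2 := orderOf_dvd_of_pow_eq_one (Subtype.ext (by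
            show q a ^ 2 = 1
            rw [pow_two, ← map_mul, show a * a = 1 from Subtype.ext (by
              show φ jJ * φ jJ = 1; rw [← map_mul, hJ2, map_one]), map_one]))
          exact (Nat.Coprime.coprime_dvd_left h1 (Nat.coprime_two_right.2 hm)).coprime_dvd_right h2
        have hc := NilGroup.commute_of_coprime hnil ho
        obtain ⟨y, hy⟩ := hqs (n ^ 2 ^ i)
        rw [← hy]
        exact hMb y (hca y (by rw [hy]; exact congrArg Subtype.val hc.eq))
      have htwo : n ^ m ∈ Mb := by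
        obtain ⟨P⟩ := (inferInstance : Nonempty (Sylow 2 K))
        have hPn : (P : Subgroup K).Normal :=
          ((Group.isNilpotent_of_finite_tfae (G := K)).out 0 3 rfl rfl).1 hnil 2 inferInstance P
        haveI := Sylow.characteristic_of_normal P hPn
        haveI : ((P : Subgroup K).map K.subtype).Normal := inferInstance
        have hsup := Tbar.3 (Q := Tb ⊔ (P : Subgroup K).map K.subtype)
          (IsPGroup.to_sup_of_normal_right (hT'p.map q) (P.isPGroup'.map K.subtype)) le_sup_left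
        have hzp : IsPGroup 2 (Subgroup.zpowers (⟨n ^ m, K.pow_mem hn _⟩ : K)) := by
          refine IsPGroup.of_card (n := ?_) ?_
          · exact (Nat.log 2 (orderOf (⟨n ^ m, K.pow_mem hn _⟩ : K)))
          · have hd : orderOf (⟨n ^ m, K.pow_mem hn _⟩ : K) ∣ 2 ^ i := orderOf_dvd_of_pow_eq_one
              (Subtype.ext (by
                show (n ^ m) ^ 2 ^ i = 1
                rw [← pow_mul, mul_comm, ← hnm, pow_orderOf_eq_one]))
            obtain ⟨j, -, hj⟩ := (Nat.dvd_prime_pow Nat.prime_two).1 hd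
            rw [Nat.card_zpowers, hj, Nat.log_pow (by norm_num)]
        obtain ⟨P', hP'⟩ := hzp.exists_le_sylow
        haveI := Sylow.unique_of_normal P hPn
        rw [Subsingleton.elim P' P] at hP'
        exact hTM (hsup.le (Subgroup.mem_sup_right ⟨_, hP' (Subgroup.mem_zpowers _), rfl⟩))
      have hcop : (2 ^ i).Coprime m := Nat.Coprime.pow_left i (Nat.coprime_two_left.2 hm)
      obtain ⟨α, β, hαβ⟩ := Nat.isCoprime_iff_coprime.2 hcop
      have : n = (n ^ 2 ^ i) ^ α * (n ^ m) ^ β := by
        rw [← zpow_natCast, ← zpow_natCast n m, ← zpow_mul, ← zpow_mul, ← zpow_add,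
          show ((2 ^ i : ℕ) : ℤ) * α + (m : ℤ) * β = 1 by rw [mul_comm, mul_comm (m : ℤ)]; exact hαβ, zpow_one]
      rw [this]
      exact mul_mem (zpow_mem hodd α) (zpow_mem htwo β)
    have hidx : Mb.relIndex ⊤ * K.relIndex Mb = K.index := by
      rw [mul_comm, Subgroup.relIndex_mul_relIndex _ _ _ hKM le_top, Subgroup.relIndex_top_right]
    have h6 : K.index = 3 ∨ K.index = 6 := by
      rcases hquot with h | ⟨⟨e⟩⟩
      · exact Or.inl h
      · refine Or.inr ((Nat.card_congr e.toEquiv).trans ?_)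
        rw [Nat.card_perm, Nat.card_fin]
        rfl
    have hMi : ¬ 2 ∣ Mb.index := fun h => hTb (h.trans (Subgroup.index_dvd_of_le hTM))
    rw [Subgroup.relIndex_top_right] at hidx
    refine Subgroup.index_eq_one.1 ?_
    by_contra hne
    have hd : K.relIndex Mb = 1 ∨ K.relIndex Mb = 2 := by
      have hle : Mb.index ∣ 6 := by
        rcases h6 with h | h <;> rw [h] at hidx
        · exact (Dvd.intro _ hidx).trans (by norm_num)
        · exact Dvd.intro _ hidx
      have h3 : Mb.index = 3 := by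
        have := Nat.le_of_dvd (by norm_num) hle
        interval_cases h : Mb.index <;> omega
      rw [h3] at hidx
      omega
    rcases hd with h | h
    · exact hxK (Subgroup.relIndex_eq_one.1 h (hMb x ⟨iX, rfl⟩))
    · haveI := hK.subgroupOf Mb
      have hsq := Subgroup.mul_self_mem_of_index_two (H := K.subgroupOf Mb) h
        (⟨q x, hMb x ⟨iX, rfl⟩⟩ * ⟨q x, hMb x ⟨iX, rfl⟩⟩)
      refine hxK ?_
      have e : q x = q x * q x * (q x * q x) := by rw [← mul_assoc, hxo, one_mul]
      rw [e]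
      exact hsq
  · -- the quotient `A5`
    exfalso
    have hp : IsPGroup 2 K := fun n => ⟨1, Subtype.ext (by simpa using hK2 n n.2)⟩
    obtain ⟨j, hj⟩ := (IsPGroup.iff_card (p := 2)).1 hp
    have hc : Nat.card X = 60 * 2 ^ j := by
      rw [Subgroup.card_eq_card_quotient_mul_card_subgroup K, hj, Nat.card_congr e.toEquiv,
        nat_card_alternatingGroup, Nat.card_fin]
      rfl
    have hj3 : j = 3 := by
      rw [hk] at hc
      rcases lt_trichotomy j 3 with h | h | h
      · interval_cases j <;> omega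
      · exact h
      · obtain ⟨r, rfl⟩ : ∃ r, j = 4 + r := ⟨j - 4, by omega⟩
        rw [pow_add] at hc
        exact absurd ⟨15 * 2 ^ r, by linarith⟩ hk2
    classical
    haveI := Fintype.ofFinite K
    let f : Function.End K := fun n => ⟨q x * n * (q x)⁻¹, hK.conj_mem _ n.2 _⟩
    have hf : f ^ 3 ^ 1 = 1 := by
      funext n
      refine Subtype.ext ?_
      show q x * (q x * (q x * (n : X) * (q x)⁻¹) * (q x)⁻¹) * (q x)⁻¹ = n
      calc _ = q x * q x * q x * (n : X) * (q x * q x * q x)⁻¹ := by group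
        _ = _ := by rw [hxo, inv_one, one_mul, mul_one]
    have hmod := Equiv.Perm.card_fixedPoints_modEq (p := 3) (n := 1) hf
    have hfix : ∀ n : K, f n = n → n = 1 := by
      intro n hn
      have hc : (n : X) ∈ Subgroup.zpowers (q x) := by
        rw [← hcent]
        refine Subgroup.mem_centralizer_iff.2 fun r hr => ?_
        obtain ⟨i, rfl⟩ := Subgroup.mem_zpowers_iff.1 hr
        have h : Commute (q x) (n : X) := mul_inv_eq_iff_eq_mul.1 (congrArg Subtype.val hn)
        exact (h.zpow_left i).eq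
      have h2 : orderOf (n : X) ∣ 2 := orderOf_dvd_of_pow_eq_one (hK2 n n.2)
      have h3 : orderOf (n : X) ∣ 3 := hord ▸ orderOf_dvd_of_mem_zpowers hc
      exact Subtype.ext (orderOf_eq_one_iff.1 (Nat.eq_one_of_dvd_coprimes (by norm_num) h2 h3))
    have h1 : Fintype.card f.fixedPoints = 1 := by
      refine Fintype.card_eq_one_iff.2 ⟨⟨1, ?_⟩, fun n => Subtype.ext (hfix n n.2)⟩
      exact Subtype.ext (by show q x * 1 * (q x)⁻¹ = 1; group)
    rw [h1, ← Nat.card_eq_fintype_card, hj, hj3] at hmod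
    exact absurd hmod (by decide)
  · -- the quotient `L2(7)`
    exfalso
    have : Fact (Nat.Prime 7) := ⟨by norm_num⟩
    have h := Nat.card_congr e.toEquiv
    rw [GLOrder.card_PSL_two, Nat.card_zmod, hk] at h
    norm_num at h
    omega

end Cfsg.Agent.AltNineThree
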