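import Cfsg.Agent.Lib.AltNineThree.Gen
import Cfsg.Agent.Lib.AltNineThree.InvCalc
import Cfsg.Agent.Lib.ZStar.Unique
import Cfsg.Agent.Lib.ZStar.Statements

/-!
# The centralizer of `(01)(23)` lies in `A9`

* `four_fixed`: a four group normalized by a fixed-point-free three-element acts trivially
* `NineModel.class_j`: conjugates of `(01)(34)` in the subgroup
* `NineModel.centralizer_jJ`: the centralizer lies in the subgroup
-/

set_option autoImplicit false

namespace Cfsg.Agent.AltNineThree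

open Cfsg Cfsg.Agent.ThreeCubedSymFour Equiv

/-- A four group normalized by an element of order three without fixed points acts trivially on an
abelian group of odd order. -/
theorem four_fixed {X : Type*} [Group X] [Finite X] {N : Subgroup X} (hN : N.Normal)
    (hodd : Odd (Nat.card N)) (hab : ∀ a ∈ N, ∀ b ∈ N, a * b = b * a) {t s x : X}
    (htt : t * t = 1) (hss : s * s = 1) (hts : t * s = s * t) (hx3 : x ^ 3 = 1)
    (hxt : x * t * x⁻¹ = s) (hxs : x * s * x⁻¹ = t * s) (hfix : ∀ n ∈ N, Commute n x → n = 1) :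
    ∀ n ∈ N, Commute n t := by
  set C : X → X →* X := fun g => (MulAut.conj g).toMonoidHom
  have hC : ∀ g, ∀ n ∈ N, C g n ∈ N := fun g n hn => hN.conj_mem n hn g
  have happ : ∀ g h n, C g (C h n) = C (g * h) n := fun g h n => by simp [C, mul_assoc]
  have hone : ∀ n, C 1 n = n := fun n => by simp [C]
  have hsq : ∀ n ∈ N, n * n = 1 → n = 1 := by
    intro n hn h
    obtain ⟨k, hk⟩ := hodd
    have e : n ^ Nat.card N = 1 := congrArg Subtype.val (pow_card_eq_one' (x := (⟨n, hn⟩ : N)))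
    rwa [hk, pow_add, pow_mul, pow_two, h, one_pow, one_mul, pow_one] at e
  have hcomm : ∀ {g n : X}, C g n = n → Commute n g := fun {g n} h => by
    have h' : g * n * g⁻¹ = n := h
    exact ((mul_inv_eq_iff_eq_mul.1 h') : g * n = n * g).symm
  have hx3' : x * x * x = 1 := by rw [← hx3, pow_succ, pow_two]
  -- the product over an orbit
  have horb : ∀ n ∈ N, n * C x n * C (x * x) n = 1 := by
    intro n hn
    refine hfix _ (N.mul_mem (N.mul_mem hn (hC _ _ hn)) (hC _ _ hn)) (hcomm ?_)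
    rw [map_mul, map_mul, happ, happ, ← mul_assoc, hx3', hone, hab _ (N.mul_mem (hC _ _ hn) (hC _ _ hn)) _ hn,
      mul_assoc]
  -- the action on the translates
  have e1 : t * x = x * (t * s) := by
    have h1 : x * (t * s) * x⁻¹ = t := by
      rw [show x * (t * s) * x⁻¹ = (x * t * x⁻¹) * (x * s * x⁻¹) by group, hxt, hxs, ← mul_assoc, ← hts,
        mul_assoc, hss, mul_one]
    calc t * x = x * (t * s) * x⁻¹ * x := by rw [h1]
      _ = _ := inv_mul_cancel_right _ _
  have e2 : t * (x * x) = x * x * s := by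
    rw [← mul_assoc, e1, mul_assoc x (t * s) x, mul_assoc x x s]
    refine congrArg (x * ·) ?_
    calc t * s * x = (x * s * x⁻¹) * x := by rw [hxs]
      _ = x * s := inv_mul_cancel_right _ _
  -- no element fixed by `t` and inverted by `s`
  have hA : ∀ n ∈ N, C t n = n → C s n = n⁻¹ → n = 1 := by
    intro n hn ht hs
    have h := horb n hn
    have h' := congrArg (C t) h
    rw [map_one, map_mul, map_mul, ht] at h'
    have a1 : C t (C x n) = (C x n)⁻¹ := by
      rw [happ, e1, ← happ, ← happ t, hs, map_inv, ht, map_inv]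
    have a2 : C t (C (x * x) n) = (C (x * x) n)⁻¹ := by
      rw [happ, e2, ← happ, hs, map_inv]
    rw [a1, a2] at h'
    refine hsq n hn ?_
    have p1 := hC x n hn
    have p2 := hC (x * x) n hn
    have e : n * (C x n * C (x * x) n) = 1 := by rw [← mul_assoc]; exact h
    have e' : n * (C x n * C (x * x) n)⁻¹ = 1 := by
      rw [mul_inv_rev, hab _ (N.inv_mem p2) _ (N.inv_mem p1), ← mul_assoc]; exact h'
    rw [mul_inv_eq_one] at e'
    rwa [← e'] at e
  -- fixed points of the three involutions agree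
  have hts' : ∀ n ∈ N, C t n = n → C s n = n := by
    intro n hn ht
    have h1 : C t (C s n) = C s n := by rw [happ, hts, ← happ, ht]
    have h2 : C s (C s n) = n := by rw [happ, hss, hone]
    have := hA (n * (C s n)⁻¹) (N.mul_mem hn (N.inv_mem (hC _ _ hn)))
      (by rw [map_mul, map_inv, ht, h1]) (by rw [map_mul, map_inv, h2, mul_inv_rev, inv_inv])
    rw [mul_inv_eq_one] at this
    exact this.symm
  have hxi : x * (x * x) = 1 := by rw [← mul_assoc, hx3']
  have hup : ∀ n ∈ N, ∀ g h : X, C g n = n → h = x * g * x⁻¹ → C h (C x n) = C x n := by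
    intro n hn g h hg e
    rw [happ, e, inv_mul_cancel_right, ← happ, hg]
  have hdown : ∀ n ∈ N, ∀ g h : X, C h n = n → h = x * g * x⁻¹ → C g (C (x * x) n) = C (x * x) n := by
    intro n hn g h hh e
    have : g * (x * x) = x * x * h := by
      rw [e, show x * x * (x * g * x⁻¹) = x * x * x * g * x⁻¹ by group, hx3', one_mul]
      exact congrArg (fun u => g * u) (eq_inv_of_mul_eq_one_left hx3')
    rw [happ, this, ← happ, hh]
  have hst : ∀ n ∈ N, C s n = n → C t n = n := by
    intro n hn hs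
    have h1 := hts' _ (hC (x * x) _ hn) (hdown n hn t s hs hxt.symm)
    have h2 := hup _ (hC (x * x) _ hn) s (t * s) h1 hxs.symm
    rw [happ x (x * x), hxi, hone] at h2
    calc C t n = C t (C s n) := by rw [hs]
      _ = n := by rw [happ]; exact h2
  intro n hn
  refine hcomm ?_
  suffices ∀ n ∈ N, C t n = n⁻¹ → n = 1 by
    have := this (n * (C t n)⁻¹) (N.mul_mem hn (N.inv_mem (hC _ _ hn)))
      (by rw [map_mul, map_inv, happ, htt, hone, mul_inv_rev, inv_inv])
    rw [mul_inv_eq_one] at this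
    exact this.symm
  intro n hn ht
  have key : ∀ n ∈ N, C t n = n⁻¹ → C s n = n → n = 1 := fun n hn ht hs =>
    hsq n hn (mul_eq_one_iff_eq_inv.2 (by rw [← ht, hst n hn hs]))
  have h2 : C s (C s n) = n := by rw [happ, hss, hone]
  have hns : n * C s n = 1 := by
    refine key _ (N.mul_mem hn (hC _ _ hn)) ?_ ?_
    · have : C t (C s n) = (C s n)⁻¹ := by rw [happ, hts, ← happ, ht, map_inv]
      rw [map_mul, ht, this, mul_inv_rev, hab _ (N.inv_mem (hC _ _ hn)) _ (N.inv_mem hn)]
    · rw [map_mul, h2, hab _ (hC _ _ hn) _ hn]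
  have hu : C (t * s) n = n := by
    rw [← happ, eq_inv_of_mul_eq_one_right hns, map_inv, ht, inv_inv]
  have h3 := hts' _ (hC x _ hn) (by
    refine hup n hn (t * s) t hu ?_
    rw [show x * (t * s) * x⁻¹ = (x * t * x⁻¹) * (x * s * x⁻¹) by group, hxt, hxs, ← mul_assoc, ← hts,
      mul_assoc, hss, mul_one])
  have h4 := hdown _ (hC x _ hn) t s h3 hxt.symm
  rw [happ (x * x) x, hx3', hone] at h4
  exact hsq n hn (mul_eq_one_iff_eq_inv.2 (h4.symm.trans ht))

set_option synthInstance.maxSize 4000 in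
theorem tail_facts :
    let t : Perm (Fin 5) := swap 0 1 * swap 2 3
    let s : Perm (Fin 5) := swap 0 2 * swap 1 3
    let x : Perm (Fin 5) := swap 1 2 * swap 2 3
    let r : Perm (Fin 5) := swap 2 3 * swap 3 4
    Perm.sign t = 1 ∧ Perm.sign s = 1 ∧ Perm.sign x = 1 ∧ Perm.sign r = 1 ∧
      t * t = 1 ∧ s * s = 1 ∧ t * s = s * t ∧ x ^ 3 = 1 ∧ x * t * x⁻¹ = s ∧ x * s * x⁻¹ = t * s ∧
      t ≠ 1 ∧ (t * (r * t * r⁻¹)) ^ 3 = 1 ∧ t * (r * t * r⁻¹) ≠ 1 := by
  decide +kernel

theorem tail_t : ∀ t : alternatingGroup (Fin 5), (t : Perm (Fin 5)) = swap 0 1 * swap 2 3 →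
    tailA t ≠ 1 ∧ tailA t ≠ jJ := by decide +kernel

theorem three_tail : ∀ p : Perm (Fin 5), Perm.sign p = 1 → p ^ 3 = 1 → p ≠ 1 →
    (splitHom (1, p)).cycleType = (toPerm aAx).cycleType := by
  decide +kernel

theorem aAx_flip : swap (6 : Fin 9) 7 * toPerm aAx = toPerm aAx * swap 6 7 ∧
    jInv * aAx ≠ aAx * jInv ∧ Perm.sign pJ = 1 ∧ Perm.sign pZ = 1 ∧
    (toPerm jInv).cycleType = pJ.cycleType ∧ (toPerm jInv).cycleType = pZ.cycleType := by
  decide +kernel

variable {G : Type*} [Group G] {φ : alternatingGroup (Fin 9) →* G}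

/-- A conjugate of `(01)(34)`. -/
def IsJ (φ : alternatingGroup (Fin 9) →* G) (g : G) : Prop := ∃ h, h * φ (toPermA jInv) * h⁻¹ = g

theorem IsJ.conj {g : G} (hg : IsJ φ g) (k : G) : IsJ φ (k * g * k⁻¹) := by
  obtain ⟨h, rfl⟩ := hg
  exact ⟨k * h, by group⟩

theorem isJ_of_conj {m σ : alternatingGroup (Fin 9)} (h : σ * toPermA jInv * σ⁻¹ = m) : IsJ φ (φ m) :=
  ⟨φ σ, by rw [← h, map_mul, map_mul, map_inv]⟩

theorem isJ_jJ : IsJ φ (φ jJ) ∧ IsJ φ (φ jZ) := by
  obtain ⟨-, -, hJ, hZ, cJ, cZ⟩ := aAx_flip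
  obtain ⟨σ, hσ⟩ := conj_alt hJ class_facts.2.2.1 cJ
  obtain ⟨τ, hτ⟩ := conj_alt hZ class_facts.2.2.1 cZ
  exact ⟨isJ_of_conj hσ, isJ_of_conj hτ⟩

/-- The centralizer of a four group as that of two generators. -/
theorem centralizer_four {A B : alternatingGroup (Fin 6)} {K : Subgroup (Perm (Fin 6))}
    (hK : ∀ k, k ∈ K ↔ k = 1 ∨ k = (A : Perm (Fin 6)) ∨ k = (B : Perm (Fin 6)) ∨
      k = (A : Perm (Fin 6)) * (B : Perm (Fin 6))) :
    Subgroup.centralizer (((K.subgroupOf (alternatingGroup (Fin 6))).map embA).map φ : Set G) =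
      Subgroup.centralizer ({φ (embA A), φ (embA B)} : Set G) := by
  refine le_antisymm (Subgroup.centralizer_le ?_) fun g hg => ?_
  · rintro _ (rfl | rfl)
    · exact ⟨_, ⟨A, (hK _).2 (Or.inr (Or.inl rfl)), rfl⟩, rfl⟩
    · exact ⟨_, ⟨B, (hK _).2 (Or.inr (Or.inr (Or.inl rfl))), rfl⟩, rfl⟩
  · have hA := Subgroup.mem_centralizer_iff.1 hg _ (Set.mem_insert _ _)
    have hB := Subgroup.mem_centralizer_iff.1 hg _ (Set.mem_insert_of_mem _ rfl)
    refine Subgroup.mem_centralizer_iff.2 ?_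
    rintro _ ⟨_, ⟨k, hk, rfl⟩, rfl⟩
    rcases (hK _).1 hk with h | h | h | h
    · rw [show k = 1 from Subtype.ext h, map_one, map_one, one_mul, mul_one]
    · rw [show k = A from Subtype.ext h]; exact hA
    · rw [show k = B from Subtype.ext h]; exact hB
    · rw [show k = A * B from Subtype.ext h, map_mul, map_mul, mul_assoc, hB, ← mul_assoc, hA, mul_assoc]

theorem card_centralizer_pair (g x y : G) :
    Nat.card (Subgroup.centralizer ({g * x * g⁻¹, g * y * g⁻¹} : Set G)) =
      Nat.card (Subgroup.centralizer ({x, y} : Set G)) := by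
  have h := card_centralizer_map (Subgroup.closure ({x, y} : Set G)) (MulAut.conj g)
  rw [Subgroup.centralizer_closure, MonoidHom.map_closure, Subgroup.centralizer_closure,
    Set.image_pair] at h
  exact h

section
variable (N : NineModel φ)
include N

theorem NineModel.card_pair_jJ : Nat.card (Subgroup.centralizer ({φ jJ, φ jZ} : Set G)) = 240 := by
  obtain ⟨-, -, -, -, -, -, -, -, -, eJ, eZ⟩ := special_facts
  rw [eJ, eZ, ← centralizer_four (K := kV) fun k => mem_kV]
  exact N.cardV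

theorem NineModel.card_pair_r {A B : alternatingGroup (Fin 6)} (hA : (A : Perm (Fin 6)) = rA)
    (hB : (B : Perm (Fin 6)) = rB) :
    Nat.card (Subgroup.centralizer ({φ (embA A), φ (embA B)} : Set G)) = 12 ∨
      Nat.card (Subgroup.centralizer ({φ (embA A), φ (embA B)} : Set G)) = 24 := by
  rw [← centralizer_four (K := kR) fun k => by rw [hA, hB]; exact mem_kR]
  exact N.cardR

variable [Finite G]

theorem NineModel.sep (g : G) : g * φ (toPermA iInv) * g⁻¹ ≠ φ (toPermA jInv) :=
  N.setting.not_conj_inv N.cb g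

/-- A conjugate of `(01)(34)` in the subgroup is conjugate there. -/
theorem NineModel.class_j {m : alternatingGroup (Fin 9)} (h : IsJ φ (φ m)) :
    ∃ σ : alternatingGroup (Fin 9), σ * toPermA jInv * σ⁻¹ = m := by
  obtain ⟨g, hg⟩ := h
  have hj : toPermA jInv * toPermA jInv = 1 := by rw [← map_mul, axes_facts.2.2.2.2.2.2.2.2.2.1, map_one]
  have h2 : m * m = 1 := N.inj (by
    rw [map_mul, map_one, ← hg,
      show g * φ (toPermA jInv) * g⁻¹ * (g * φ (toPermA jInv) * g⁻¹) =
        g * φ (toPermA jInv * toPermA jInv) * g⁻¹ by rw [map_mul]; group,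
      hj, map_one, mul_one, mul_inv_cancel])
  have h1 : m ≠ 1 := by
    rintro rfl
    rw [map_one, conj_eq_one_iff] at hg
    exact axes_facts.2.2.2.2.2.2.2.2.2.2 (N.setting.inj (hg.trans (map_one _).symm))
  refine (involution_cases m h2 h1).resolve_right ?_
  rintro ⟨σ, rfl⟩
  refine N.sep (g⁻¹ * φ σ) ?_
  calc g⁻¹ * φ σ * φ (toPermA iInv) * (g⁻¹ * φ σ)⁻¹
      = g⁻¹ * φ (σ * toPermA iInv * σ⁻¹) * g := by rw [map_mul, map_mul, map_inv]; group
    _ = _ := by rw [← hg]; group

/-- A three-cycle on `45678` has its centralizer in the subgroup. -/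
theorem NineModel.cent_tail {p : alternatingGroup (Fin 5)} (h3 : p ^ 3 = 1) (h1 : p ≠ 1) {g : G}
    (hg : Commute g (φ (tailA p))) : g ∈ φ.range := by
  obtain ⟨σ, hσ⟩ := conj_alt (p := ((tailA p : alternatingGroup (Fin 9)) : Perm (Fin 9)))
    (Perm.mem_alternatingGroup.1 (tailA p).2) aAx_flip.1
    (three_tail _ (Perm.mem_alternatingGroup.1 p.2) (congrArg Subtype.val h3)
      fun h => h1 (Subtype.ext h)).symm
  have e : φ (tailA p) = φ σ * φ (toPermA aAx) * (φ σ)⁻¹ := by
    rw [← map_inv, ← map_mul, ← map_mul, hσ]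
  have : (φ σ)⁻¹ * g * φ σ ∈ Subgroup.centralizer ({φ (toPermA aAx)} : Set G) := by
    refine Subgroup.mem_centralizer_singleton_iff.2 ?_
    calc (φ σ)⁻¹ * g * φ σ * φ (toPermA aAx) = (φ σ)⁻¹ * (g * φ (tailA p)) * φ σ := by rw [e]; group
      _ = (φ σ)⁻¹ * (φ (tailA p) * g) * φ σ := by rw [hg.eq]
      _ = _ := by rw [e]; group
  have := mul_mem (mul_mem (⟨σ, rfl⟩ : φ σ ∈ φ.range) (N.ca this)) (inv_mem (⟨σ, rfl⟩ : φ σ ∈ φ.range))
  simpa [mul_assoc] using this

/-- The centralizer of the four group on `0123`. -/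
theorem NineModel.centralizer_four_points {g : G} (h1 : Commute g (φ jJ)) (h2 : Commute g (φ jZ)) :
    ∃ m : alternatingGroup (Fin 9), φ m = g ∧ ∃ a : alternatingGroup (Fin 5), m * m = tailA (a * a) := by
  obtain ⟨eJ, eZ, hv⟩ := split_facts
  have hmem : ∀ v ∈ kFour, v * (swap 0 1 * swap 2 3) = swap 0 1 * swap 2 3 * v ∧
      v * (swap 0 2 * swap 1 3) = swap 0 2 * swap 1 3 * v ∧ v * v = 1 ∧ Perm.sign v = 1 := fun v h =>
    hv v (by rcases h with h | h | h | h <;> simp [h])
  set W := (kFour.prod (alternatingGroup (Fin 5))).map splitHom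
  have hWA : W ≤ alternatingGroup (Fin 9) := by
    rintro _ ⟨p, hp, rfl⟩
    refine Perm.mem_alternatingGroup.2 ?_
    rw [sign_splitHom, (hmem _ hp.1).2.2.2, Perm.mem_alternatingGroup.1 hp.2, mul_one]
  set T := (W.subgroupOf (alternatingGroup (Fin 9))).map φ
  have hT : T ≤ Subgroup.centralizer ({φ jJ, φ jZ} : Set G) := by
    rintro _ ⟨m, ⟨p, hp, e⟩, rfl⟩
    refine Subgroup.mem_centralizer_iff.2 ?_
    rintro _ (rfl | rfl) <;> rw [← map_mul, ← map_mul] <;> refine congrArg φ (Subtype.ext ?_)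
    · show pJ * _ = _ * pJ
      rw [← eJ, show (m : Perm (Fin 9)) = splitHom p from e.symm, ← map_mul, ← map_mul]
      exact congrArg splitHom (Prod.ext (hmem _ hp.1).1.symm (by simp))
    · show pZ * _ = _ * pZ
      rw [← eZ, show (m : Perm (Fin 9)) = splitHom p from e.symm, ← map_mul, ← map_mul]
      exact congrArg splitHom (Prod.ext (hmem _ hp.1).2.1.symm (by simp))
  have hTc : Nat.card T = 240 := by
    rw [Subgroup.card_map_of_injective N.inj, Cores.card_subgroupOf hWA,
      Subgroup.card_map_of_injective splitHom_injective,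
      Nat.card_congr (Subgroup.prodEquiv _ _).toEquiv, Nat.card_prod, card_kFour,
      nat_card_alternatingGroup]
    simp
    rfl
  have heq := Subgroup.eq_of_le_of_card_ge hT (by rw [hTc, N.card_pair_jJ])
  obtain ⟨m, ⟨p, hp, e⟩, rfl⟩ : g ∈ T := by
    rw [heq]
    refine Subgroup.mem_centralizer_iff.2 ?_
    rintro _ (rfl | rfl)
    exacts [h1.symm, h2.symm]
  refine ⟨m, rfl, ⟨p.2, hp.2⟩, Subtype.ext ?_⟩
  show (m : Perm (Fin 9)) * m = splitHom (1, p.2 * p.2)
  rw [show (m : Perm (Fin 9)) = splitHom p from e.symm, ← map_mul]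
  exact congrArg splitHom (Prod.ext (hmem _ hp.1).2.2.1 rfl)

end

universe u

/-- The centralizer of `(01)(23)`. -/
theorem NineModel.centralizer_jJ {G : Type u} [Group G] [Finite G] {φ : alternatingGroup (Fin 9) →* G}
    (N : NineModel φ) {g : G} (hg : Commute g (φ jJ)) : g ∈ φ.range := by
  obtain ⟨hJ2, hJ1, hZ2, hZ1, hZJ, hJZ, hWJ, hWZ, -⟩ := special_facts
  set J := φ jJ
  set Y := Subgroup.centralizer ({J} : Set G)
  have hYJ : ∀ y : Y, Commute (y : G) J := fun y => Subgroup.mem_centralizer_singleton_iff.1 y.2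
  let jy : Y := ⟨J, Subgroup.mem_centralizer_singleton_iff.2 rfl⟩
  have jy2 : jy * jy = 1 := Subtype.ext (by show J * J = 1; rw [← map_mul, hJ2, map_one])
  set Kj := Subgroup.zpowers jy
  haveI : Kj.Normal := ⟨fun k hk y => by
    obtain ⟨n, rfl⟩ := Subgroup.mem_zpowers_iff.1 hk
    have : Commute y jy := Subtype.ext (hYJ y)
    rw [(this.zpow_right n).eq, mul_inv_cancel_right]
    exact Subgroup.zpow_mem_zpowers jy n⟩
  set q := QuotientGroup.mk' Kj
  have hKj : ∀ y ∈ Kj, y = 1 ∨ y = jy := by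
    intro y hy
    obtain ⟨n, rfl⟩ := Subgroup.mem_zpowers_iff.1 hy
    obtain ⟨m, rfl | rfl⟩ := Int.even_or_odd' n
    · exact Or.inl (by rw [zpow_mul, zpow_two, jy2, one_zpow])
    · exact Or.inr (by rw [zpow_add_one, zpow_mul, zpow_two, jy2, one_zpow, one_mul])
  have hq : ∀ a b : Y, q a = q b → (b : G) = a ∨ (b : G) = (a : G) * J := by
    intro a b h
    rcases hKj _ ((QuotientGroup.eq).1 h) with e | e
    · exact Or.inl (by rw [inv_mul_eq_one.1 e])
    · refine Or.inr ?_
      have := congrArg (fun y : Y => ((a * y : Y) : G)) e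
      simpa using this
  have qjy : q jy = 1 := (QuotientGroup.eq_one_iff jy).2 (Subgroup.mem_zpowers _)
  let z : Y := ⟨φ jZ, Subgroup.mem_centralizer_singleton_iff.2 (by rw [← map_mul, ← map_mul, hJZ])⟩
  let w : G := φ jW
  -- the normalizer of the four group inside the centralizer
  have hin : ∀ h : G, Commute h J → (h * φ jZ * h⁻¹ = φ jZ ∨ h * φ jZ * h⁻¹ = φ jZ * J) → h ∈ φ.range := by
    intro h hh hc
    rcases hc with hc | hc
    · obtain ⟨m, hm, -⟩ := N.centralizer_four_points hh (mul_inv_eq_iff_eq_mul.1 hc)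
      exact ⟨m, hm⟩
    · have hw : w * φ jZ * w⁻¹ = φ jZ * J := by rw [← map_inv, ← map_mul, ← map_mul, hWZ, map_mul]
      have hwJ : Commute w J := by show _ = _; rw [← map_mul, ← map_mul, hWJ]
      have e : (w⁻¹ * h) * φ jZ * (w⁻¹ * h)⁻¹ = φ jZ := by
        calc _ = w⁻¹ * (h * φ jZ * h⁻¹) * w := by group
          _ = _ := by rw [hc, ← hw]; group
      obtain ⟨m, hm, -⟩ := N.centralizer_four_points (hwJ.inv_left.mul_left hh) (mul_inv_eq_iff_eq_mul.1 e)
      exact ⟨jW * m, by rw [map_mul, hm, mul_inv_cancel_left]⟩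
  have hMz : ∀ y : Y, (y : G) ∈ φ.range → Commute (q y) (q z) := by
    rintro y ⟨m, hm⟩
    have hmJ : m * jJ = jJ * m := N.inj (by rw [map_mul, map_mul, hm]; exact (hYJ y).eq)
    show _ = _
    refine mul_inv_eq_iff_eq_mul.1 ?_
    rw [← map_inv, ← map_mul, ← map_mul]
    rcases conj_jZ hmJ with h | h <;> have h' := congrArg φ h <;>
      simp only [map_mul, map_inv, hm] at h'
    · exact congrArg q (Subtype.ext (by simpa [z] using h'))
    · rw [show y * z * y⁻¹ = jy * z from Subtype.ext (by simpa [z, jy] using h'), map_mul, qjy, one_mul]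
  have hzM : ∀ y : Y, Commute (q y) (q z) → (y : G) ∈ φ.range := by
    intro y hy
    refine hin y (hYJ y) ?_
    rcases hq z (y * z * y⁻¹) (by rw [map_mul, map_mul, map_inv, hy.eq, mul_inv_cancel_right]) with h | h
    · exact Or.inl (by simpa [z] using h)
    · exact Or.inr (by simpa [z] using h)
  -- the image of `(02)(13)` is isolated
  have hiso : Cfsg.IsIsolatedInvolution (q z) := by
    refine ⟨orderOf_eq_prime ?_ ?_, ?_⟩
    · rw [pow_two, ← map_mul, show z * z = 1 from Subtype.ext (by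
        show φ jZ * φ jZ = 1; rw [← map_mul, hZ2, map_one]), map_one]
    · intro h
      rcases hq 1 z (by rw [map_one, h]) with e | e
      · exact hZ1 (N.inj (by rw [map_one]; exact e))
      · exact hZJ (N.inj (by simpa [z] using e))
    intro x hx
    obtain ⟨y, rfl⟩ := QuotientGroup.mk'_surjective Kj x
    set z' := y * z * y⁻¹
    have e' : q y * q z * (q y)⁻¹ = q z' := by simp [z']
    rw [e'] at hx ⊢
    obtain ⟨m, hm⟩ := hzM z' hx.symm
    have hz' : (z' : G) = (y : G) * φ jZ * (y : G)⁻¹ := rfl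
    have hJy : (y : G) * J * (y : G)⁻¹ = J := by rw [(hYJ y).eq, mul_inv_cancel_right]
    have hm1 : IsJ φ (φ m) := by rw [hm, hz']; exact isJ_jJ.2.conj _
    obtain ⟨σ, hσ⟩ := N.class_j hm1
    obtain ⟨a, b, c, d, hab, hcd, hac, hbc, hbd, hp⟩ := double_of_conj σ
    rw [hσ] at hp
    have hmJ : m * jJ = jJ * m := N.inj (by rw [map_mul, map_mul, hm]; exact (hYJ z').eq)
    obtain ⟨ρ, hρ⟩ := N.class_j (m := jJ * m) (by
      have e : φ (jJ * m) = (y : G) * (J * φ jZ) * (y : G)⁻¹ := by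
        rw [map_mul, hm, hz']
        calc J * ((y : G) * φ jZ * (y : G)⁻¹) = J * y * φ jZ * (y : G)⁻¹ := by group
          _ = (y : G) * J * φ jZ * (y : G)⁻¹ := by rw [(hYJ y).eq]
          _ = _ := by group
      rw [e]
      refine IsJ.conj ?_ _
      have : J * φ jZ = w * φ jZ * w⁻¹ := by
        rw [← map_inv, ← map_mul, ← map_mul, ← map_mul, hWZ, hJZ]
      rw [this]
      exact isJ_jJ.2.conj _)
    have hsupp := support_of_conj ρ
    rw [hρ] at hsupp
    rcases pair_four a b c d hab hcd hac hbc hbd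
        (by rw [← hp]; exact congrArg Subtype.val hmJ) (by rw [← hp]; exact hsupp) with h | h | ⟨τ, -, hτ, hA, hB⟩
    · rw [← hp] at h
      rw [show z' = z from Subtype.ext (by rw [← hm, show m = jZ from Subtype.ext h])]
    · rw [← hp] at h
      rw [show z' = jy * z from Subtype.ext (by
        rw [← hm, show m = jJ * jZ from Subtype.ext h, map_mul]; rfl), map_mul, qjy, one_mul]
    · exfalso
      rw [← hp] at hB
      obtain ⟨sA, sB, -⟩ := kR_facts
      let τ' : alternatingGroup (Fin 9) := ⟨τ, Perm.mem_alternatingGroup.2 hτ⟩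
      let A : alternatingGroup (Fin 6) := ⟨rA, Perm.mem_alternatingGroup.2 sA⟩
      let B : alternatingGroup (Fin 6) := ⟨rB, Perm.mem_alternatingGroup.2 sB⟩
      have eA : φ τ' * φ (embA A) * (φ τ')⁻¹ = J := by
        rw [← map_inv, ← map_mul, ← map_mul]
        exact congrArg φ (Subtype.ext (mul_inv_eq_iff_eq_mul.2 hA))
      have eB : φ τ' * φ (embA B) * (φ τ')⁻¹ = φ m := by
        rw [← map_inv, ← map_mul, ← map_mul]
        exact congrArg φ (Subtype.ext (mul_inv_eq_iff_eq_mul.2 hB))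
      have h1 := card_centralizer_pair (y : G) J (φ jZ)
      rw [hJy, ← hz', ← hm, N.card_pair_jJ, ← eA, ← eB, card_centralizer_pair] at h1
      rcases N.card_pair_r (A := A) (B := B) rfl rfl with h | h <;> omega
  -- the odd core is trivial
  have hz := ZStar.zStar_of_brauerSuzuki.{u} ZStar.uniqueInvolution hiso
  set O := Cfsg.pPrimeCore 2 (Y ⧸ Kj)
  haveI hOn : O.Normal := Cores.pPrimeCore_normal 2 _
  have hOodd : Odd (Nat.card O) :=
    Nat.coprime_two_right.1 (Cores.coprime_card_pPrimeCore 2)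
  have hO2 : ∀ n ∈ O, n * n = 1 → n = 1 := by
    intro n hn h
    obtain ⟨k, hk⟩ := hOodd
    have e : n ^ Nat.card O = 1 := congrArg Subtype.val (pow_card_eq_one' (x := (⟨n, hn⟩ : O)))
    rwa [hk, pow_add, pow_mul, pow_two, h, one_pow, one_mul, pow_one] at e
  let ψ : alternatingGroup (Fin 5) →* Y ⧸ Kj := q.comp ((φ.comp tailA).codRestrict Y fun a => by
    refine Subgroup.mem_centralizer_singleton_iff.2 ?_
    show φ (tailA a) * J = J * φ (tailA a)
    rw [← map_mul, ← map_mul]
    refine congrArg φ (Subtype.ext ?_)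
    show splitHom (1, (a : Perm (Fin 5))) * pJ = pJ * splitHom (1, (a : Perm (Fin 5)))
    rw [← split_facts.1, ← map_mul, ← map_mul]
    simp)
  obtain ⟨st, ss, sx, sr, htt, hss, hts, hx3, hxt, hxs, ht1, hy3, hy1⟩ := tail_facts
  let t : alternatingGroup (Fin 5) := ⟨_, Perm.mem_alternatingGroup.2 st⟩
  let s : alternatingGroup (Fin 5) := ⟨_, Perm.mem_alternatingGroup.2 ss⟩
  let x : alternatingGroup (Fin 5) := ⟨_, Perm.mem_alternatingGroup.2 sx⟩
  let r : alternatingGroup (Fin 5) := ⟨_, Perm.mem_alternatingGroup.2 sr⟩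
  have hψt : ψ t ≠ 1 := by
    intro h
    have key := tail_t t rfl
    rcases hKj _ ((QuotientGroup.eq_one_iff _).1 h) with e | e
    · exact key.1 (N.inj (by rw [map_one]; exact congrArg Subtype.val e))
    · exact key.2 (N.inj (congrArg Subtype.val e))
  have hψO : O.comap ψ = ⊥ := by
    have : IsSimpleGroup (alternatingGroup (Fin 5)) := alternatingGroup.isSimpleGroup (by simp)
    refine (IsSimpleGroup.eq_bot_or_eq_top_of_normal _ (hOn.comap ψ)).resolve_right fun h => hψt ?_
    refine hO2 _ (show t ∈ O.comap ψ from h ▸ Subgroup.mem_top _) ?_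
    rw [← map_mul, show t * t = 1 from Subtype.ext htt, map_one]
  -- fixed points of `(02)(13)` in the core
  have hzO : ∀ n ∈ O, Commute n (q z) → n = 1 := by
    intro n hn hc
    obtain ⟨y, rfl⟩ := QuotientGroup.mk'_surjective Kj n
    have hy2 : Commute ((y : G) * y) (φ jZ) := by
      have hJy : (y : G) * J * (y : G)⁻¹ = J := by rw [(hYJ y).eq, mul_inv_cancel_right]
      rcases hq z (y * z * y⁻¹) (by rw [map_mul, map_mul, map_inv, hc.eq, mul_inv_cancel_right]) with h | h
      all_goals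
        have h' : (y : G) * φ jZ * (y : G)⁻¹ = _ := h
        refine mul_inv_eq_iff_eq_mul.1 ?_
      · calc (y : G) * y * φ jZ * ((y : G) * y)⁻¹
            = (y : G) * ((y : G) * φ jZ * (y : G)⁻¹) * (y : G)⁻¹ := by group
          _ = _ := by rw [h']; exact h'
      · calc (y : G) * y * φ jZ * ((y : G) * y)⁻¹
            = (y : G) * ((y : G) * φ jZ * (y : G)⁻¹) * (y : G)⁻¹ := by group
          _ = (y : G) * (φ jZ * J) * (y : G)⁻¹ := congrArg (fun u => (y : G) * u * (y : G)⁻¹) h'
          _ = (y : G) * φ jZ * (y : G)⁻¹ * ((y : G) * J * (y : G)⁻¹) := by group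
          _ = φ jZ * J * J := by rw [hJy, h']
          _ = _ := by rw [mul_assoc, ← map_mul, hJ2, map_one, mul_one]
    obtain ⟨m, hm, a, ha⟩ := N.centralizer_four_points ((hYJ y).mul_left (hYJ y)) hy2
    have e : q (y * y) * q (y * y) = ψ (a * a) := by
      rw [← map_mul]
      refine congrArg q (Subtype.ext ?_)
      show (y : G) * y * (y * y) = φ (tailA (a * a))
      rw [← ha, map_mul, hm]
    have hn2 : q (y * y) ∈ O := by rw [map_mul]; exact mul_mem hn hn
    have : a * a ∈ O.comap ψ := by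
      show ψ (a * a) ∈ O
      rw [← e]; exact mul_mem hn2 hn2
    rw [hψO, Subgroup.mem_bot] at this
    rw [this, map_one] at e
    have := hO2 _ hn2 e
    rw [map_mul] at this
    exact hO2 _ hn this
  haveI : Finite (Y ⧸ Kj) := inferInstance
  let θ : O →* O := (MulAut.conjNormal (q z) : MulAut O).toMonoidHom
  have hθ : MonoidHom.FixedPointFree θ := fun n hn => Subtype.ext (hzO n n.2 (by
    have h : q z * (n : Y ⧸ Kj) * (q z)⁻¹ = n := congrArg Subtype.val hn
    exact (mul_inv_eq_iff_eq_mul.1 h).symm))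
  have hθ2 : Function.Involutive θ := fun n => Subtype.ext (by
    have h2 : q z * q z = 1 := by rw [← pow_two, ← hiso.1, pow_orderOf_eq_one]
    show q z * (q z * (n : Y ⧸ Kj) * (q z)⁻¹) * (q z)⁻¹ = n
    calc _ = q z * q z * (n : Y ⧸ Kj) * (q z * q z)⁻¹ := by group
      _ = _ := by rw [h2, inv_one, one_mul, mul_one])
  have hab : ∀ a ∈ O, ∀ b ∈ O, a * b = b * a := fun a ha b hb =>
    congrArg Subtype.val (hθ.commute_all_of_involutive hθ2 ⟨a, ha⟩ ⟨b, hb⟩).eq
  have hfpf : ∀ p : alternatingGroup (Fin 5), p ^ 3 = 1 → p ≠ 1 → ∀ n ∈ O, Commute n (ψ p) → n = 1 := by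
    intro p h3 h1 n hn hc
    obtain ⟨y, rfl⟩ := QuotientGroup.mk'_surjective Kj n
    let P : Y := ((φ.comp tailA).codRestrict Y fun a => by
      refine Subgroup.mem_centralizer_singleton_iff.2 ?_
      show φ (tailA a) * J = J * φ (tailA a)
      rw [← map_mul, ← map_mul]
      refine congrArg φ (Subtype.ext ?_)
      show splitHom (1, (a : Perm (Fin 5))) * pJ = pJ * splitHom (1, (a : Perm (Fin 5)))
      rw [← split_facts.1, ← map_mul, ← map_mul]
      simp) p
    have hP : (P : G) = φ (tailA p) := rfl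
    have hP3 : (P : G) ^ 3 = 1 := by rw [hP, ← map_pow, ← map_pow, h3, map_one, map_one]
    refine hzO _ hn (hMz y (N.cent_tail h3 h1 ?_))
    rcases hq P (y * P * y⁻¹) (by
      rw [map_mul, map_mul, map_inv, show q P = ψ p from rfl, hc.eq, mul_inv_cancel_right]) with h | h
    · rw [← hP]
      exact mul_inv_eq_iff_eq_mul.1 h
    · exfalso
      have h' : (y : G) * P * (y : G)⁻¹ = (P : G) * J := h
      have h6 : ((y : G) * P * (y : G)⁻¹) ^ 3 = ((P : G) * J) ^ 3 := by rw [h']
      rw [conj_pow, hP3, mul_one, mul_inv_cancel, ((hYJ P)).mul_pow, hP3, one_mul, pow_succ, pow_two] at h6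
      rw [← map_mul, hJ2, map_one, one_mul] at h6
      exact hJ1 (N.inj (by rw [map_one]; exact h6.symm))
  have hObot : ∀ n ∈ O, n = 1 := by
    have hψ : ∀ {a b : alternatingGroup (Fin 5)}, (a : Perm (Fin 5)) = b → ψ a = ψ b := fun h =>
      congrArg ψ (Subtype.ext h)
    have hfix := four_fixed hOn hOodd hab (t := ψ t) (s := ψ s) (x := ψ x)
      (by rw [← map_mul, ← map_one ψ]; exact hψ htt) (by rw [← map_mul, ← map_one ψ]; exact hψ hss)
      (by rw [← map_mul, ← map_mul]; exact hψ hts) (by rw [← map_pow, ← map_one ψ]; exact hψ hx3)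
      (by rw [← map_inv, ← map_mul, ← map_mul]; exact hψ hxt)
      (by rw [← map_inv, ← map_mul, ← map_mul, ← map_mul]; exact hψ hxs)
      (hfpf x (Subtype.ext hx3) fun h =>
        (show (swap 1 2 * swap 2 3 : Perm (Fin 5)) ≠ 1 by decide +kernel) (congrArg Subtype.val h))
    intro n hn
    refine hfpf (t * (r * t * r⁻¹)) (Subtype.ext hy3) (fun h => hy1 (congrArg Subtype.val h)) n hn ?_
    rw [map_mul, map_mul, map_mul, map_inv]
    refine (hfix n hn).mul_right ?_
    have h := (hfix _ (hOn.conj_mem n hn (ψ r)⁻¹)).map (MulAut.conj (ψ r)).toMonoidHom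
    simpa [mul_assoc] using h
  obtain ⟨y, rfl⟩ : ∃ y : Y, (y : G) = g := ⟨⟨g, Subgroup.mem_centralizer_singleton_iff.2 hg.eq⟩, rfl⟩
  refine hzM y ?_
  have := hObot _ (hz (q y))
  rw [mul_inv_eq_one, mul_inv_eq_iff_eq_mul] at this
  exact this.symm

end Cfsg.Agent.AltNineThree
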