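import Cfsg.Agent.Lib.Cores.Basic
import Cfsg.Agent.Lib.Coprime.Generation
import Cfsg.Agent.Lib.GLOrder.Basic
import Cfsg.Agent.S3331

/-!
# A four group with a self-centralizing element of order three above it

* `core_le`: the three-prime core is controlled by a noncyclic group of order nine
* `card_cases`: the order is 12, 24, 240 or 672
* `card_small`: 240 and 672 need an element of order five or seven centralized by a three-element
-/

set_option autoImplicit false

namespace Cfsg.Agent.AltNineThree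

open Cfsg

variable {G : Type*} [Group G] [Finite G]

/-- An acting group of order nine. -/
structure Nine (A : Subgroup G) : Prop where
  comm : IsMulCommutative A
  exp : ∀ y ∈ A, y ^ 3 = 1
  card : Nat.card A = 9

theorem Nine.not_cyclic {A : Subgroup G} (h : Nine A) : ¬ IsCyclic A := by
  intro hc
  obtain ⟨g, hg⟩ := IsCyclic.exists_generator (α := A)
  have e : Nat.card A = orderOf g := (orderOf_eq_card_of_forall_mem_zpowers hg).symm
  have h3 : orderOf g ∣ 3 := orderOf_dvd_of_pow_eq_one (Subtype.ext (by simpa using h.exp g g.2))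
  rw [← e, h.card] at h3
  exact absurd (Nat.le_of_dvd (by norm_num) h3) (by norm_num)

theorem core_le {X U A : Subgroup G} (hA : Nine A) (hAX : A ≤ Subgroup.normalizer (X : Set G))
    (hfix : ∀ K : Subgroup G, K ≤ X → (∀ c ∈ X, ∀ k ∈ K, c * k * c⁻¹ ∈ K) → (Nat.card K).Coprime 3 →
      ∀ y ∈ A, y ≠ 1 → ∀ k ∈ K, Commute k y → k ∈ U) :
    (Cfsg.pPrimeCore 3 X).map X.subtype ≤ U := by
  haveI := hA.comm
  set K := (Cfsg.pPrimeCore 3 X).map X.subtype
  have hKX : K ≤ X := Subgroup.map_subtype_le _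
  have hAK : A ≤ Subgroup.normalizer (K : Set G) :=
    hAX.trans (Cores.normalizer_le_normalizer_map _)
  have hK3 : (Nat.card K).Coprime 3 := by
    rw [Cores.card_map_subtype]; exact Cores.coprime_card_pPrimeCore 3
  have hKn : ∀ c ∈ X, ∀ k ∈ K, c * k * c⁻¹ ∈ K := by
    rintro c hc _ ⟨k, hk, rfl⟩
    exact ⟨⟨c, hc⟩ * k * ⟨c, hc⟩⁻¹, (Cores.pPrimeCore_normal 3 X).conj_mem _ hk _, rfl⟩
  refine Coprime.le_of_noncyclic hA.not_cyclic hAK ?_ fun y hy hy1 k hk => ?_
  · rw [hA.card, show (9 : ℕ) = 3 ^ 2 by norm_num]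
    exact Nat.Coprime.pow_left 2 hK3.symm
  · exact hfix K hKX hKn hK3 y hy hy1 k hk.1 (Subgroup.mem_centralizer_singleton_iff.1 hk.2)

theorem card_cases {U X : Subgroup G} {a : G} (hUX : U ≤ X) (hX : X ≤ Subgroup.centralizer (U : Set G))
    (hU : Nat.card U = 4) (ha : a ∈ X) (ha3 : a ^ 3 = 1) (haU : a ∉ U)
    (hself : ∀ g ∈ X, Commute g a → ∃ k : ℕ, a ^ k * g ∈ U)
    (hcore : (Cfsg.pPrimeCore 3 X).map X.subtype ≤ U) :
    Nat.card X = 12 ∨ Nat.card X = 24 ∨ Nat.card X = 240 ∨ Nat.card X = 672 := by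
  have : Fact (Nat.Prime 3) := ⟨Nat.prime_three⟩
  set U' := U.subgroupOf X
  haveI : U'.Normal := ⟨fun u hu c => by
    have e : c * u * c⁻¹ = u := Subtype.ext (by
      show (c : G) * u * (c : G)⁻¹ = u
      rw [← Subgroup.mem_centralizer_iff.1 (hX c.2) u hu, mul_inv_cancel_right])
    rwa [e]⟩
  have hU' : Nat.card U' = 4 := (Cores.card_subgroupOf hUX).trans hU
  set f := QuotientGroup.mk' U'
  have hXcard : Nat.card X = Nat.card (X ⧸ U') * 4 := by
    rw [Subgroup.card_eq_card_quotient_mul_card_subgroup U', hU']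
  have hf : ∀ c : X, f c = 1 ↔ (c : G) ∈ U := fun c => QuotientGroup.eq_one_iff c
  have hord : orderOf (f ⟨a, ha⟩) = 3 := by
    refine orderOf_eq_prime ?_ fun h => haU ((hf _).1 h)
    rw [← map_pow, show (⟨a, ha⟩ : X) ^ 3 = 1 from Subtype.ext (by simpa using ha3), map_one]
  have hcent : Subgroup.centralizer ((Subgroup.zpowers (f ⟨a, ha⟩) : Subgroup _) : Set (X ⧸ U')) =
      Subgroup.zpowers (f ⟨a, ha⟩) := by
    refine le_antisymm (fun q hq => ?_) ?_
    · obtain ⟨c, rfl⟩ := QuotientGroup.mk'_surjective U' q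
      have h := Subgroup.mem_centralizer_iff.1 hq _ (Subgroup.mem_zpowers _)
      set u : G := (c : G) * a * (c : G)⁻¹ * a⁻¹
      have hu : u ∈ U := by
        refine (hf (c * ⟨a, ha⟩ * c⁻¹ * ⟨a, ha⟩⁻¹)).1 ?_
        rw [map_mul, map_mul, map_mul, map_inv, map_inv, ← h, mul_inv_cancel_right, mul_inv_cancel]
      have hua : Commute u a := Subgroup.mem_centralizer_iff.1 (hX ha) u hu
      have h3 : u ^ 3 = 1 := by
        have e : (u * a) ^ 3 = 1 := by
          rw [show u * a = (c : G) * a * (c : G)⁻¹ by simp [u], conj_pow, ha3]; group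
        rwa [hua.mul_pow, ha3, mul_one] at e
      have hu1 : u = 1 := by
        have h4 : u ^ 4 = 1 := by
          have e := pow_card_eq_one' (x := (⟨u, hu⟩ : U))
          rw [hU] at e
          exact congrArg Subtype.val e
        rwa [pow_succ, h3, one_mul] at h4
      have hca : Commute (c : G) a := by
        show _ = _
        exact mul_inv_eq_iff_eq_mul.1 (mul_inv_eq_one.1 hu1)
      obtain ⟨k, hk⟩ := hself c c.2 hca
      have e1 : f (⟨a, ha⟩ ^ k * c) = 1 := (hf _).2 (by simpa using hk)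
      rw [map_mul, map_pow] at e1
      rw [eq_inv_of_mul_eq_one_right e1]
      exact inv_mem (pow_mem (Subgroup.mem_zpowers _) k)
    · intro q hq
      refine Subgroup.mem_centralizer_iff.2 fun r hr => ?_
      obtain ⟨i, rfl⟩ := Subgroup.mem_zpowers_iff.1 hq
      obtain ⟨j, rfl⟩ := Subgroup.mem_zpowers_iff.1 hr
      exact ((Commute.refl _).zpow_zpow j i).eq
  have hbot : ∀ N : Subgroup (X ⧸ U'), N.Normal → (Nat.card N).Coprime 3 → N = ⊥ := by
    intro N hN hN3
    have hker : f.ker = U' := QuotientGroup.ker_mk' U'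
    have hc : Nat.card N * 4 = Nat.card (N.comap f) := by
      have := Cores.card_map_mul_ker f (N.comap f) (Subgroup.comap_mono bot_le)
      rwa [Subgroup.map_comap_eq_self_of_surjective (QuotientGroup.mk'_surjective U'), hker, hU'] at this
    have hle : N.comap f ≤ Cfsg.pPrimeCore 3 X :=
      le_sSup ⟨hN.comap f, hc ▸ Nat.Coprime.mul_left hN3 (by norm_num)⟩
    refine (Subgroup.eq_bot_iff_forall _).2 fun q hq => ?_
    obtain ⟨c, rfl⟩ := QuotientGroup.mk'_surjective U' q
    exact (hf c).2 (hcore ⟨c, hle hq, rfl⟩)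
  rcases S3331.result (Subgroup.zpowers (f ⟨a, ha⟩)) (by rw [Nat.card_zpowers, hord]) hcent with
    ⟨N, hN, -, hN3, h⟩ | ⟨N, hN, -, hN2, ⟨e⟩⟩ | ⟨⟨e⟩⟩
  · obtain rfl := hbot N hN hN3
    have e0 : Nat.card ((X ⧸ U') ⧸ (⊥ : Subgroup (X ⧸ U'))) = Nat.card (X ⧸ U') :=
      Nat.card_congr QuotientGroup.quotientBot.toEquiv
    rcases h with h | ⟨⟨e⟩⟩
    · rw [e0] at h; omega
    · have := e0.symm.trans (Nat.card_congr e.toEquiv)
      rw [Nat.card_perm, Nat.card_fin, show Nat.factorial 3 = 6 from rfl] at this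
      omega
  · have hp : IsPGroup 2 N := fun n => ⟨1, Subtype.ext (by simpa using hN2 n n.2)⟩
    obtain ⟨k, hk⟩ := (IsPGroup.iff_card (p := 2)).1 hp
    obtain rfl := hbot N hN (hk ▸ Nat.Coprime.pow_left k (by norm_num))
    have e0 : Nat.card ((X ⧸ U') ⧸ (⊥ : Subgroup (X ⧸ U'))) = Nat.card (X ⧸ U') :=
      Nat.card_congr QuotientGroup.quotientBot.toEquiv
    have := e0.symm.trans (Nat.card_congr e.toEquiv)
    rw [nat_card_alternatingGroup, Nat.card_fin, show Nat.factorial 5 = 120 from rfl] at this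
    omega
  · have : Fact (Nat.Prime 7) := ⟨by norm_num⟩
    have h := Nat.card_congr e.toEquiv
    rw [GLOrder.card_PSL_two, Nat.card_zmod] at h
    norm_num at h
    omega

theorem card_small {X A : Subgroup G} (hA : Nine A) (hAX : A ≤ Subgroup.normalizer (X : Set G))
    (hno : ∀ y ∈ A, y ≠ 1 → ∀ g ∈ X, Commute g y → g ^ 5 = 1 ∨ g ^ 7 = 1 → g = 1) :
    Nat.card X ≠ 240 ∧ Nat.card X ≠ 672 := by
  have : Fact (Nat.Prime 3) := ⟨Nat.prime_three⟩
  let ρ : A →* MulAut X := (X.normalizerMonoidHom).comp (Subgroup.inclusion hAX)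
  have hρ : ∀ (y : A) (x : X), (ρ y x : G) = y * x * (y : G)⁻¹ := fun y x => rfl
  have hAp : IsPGroup 3 A := IsPGroup.of_card (n := 2) (hA.card.trans (by norm_num))
  have key : ∀ (q : ℕ), q.Prime → (q = 5 ∨ q = 7) → ∀ P : Sylow q X, Nat.card (P : Subgroup X) = q →
      ∀ B : Subgroup A, ¬ Nat.card B ∣ q - 1 →
      (∀ y ∈ B, (P : Subgroup X).map (ρ y).toMonoidHom = P) → False := by
    intro q hq hq57 P hP B hB hfix
    haveI : Fact q.Prime := ⟨hq⟩
    haveI : IsCyclic (P : Subgroup X) := isCyclic_of_prime_card hP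
    let ψ : B →* MulAut (P : Subgroup X) :=
      { toFun := fun y => ((ρ y).subgroupMap (P : Subgroup X)).trans
          (MulEquiv.subgroupCongr (hfix y y.2))
        map_one' := MulEquiv.ext fun z => Subtype.ext (show ρ (1 : A) (z : X) = z by rw [map_one]; rfl)
        map_mul' := fun a b => MulEquiv.ext fun z => Subtype.ext
          (show ρ ((a : A) * (b : A)) (z : X) = ρ (a : A) (ρ (b : A) (z : X)) by rw [map_mul]; rfl) }
    have hψ : ¬ Function.Injective ψ := fun hi => hB (by
      have := Subgroup.card_dvd_of_injective ψ hi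
      rwa [IsCyclic.card_mulAut, hP, Nat.totient_prime hq] at this)
    rw [injective_iff_map_eq_one] at hψ
    push Not at hψ
    obtain ⟨y, hy, hy1⟩ := hψ
    obtain ⟨g, hg⟩ := exists_prime_orderOf_dvd_card' (G := (P : Subgroup X)) q (by rw [hP])
    have hfixg : ρ y (g : X) = g := congrArg Subtype.val (DFunLike.congr_fun hy g)
    have h1 := congrArg Subtype.val hfixg
    rw [hρ] at h1
    have hg1 := hno ((y : A) : G) (y : A).2
      (fun h => hy1 (Subtype.ext (Subtype.ext h))) _ (g : X).2 (mul_inv_eq_iff_eq_mul.1 h1).symm (by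
        have e : ((g : X) : G) ^ q = 1 := by
          rw [← Subgroup.coe_pow, ← Subgroup.coe_pow, orderOf_dvd_iff_pow_eq_one.1 (dvd_of_eq hg)]; rfl
        rcases hq57 with rfl | rfl
        exacts [Or.inl e, Or.inr e])
    rw [show g = 1 from Subtype.ext (Subtype.ext hg1), orderOf_one] at hg
    exact hq.one_lt.ne' hg.symm
  letI : MulAction A (Subgroup X) :=
    { smul := fun y P => P.map (ρ y).toMonoidHom
      one_smul := fun P => by
        show P.map (ρ 1).toMonoidHom = P
        rw [map_one]; exact P.map_id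
      mul_smul := fun y z P => by
        show P.map (ρ (y * z)).toMonoidHom = (P.map (ρ z).toMonoidHom).map (ρ y).toMonoidHom
        rw [map_mul, Subgroup.map_map]; rfl }
  have hsyl : ∀ q : ℕ, q.Prime → ∀ (y : A) (P : Sylow q X),
      ∃ P' : Sylow q X, (P' : Subgroup X) = (P : Subgroup X).map (ρ y).toMonoidHom := by
    intro q hq y P
    haveI : Fact q.Prime := ⟨hq⟩
    refine ⟨Sylow.ofCard _ ?_, rfl⟩
    exact (Subgroup.card_map_of_injective (f := (ρ y).toMonoidHom) (ρ y).injective).trans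
      P.card_eq_multiplicity
  have count : ∀ q : ℕ, q.Prime → (q = 5 ∨ q = 7) → ∀ m : ℕ, Nat.card X = q * m → ¬ q ∣ m →
      (∀ n, n ∣ m → n % q = 1 → ¬ 9 ∣ n ∧ (q = 7 → ¬ 3 ∣ n)) → False := by
    intro q hq hq57 m hm hqm hn
    haveI : Fact q.Prime := ⟨hq⟩
    have hP : ∀ P : Sylow q X, Nat.card (P : Subgroup X) = q := by
      intro P
      rw [P.card_eq_multiplicity, hm, Nat.factorization_mul hq.ne_zero (fun h => hqm (by rw [h]; exact dvd_zero q)),
        Finsupp.add_apply, hq.factorization_self, Nat.factorization_eq_zero_of_not_dvd hqm, add_zero, pow_one]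
    obtain ⟨h9, h3⟩ := hn (Nat.card (Sylow q X)) (by
      obtain ⟨P⟩ := (inferInstance : Nonempty (Sylow q X))
      have hd := P.card_dvd_index
      have hi := (P : Subgroup X).card_mul_index
      rw [hP P, hm] at hi
      rwa [Nat.eq_of_mul_eq_mul_left hq.pos hi] at hd) (by
      have := card_sylow_modEq_one q X
      rw [Nat.ModEq, Nat.one_mod_eq_one.2 hq.one_lt.ne'] at this
      exact this)
    let Syl : SubMulAction A (Subgroup X) :=
      { carrier := Set.range fun P : Sylow q X => (P : Subgroup X)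
        smul_mem' := by
          rintro y _ ⟨P, rfl⟩
          obtain ⟨P', hP'⟩ := hsyl q hq y P
          exact ⟨P', hP'⟩ }
    have hc : Nat.card Syl = Nat.card (Sylow q X) :=
      Nat.card_range_of_injective fun P P' h => Sylow.ext h
    by_cases h7 : q = 7
    · obtain ⟨⟨_, P, rfl⟩, hfix⟩ := hAp.nonempty_fixed_point_of_prime_not_dvd_card (α := Syl)
        (by rw [hc]; exact h3 h7)
      refine key q hq hq57 P (hP P) ⊤ ?_ fun y _ => congrArg Subtype.val (hfix y)
      rw [Subgroup.card_top, hA.card, h7]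
      norm_num
    · obtain ⟨⟨_, P, rfl⟩, hs⟩ : ∃ s : Syl, MulAction.stabilizer A s ≠ ⊥ := by
        by_contra hall
        push Not at hall
        apply h9
        haveI : Fintype (MulAction.orbitRel.Quotient A Syl) := Fintype.ofFinite _
        rw [← hc, Nat.card_congr (MulAction.selfEquivSigmaOrbits A Syl), Nat.card_sigma]
        refine Finset.dvd_sum fun ω _ => ?_
        rw [Nat.card_congr (MulAction.orbitEquivQuotientStabilizer A _)]
        refine dvd_of_eq ?_
        show 9 = (MulAction.stabilizer A _).index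
        rw [hall _, Subgroup.index_bot, hA.card]
      refine key q hq hq57 P (hP P) (MulAction.stabilizer A (⟨_, P, rfl⟩ : Syl)) ?_ fun y hy => by
        have e := MulAction.mem_stabilizer_iff.1 hy
        exact congrArg Subtype.val e
      intro hd
      obtain ⟨k, hk⟩ := (IsPGroup.iff_card (p := 3)).1 (hAp.to_subgroup
        (MulAction.stabilizer A (⟨_, P, rfl⟩ : Syl)))
      rw [hk, hq57.resolve_right h7] at hd
      rcases k with - | k
      · exact hs (Subgroup.eq_bot_of_card_eq _ (hk.trans (pow_zero 3)))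
      · exact absurd ((dvd_pow_self 3 (Nat.succ_ne_zero k)).trans hd) (by norm_num)
  refine ⟨fun h => count 5 (by norm_num) (Or.inl rfl) 48 (h.trans (by norm_num)) (by norm_num) ?_,
    fun h => count 7 (by norm_num) (Or.inr rfl) 96 (h.trans (by norm_num)) (by norm_num) ?_⟩
  · intro n hn hn1
    have : n ≤ 48 := Nat.le_of_dvd (by norm_num) hn
    interval_cases n <;> first | omega | (exfalso; revert hn; norm_num)
  · intro n hn hn1
    have : n ≤ 96 := Nat.le_of_dvd (by norm_num) hn
    interval_cases n <;> first | omega | (exfalso; revert hn; norm_num)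

end Cfsg.Agent.AltNineThree
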