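import Cfsg.Agent.Lib.AltNineThree.Frame
import Cfsg.Agent.Lib.AltNineThree.Quad

/-!
# The four group of three disjoint transpositions

* `fourGroup`, `kR`: four groups in `S6`
* `mem_normalizer_centralizer`, `mem_of_axis`: tools for the four group lemmas
* `Frame.card_centralizer_R`: the centralizer has order 12 or 24
-/

set_option autoImplicit false

namespace Cfsg.Agent.AltNineThree

open Cfsg Cfsg.Agent.ThreeCubedSymFour Equiv

/-- The group `{1, r, s, rs}`. -/
def fourGroup {M : Type*} [Group M] (r s : M) (hr : r * r = 1) (hs : s * s = 1) (hc : r * s = s * r) :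
    Subgroup M where
  carrier := {x | x = 1 ∨ x = r ∨ x = s ∨ x = r * s}
  one_mem' := Or.inl rfl
  mul_mem' := by
    intro a b ha hb
    have h1 : s * (r * s) = r := by rw [hc, ← mul_assoc, hs, one_mul]
    have h2 : r * (r * s) = s := by rw [← mul_assoc, hr, one_mul]
    have h3 : r * s * r = s := by rw [hc, mul_assoc, hr, mul_one]
    have h4 : r * s * s = r := by rw [mul_assoc, hs, mul_one]
    have h5 : r * s * (r * s) = 1 := by rw [← mul_assoc, h3, hs]
    simp only [Set.mem_ofPred_eq] at *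
    rcases ha with rfl | rfl | rfl | rfl <;> rcases hb with rfl | rfl | rfl | rfl <;>
      simp [hr, hs, h1, h2, h3, h4, h5, ← hc]
  inv_mem' := by
    intro a ha
    have hi : ∀ x : M, x * x = 1 → x⁻¹ = x := fun x h => inv_eq_of_mul_eq_one_left h
    have h5 : r * s * (r * s) = 1 := by
      rw [mul_assoc, ← mul_assoc s, ← hc, mul_assoc r, hs, mul_one, hr]
    simp only [Set.mem_ofPred_eq] at *
    rcases ha with rfl | rfl | rfl | rfl <;> simp only [inv_one, hi _ hr, hi _ hs, hi _ h5] <;> simp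

/-- The first generator of the four group of disjoint transpositions. -/
def rA : Perm (Fin 6) := swap 0 1 * swap 3 4
/-- The second generator of the four group of disjoint transpositions. -/
def rB : Perm (Fin 6) := swap 0 1 * swap 2 5

/-- The four group of disjoint transpositions. -/
def kR : Subgroup (Perm (Fin 6)) :=
  fourGroup rA rB (by decide +kernel) (by decide +kernel) (by decide +kernel)

theorem mem_kR {x : Perm (Fin 6)} : x ∈ kR ↔ x = 1 ∨ x = rA ∨ x = rB ∨ x = rA * rB := Iff.rfl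

theorem card_kR : Nat.card kR = 4 := by
  have h : Nat.card {x : Perm (Fin 6) // x = 1 ∨ x = rA ∨ x = rB ∨ x = rA * rB} = 4 := by
    rw [Nat.subtype_card (Finset.univ.filter fun x => x = 1 ∨ x = rA ∨ x = rB ∨ x = rA * rB)
      fun x => by simp]
    decide +kernel
  exact h

theorem kR_facts : Perm.sign rA = 1 ∧ Perm.sign rB = 1 ∧
    (∀ x : Perm (Fin 6), Perm.sign x = 1 → x * rA = rA * x → x * rB = rB * x →
      x = 1 ∨ x = rA ∨ x = rB ∨ x = rA * rB) ∧
    (∀ x : Perm (Fin 6), x * x = 1 → x * (x * x) = 1 → x = 1) := by decide +kernel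

/-- A three-element permuting the three transpositions. -/
def xR : Perm (Fin 6) := swap 0 3 * swap 3 2 * (swap 1 4 * swap 4 5)

theorem xR_facts : (∃ g : Perm (Fin 6), Perm.sign g = 1 ∧ g * xR * g⁻¹ = c0 * c1) ∧
    (∀ i : Fin 3, ∀ u ∈ ([1, rA, rB, rA * rB] : List (Perm (Fin 6))),
      let v := xR ^ (i : ℕ) * u * (xR ^ (i : ℕ))⁻¹
      v = 1 ∨ v = rA ∨ v = rB ∨ v = rA * rB) := by
  decide +kernel

/-- The coordinate cutting out `bAx` and `last`. -/
def lD : V3 →+ ZMod 3 where
  toFun v := v.1 - v.2.1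
  map_zero' := by simp
  map_add' a b := by simp only [Prod.fst_add, Prod.snd_add]; abel

set_option synthInstance.maxSize 4000 in
theorem lD_split : ∀ v : Multiplicative V3, lD v.toAdd = 0 → (SemidirectProduct.inl v : Q) ≠ 1 →
    ∃ i : Fin 3, ∃ j : Fin 3, (SemidirectProduct.inl v : Q) = bAx ^ (i : ℕ) * last ^ (j : ℕ) ∧
      (i = 0 ∨ (j = 0 ∧ weight (SemidirectProduct.inl v) = 2 ∧
          ∀ z : Q, z * SemidirectProduct.inl v = SemidirectProduct.inl v * z → z.right ≠ 1 →
            z * last = last * last * z) ∨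
        weight (SemidirectProduct.inl v) = 3) ∧ (i = 0 → j ≠ 0) := by
  decide +kernel

theorem card_hyper_lD : Nat.card (hyper lD) = 9 := by
  have h : Nat.card {v : V3 // lD v = 0} = 9 := by
    rw [Nat.subtype_card (Finset.univ.filter fun v : V3 => lD v = 0) fun v => by simp]
    decide +kernel
  rw [← h]
  refine Nat.card_congr (Equiv.ofBijective
    (fun y : hyper lD => (⟨(y : Q).left.toAdd, (mem_hyper.1 y.2).2⟩ : {v : V3 // lD v = 0})) ⟨?_, ?_⟩)
  · intro a b h
    refine Subtype.ext (SemidirectProduct.ext ?_ ?_)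
    · exact Multiplicative.toAdd.injective (congrArg Subtype.val h)
    · rw [(mem_hyper.1 a.2).1, (mem_hyper.1 b.2).1]
  · rintro ⟨v, hv⟩
    exact ⟨⟨SemidirectProduct.inl (Multiplicative.ofAdd v), mem_hyper.2 ⟨rfl, hv⟩⟩, rfl⟩

variable {G : Type*} [Group G]

theorem mem_normalizer_centralizer {U : Subgroup G} {y : G} (h1 : ∀ u ∈ U, y * u * y⁻¹ ∈ U)
    (h2 : ∀ u ∈ U, y⁻¹ * u * y ∈ U) :
    y ∈ Subgroup.normalizer (Subgroup.centralizer (U : Set G) : Set G) := by
  refine Subgroup.mem_normalizer_iff.2 fun g => ⟨fun hg => ?_, fun hg => ?_⟩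
  · refine Subgroup.mem_centralizer_iff.2 fun u hu => ?_
    have := congrArg (fun x => y * x * y⁻¹) (Subgroup.mem_centralizer_iff.1 hg _ (h2 u hu))
    simpa [mul_assoc] using this
  · refine Subgroup.mem_centralizer_iff.2 fun u hu => ?_
    have := congrArg (fun x => y⁻¹ * x * y) (Subgroup.mem_centralizer_iff.1 hg _ (h1 u hu))
    simpa [mul_assoc] using this

/-- An element of prime-to-three order over an element of order three lies in the four group. -/
theorem mem_of_axis {U : Subgroup G} {a g : G} (ha3 : a ^ 3 = 1) (haU : a ∉ U)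
    (hga : Commute g a) {k n : ℕ} (hn : ¬ 3 ∣ n) (hgn : g ^ n = 1) (hU : a ^ k * g ∈ U) : g ∈ U := by
  have h := U.pow_mem hU n
  rw [(hga.symm.pow_left k).mul_pow, hgn, mul_one, ← pow_mul] at h
  have hd : k % 3 = 0 := by
    by_contra hne
    have e : a = (a ^ (k * n)) ^ (k * n) := by
      rw [← pow_mul, ← Nat.mod_add_div (k * n * (k * n)) 3, pow_add, pow_mul, ha3, one_pow, mul_one]
      have h1 : k % 3 = 1 ∨ k % 3 = 2 := by omega
      have h2 : n % 3 = 1 ∨ n % 3 = 2 := by omega
      rcases h1 with h1 | h1 <;> rcases h2 with h2 | h2 <;> simp [Nat.mul_mod, h1, h2]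
    exact haU (by rw [e]; exact U.pow_mem h _)
  rwa [← Nat.mod_add_div k 3, hd, zero_add, pow_mul, ha3, one_pow, one_mul] at hU

variable [Finite G] {π : Q →* G} {ι : Perm (Fin 6) →* G}

theorem Frame.card_centralizer_R (F : Frame π ι) :
    Nat.card (Subgroup.centralizer (kR.map (iotaLast π ι) : Set G)) = 12 ∨
      Nat.card (Subgroup.centralizer (kR.map (iotaLast π ι) : Set G)) = 24 := by
  obtain ⟨sA, sB, hcent, -⟩ := kR_facts
  set U := kR.map (iotaLast π ι)
  set X := Subgroup.centralizer (U : Set G)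
  set a := π last
  have heven : ∀ x ∈ kR, Perm.sign x = 1 := by
    intro x hx
    rcases mem_kR.1 hx with rfl | rfl | rfl | rfl <;> simp [sA, sB]
  have haU : a ∉ U := by
    rintro ⟨x, -, e⟩
    have h := F.last_indep (k := 1) (by rw [pow_one]; exact e.symm)
    exact absurd h.2 (by norm_num)
  have hUX : U ≤ X := by
    rintro _ ⟨x, hx, rfl⟩
    refine Subgroup.mem_centralizer_iff.2 ?_
    rintro _ ⟨y, hy, rfl⟩
    rw [← map_mul, ← map_mul]
    refine congrArg _ ?_
    rcases mem_kR.1 hx with rfl | rfl | rfl | rfl <;> rcases mem_kR.1 hy with rfl | rfl | rfl | rfl <;>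
      decide +kernel
  have haX : a ∈ X := by
    refine Subgroup.mem_centralizer_iff.2 ?_
    rintro _ ⟨y, hy, rfl⟩
    exact (F.last_even (heven y hy)).eq
  have ha3 : a ^ 3 = 1 := by rw [← map_pow, pow_three_of_right rfl, map_one]
  have hself : ∀ g ∈ X, Commute g a → ∃ k : ℕ, a ^ k * g ∈ U := by
    intro g hg hga
    obtain ⟨k, hk, s, hs, rfl⟩ := F.last_gen hga
    refine ⟨3 - k, s, ?_, ?_⟩
    · have hc : ∀ u ∈ kR, s * u = u * s := by
        intro u hu
        refine F.last_inj ?_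
        rw [map_mul, map_mul]
        have h := Subgroup.mem_centralizer_iff.1 hg _ ⟨u, hu, rfl⟩
        rw [← mul_assoc, ((F.last_even (heven u hu)).pow_right k).eq, mul_assoc] at h
        rw [mul_assoc] at h
        exact (mul_left_cancel h).symm
      exact hcent s hs (hc _ (mem_kR.2 (Or.inr (Or.inl rfl))))
        (hc _ (mem_kR.2 (Or.inr (Or.inr (Or.inl rfl)))))
    · rw [← mul_assoc, ← pow_add, show 3 - k + k = 3 by omega, ha3, one_mul]
  -- the acting group
  obtain ⟨⟨g0, hg0, hg0x⟩, hxR⟩ := xR_facts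
  set γ := iotaLast π ι g0
  set C := MulAut.conj γ⁻¹
  set A := ((hyper lD).map π).map C.toMonoidHom
  have hCa : C a = a := by
    show γ⁻¹ * a * γ⁻¹⁻¹ = a
    rw [inv_inv, mul_assoc, ← (F.last_even hg0).eq, inv_mul_cancel_left]
  have hCb : C (π bAx) = iotaLast π ι xR := by
    have e : π bAx = iotaLast π ι (c0 * c1) := by
      rw [map_mul, F.last_cyc0, F.last_cyc1, ← map_mul]
      exact congrArg π (by decide +kernel)
    rw [e, ← hg0x]
    show γ⁻¹ * _ * γ⁻¹⁻¹ = _
    simp [γ, mul_assoc]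
  have hyC : ∀ (i j : ℕ), C (π (bAx ^ i * last ^ j)) = iotaLast π ι (xR ^ i) * a ^ j := fun i j => by
    rw [map_mul, map_mul, map_pow, map_pow, map_pow, map_pow, hCb, hCa, map_pow]
  have hA : Nine A := by
    refine ⟨⟨⟨fun p q => Subtype.ext ?_⟩⟩, ?_, ?_⟩
    · obtain ⟨_, ⟨v, hv, rfl⟩, ep⟩ := p.2
      obtain ⟨_, ⟨w, hw, rfl⟩, eq⟩ := q.2
      show (p : G) * q = q * p
      rw [← ep, ← eq, ← map_mul, ← map_mul, ← map_mul, ← map_mul,
        comm_of_right v w (mem_hyper.1 hv).1 (mem_hyper.1 hw).1]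
    · rintro _ ⟨_, ⟨v, hv, rfl⟩, rfl⟩
      rw [← map_pow, ← map_pow, pow_three_of_right (mem_hyper.1 hv).1, map_one, map_one]
    · rw [Subgroup.card_map_of_injective C.injective, Subgroup.card_map_of_injective F.setting.inj,
        card_hyper_lD]
  have hnU : ∀ y ∈ A, ∀ u ∈ U, y * u * y⁻¹ ∈ U := by
    rintro _ ⟨_, ⟨v, hv, rfl⟩, rfl⟩ _ ⟨u, hu, rfl⟩
    by_cases hv1 : v = 1
    · subst hv1; rw [map_one, map_one, one_mul, inv_one, mul_one]; exact ⟨u, hu, rfl⟩
    obtain ⟨hve, hvl⟩ := hyper_eq_inl hv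
    rw [hve] at hv1 ⊢
    obtain ⟨i, j, e, -⟩ := lD_split v.left hvl hv1
    rw [e]
    show C (π _) * _ * (C (π _))⁻¹ ∈ U
    rw [hyC, mul_inv_rev]
    refine ⟨xR ^ (i : ℕ) * u * (xR ^ (i : ℕ))⁻¹, ?_, ?_⟩
    · refine mem_kR.2 (hxR i u ?_)
      rcases mem_kR.1 hu with rfl | rfl | rfl | rfl <;> simp
    · have h1 : (a ^ (j : ℕ))⁻¹ = (a⁻¹) ^ (j : ℕ) := (inv_pow a j).symm
      have h2 : Commute (iotaLast π ι u) (a ^ (j : ℕ)) := (F.last_even (heven u hu)).pow_right _
      rw [map_mul, map_mul, map_inv]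
      calc iotaLast π ι (xR ^ (i : ℕ)) * iotaLast π ι u * (iotaLast π ι (xR ^ (i : ℕ)))⁻¹
          = iotaLast π ι (xR ^ (i : ℕ)) * (iotaLast π ι u * a ^ (j : ℕ)) * (a ^ (j : ℕ))⁻¹ *
              (iotaLast π ι (xR ^ (i : ℕ)))⁻¹ := by group
        _ = _ := by rw [h2.eq]; group
  have hAX : A ≤ Subgroup.normalizer (X : Set G) := fun y hy =>
    mem_normalizer_centralizer (hnU y hy) fun u hu => by
      have := hnU _ (inv_mem hy) u hu
      rwa [inv_inv] at this
  -- small centralizers in the core and in elements of order five or seven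
  have hcases : ∀ y ∈ A, y ≠ 1 → ∀ g : G, Commute g y → Commute g a ∨
      (g * a = a * a * g ∧ g ^ 36 = 1) ∨ g ^ 9 = 1 := by
    rintro _ ⟨_, ⟨v, hv, rfl⟩, rfl⟩ hy1 g hg
    obtain ⟨hve, hvl⟩ := hyper_eq_inl hv
    rw [hve] at hy1 hg
    obtain ⟨i, j, e, hcase, hj⟩ := lD_split v.left hvl (fun h => hy1 (by rw [h, map_one, map_one]))
    have hg' : Commute (C.symm g) (π (SemidirectProduct.inl v.left)) := by
      have := hg.map C.symm.toMonoidHom
      simpa using this
    rcases hcase with rfl | ⟨rfl, hw, hz⟩ | hw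
    · refine Or.inl ?_
      have h1 : Commute g (a ^ (j : ℕ)) := by
        have : (C.toMonoidHom (π (SemidirectProduct.inl v.left))) = a ^ (j : ℕ) := by
          rw [e]
          show C (π _) = _
          rw [hyC]; simp
        rwa [this] at hg
      have hj0 := hj rfl
      have h2 : a = (a ^ (j : ℕ)) ^ (j : ℕ) := by
        fin_cases j
        · exact absurd rfl hj0
        · simp
        · rw [← pow_mul, show (2 * 2 : ℕ) = 3 + 1 from rfl, pow_add, ha3, one_mul, pow_one]
      rw [h2]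
      exact h1.pow_right _
    · obtain ⟨z, hz', hzc⟩ := F.range_weight_two (SemidirectProduct.right_inl (φ := actHom) v.left) hw hg'
      have h36 : g ^ 36 = 1 := by
        rw [← C.apply_symm_apply g, ← map_pow, ← hz', ← map_pow, pow_thirty_six, map_one, map_one]
      by_cases hzr : z.right = 1
      · refine Or.inr (Or.inr ?_)
        rw [← C.apply_symm_apply g, ← map_pow, ← hz', ← map_pow,
          show z ^ 9 = (z ^ 3) ^ 3 from pow_mul z 3 3, pow_three_of_right hzr, one_pow, map_one, map_one]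
      · refine Or.inr (Or.inl ⟨?_, h36⟩)
        rw [← C.apply_symm_apply g, ← hz', ← hCa]
        simp only [a, ← map_mul]
        rw [hz z hzc hzr]
    · refine Or.inr (Or.inr ?_)
      have := F.setting.range_weight_three (SemidirectProduct.right_inl (φ := actHom) v.left) hw hg'
      rw [← C.apply_symm_apply g, ← map_pow, this, map_one]
  have hcore := core_le hA hAX (U := U) fun K hKX hKn hK3 y hy hy1 g hgK hgy => by
    have hgn : g ^ Nat.card K = 1 := congrArg Subtype.val (pow_card_eq_one' (x := (⟨g, hgK⟩ : K)))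
    have hn3 : ¬ 3 ∣ Nat.card K := (Nat.Prime.coprime_iff_not_dvd Nat.prime_three).1 hK3.symm
    rcases hcases y hy hy1 g hgy with h | ⟨h, -⟩ | h
    · obtain ⟨k, hk⟩ := hself g (hKX hgK) h
      exact mem_of_axis ha3 haU h hn3 hgn hk
    · exfalso
      have hcm : g * a * g⁻¹ * a⁻¹ ∈ K := by
        rw [mul_assoc, mul_assoc, ← mul_assoc a]
        exact K.mul_mem hgK (hKn a haX _ (K.inv_mem hgK))
      rw [h, mul_inv_cancel_right, mul_inv_cancel_right] at hcm
      have hd : orderOf (⟨a, hcm⟩ : K) ∣ Nat.card K := orderOf_dvd_natCard _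
      have : Fact (Nat.Prime 3) := ⟨Nat.prime_three⟩
      rw [Subgroup.orderOf_mk, orderOf_eq_prime ha3 (fun e => haU (by rw [e]; exact U.one_mem))] at hd
      exact hn3 hd
    · have hg1 : g = 1 := by
        have := pow_gcd_eq_one.2 ⟨h, hgn⟩
        rwa [show Nat.gcd 9 (Nat.card K) = 1 from Nat.Coprime.pow_left 2 hK3.symm, pow_one] at this
      rw [hg1]; exact U.one_mem
  obtain ⟨hne1, hne2⟩ := card_small hA hAX fun y hy hy1 g hgX hgy h57 => by
    have h6 : g ^ 6 = 1 ∨ g ^ 36 = 1 ∨ g ^ 9 = 1 := by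
      rcases hcases y hy hy1 g hgy with h | ⟨-, h⟩ | h
      · refine Or.inl ?_
        obtain ⟨k, hk⟩ := hself g hgX h
        obtain ⟨u, hu, e⟩ := hk
        have hu2 : u * u = 1 := by rcases mem_kR.1 hu with rfl | rfl | rfl | rfl <;> decide +kernel
        have e2 : (a ^ k * g) ^ 6 = 1 := by
          rw [← e, ← map_pow, show u ^ 6 = (u * u) ^ 3 by rw [← pow_two, ← pow_mul], hu2, one_pow, map_one]
        rwa [(h.symm.pow_left k).mul_pow, ← pow_mul, mul_comm k 6, pow_mul, show (6 : ℕ) = 3 * 2 from rfl,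
          pow_mul, ha3, one_pow, one_pow, one_mul] at e2
      · exact Or.inr (Or.inl h)
      · exact Or.inr (Or.inr h)
    rcases h57 with h5 | h5 <;> rcases h6 with h | h | h <;>
    · have := pow_gcd_eq_one.2 ⟨h5, h⟩
      norm_num at this
      exact this
  rcases card_cases hUX le_rfl (by rw [Subgroup.card_map_of_injective F.last_inj, card_kR]) haX ha3 haU
    hself hcore with h | h | h | h
  exacts [Or.inl h, Or.inr h, absurd h hne1, absurd h hne2]

end Cfsg.Agent.AltNineThree
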