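import Cfsg.Agent.Lib.AltNineThree.Trichotomy

/-!
# The centralizer of a four group on four points

* `Frame.card_centralizer_V_small`: order 12 or 24 when `C(a) ∩ C(V)` is small
* `Frame.card_centralizer_V_big`: order 240 otherwise
-/

set_option autoImplicit false

namespace Cfsg.Agent.AltNineThree

open Cfsg Cfsg.Agent.ThreeCubedSymFour Equiv

/-- The middle coordinate. -/
def lM : V3 →+ ZMod 3 := (AddMonoidHom.fst _ _).comp (AddMonoidHom.snd _ _)

theorem lM_split : ∀ v : Multiplicative V3, lM v.toAdd = 0 → (SemidirectProduct.inl v : Q) ≠ 1 →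
    ∃ i : Fin 3, ∃ j : Fin 3, (SemidirectProduct.inl v : Q) = aAx ^ (i : ℕ) * last ^ (j : ℕ) ∧
      ((i = 0 ∧ j ≠ 0) ∨ (j = 0 ∧ i ≠ 0) ∨ weight (SemidirectProduct.inl v) = 2) := by
  decide +kernel

set_option synthInstance.maxSize 4000 in
theorem lM_flip : ∀ v : Multiplicative V3, lM v.toAdd = 0 → weight (SemidirectProduct.inl v) = 2 →
    ∀ z : Q, z * SemidirectProduct.inl v = SemidirectProduct.inl v * z → z.right ≠ 1 →
      z * last = aAx * z ∨ z * last = aAx * aAx * z := by
  decide +kernel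

theorem card_hyper_lM : Nat.card (hyper lM) = 9 := by
  have h : Nat.card {v : V3 // lM v = 0} = 9 := by
    rw [Nat.subtype_card (Finset.univ.filter fun v : V3 => lM v = 0) fun v => by simp]
    decide +kernel
  rw [← h]
  refine Nat.card_congr (Equiv.ofBijective
    (fun y : hyper lM => (⟨(y : Q).left.toAdd, (mem_hyper.1 y.2).2⟩ : {v : V3 // lM v = 0})) ⟨?_, ?_⟩)
  · intro a b h
    refine Subtype.ext (SemidirectProduct.ext ?_ ?_)
    · exact Multiplicative.toAdd.injective (congrArg Subtype.val h)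
    · rw [(mem_hyper.1 a.2).1, (mem_hyper.1 b.2).1]
  · rintro ⟨v, hv⟩
    exact ⟨⟨SemidirectProduct.inl (Multiplicative.ofAdd v), mem_hyper.2 ⟨rfl, hv⟩⟩, rfl⟩

set_option synthInstance.maxSize 4000 in
theorem kV_facts :
    (∀ x : Perm (Fin 6), Perm.sign x = 1 → x * vA = vA * x → x * vB = vB * x →
      x = 1 ∨ x = vA ∨ x = vB ∨ x = vA * vB) ∧
    (∀ i : Fin 3, ∀ u ∈ ([1, vA, vB, vA * vB] : List (Perm (Fin 6))),
      let v := c0 ^ (i : ℕ) * u * (c0 ^ (i : ℕ))⁻¹
      v = 1 ∨ v = vA ∨ v = vB ∨ v = vA * vB) ∧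
    c0 * vA ≠ vA * c0 ∧ c0 * c0 * vA ≠ vA * (c0 * c0) ∧
    wT * wU ≠ 1 ∧
    wT * wU * (wT * wU) * (wT * wU * (wT * wU)) * (wT * wU) = 1 ∧ Perm.sign wU = 1 := by
  decide +kernel

theorem small_core : ∀ s ∈ wSmall, s = 1 ∨ s * (s * s) = 1 ∨
    (s * (c1 * s * c1⁻¹) ≠ 1 ∧
      s * (c1 * s * c1⁻¹) * (s * (c1 * s * c1⁻¹) * (s * (c1 * s * c1⁻¹))) = 1) := by
  decide +kernel

/-- The conjugators used in the large case. -/
def conjWords : List (Perm (Fin 6)) :=
  [wT, c1 * wU, c1 * wT * wU * c1, wT * c1 * wU * wT, wT * wU * c1, wU * c1 * wU * wT]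

theorem big_core : ∀ s : Perm (Fin 6), Perm.sign s = 1 →
    (decide (s = 1) || decide (s * (s * s) = 1) || conjWords.any fun g =>
      let m := s * (g * s * g⁻¹)
      let n := s * (g * s * g⁻¹)⁻¹
      decide (m ≠ 1 ∧ m * (m * m) = 1) || decide (n ≠ 1 ∧ n * (n * n) = 1)) = true := by
  decide +kernel

theorem conjWords_sign : ∀ g ∈ conjWords, Perm.sign g = 1 := by decide +kernel

theorem small_pow : ∀ s ∈ wSmall, s * s * (s * s) * (s * s) = 1 := by decide +kernel

variable {G : Type*} [Group G] [Finite G] {π : Q →* G} {ι : Perm (Fin 6) →* G}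

theorem Frame.even_conjWords (F : Frame π ι) (hU : ι wU ∈ wGroup π ι) :
    ∀ g ∈ conjWords, ι g ∈ wGroup π ι := by
  intro g hg
  simp only [conjWords, List.mem_cons, List.not_mem_nil, or_false] at hg
  have h1 := F.c1_mem
  have hT := F.wT_mem
  rcases hg with rfl | rfl | rfl | rfl | rfl | rfl
  · exact hT
  · rw [map_mul]; exact mul_mem h1 hU
  · rw [map_mul, map_mul, map_mul]; exact mul_mem (mul_mem (mul_mem h1 hT) hU) h1
  · rw [map_mul, map_mul, map_mul]; exact mul_mem (mul_mem (mul_mem hT h1) hU) hT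
  · rw [map_mul, map_mul]; exact mul_mem (mul_mem hT hU) h1
  · rw [map_mul, map_mul, map_mul]; exact mul_mem (mul_mem (mul_mem hU h1) hU) hT

/-- The common part of the two cases. -/
theorem Frame.centralizer_V_cases (F : Frame π ι)
    (hcore : (∀ s ∈ F.sSet, s ∈ wSmall) ∨ ι wU ∈ wGroup π ι) :
    (Nat.card (Subgroup.centralizer (kV.map (iotaLast π ι) : Set G)) = 12 ∨
      Nat.card (Subgroup.centralizer (kV.map (iotaLast π ι) : Set G)) = 24 ∨
      Nat.card (Subgroup.centralizer (kV.map (iotaLast π ι) : Set G)) = 240 ∨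
      Nat.card (Subgroup.centralizer (kV.map (iotaLast π ι) : Set G)) = 672) ∧
    ((∀ s ∈ F.sSet, s ∈ wSmall) →
      Nat.card (Subgroup.centralizer (kV.map (iotaLast π ι) : Set G)) ≠ 240 ∧
      Nat.card (Subgroup.centralizer (kV.map (iotaLast π ι) : Set G)) ≠ 672) := by
  obtain ⟨hcent, hnorm, hc0A, hc00A, -⟩ := kV_facts
  set U := kV.map (iotaLast π ι)
  set X := Subgroup.centralizer (U : Set G)
  set a := π last
  set b := π aAx
  have haU : a ∉ U := by
    rintro ⟨x, -, e⟩
    have h := F.last_indep (k := 1) (by rw [pow_one]; exact e.symm)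
    exact absurd h.2 (by norm_num)
  have hUX : U ≤ X := by
    rintro _ ⟨x, hx, rfl⟩
    refine Subgroup.mem_centralizer_iff.2 ?_
    rintro _ ⟨y, hy, rfl⟩
    rw [← map_mul, ← map_mul]
    refine congrArg _ ?_
    rcases mem_kV.1 hx with rfl | rfl | rfl | rfl <;> rcases mem_kV.1 hy with rfl | rfl | rfl | rfl <;>
      decide +kernel
  have haX : a ∈ X := by
    refine Subgroup.mem_centralizer_iff.2 ?_
    rintro _ ⟨y, hy, rfl⟩
    exact (F.last_even (F.even_kV hy)).eq
  have ha3 : a ^ 3 = 1 := by rw [← map_pow, pow_three_of_right rfl, map_one]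
  have hb3 : b ^ 3 = 1 := F.pow_three
  have hself : ∀ g ∈ X, Commute g a → ∃ k : ℕ, a ^ k * g ∈ U := by
    intro g hg hga
    obtain ⟨k, hk, s, hs, rfl⟩ := F.last_gen hga
    refine ⟨3 - k, s, ?_, ?_⟩
    · have hc : ∀ u ∈ kV, s * u = u * s := by
        intro u hu
        refine F.last_inj ?_
        rw [map_mul, map_mul]
        have h := Subgroup.mem_centralizer_iff.1 hg _ ⟨u, hu, rfl⟩
        rw [← mul_assoc, ((F.last_even (F.even_kV hu)).pow_right k).eq, mul_assoc] at h
        rw [mul_assoc] at h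
        exact (mul_left_cancel h).symm
      exact hcent s hs (hc _ (mem_kV.2 (Or.inr (Or.inl rfl))))
        (hc _ (mem_kV.2 (Or.inr (Or.inr (Or.inl rfl)))))
    · rw [← mul_assoc, ← pow_add, show 3 - k + k = 3 by omega, ha3, one_mul]
  have hbX : b ∉ X ∧ b * b ∉ X := by
    constructor <;> intro h
    · refine hc0A (F.last_inj ?_)
      rw [map_mul, map_mul, F.last_cyc0]
      exact (Subgroup.mem_centralizer_iff.1 h _ ⟨vA, mem_kV.2 (Or.inr (Or.inl rfl)), rfl⟩).symm
    · refine hc00A (F.last_inj ?_)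
      simp only [map_mul, F.last_cyc0]
      exact (Subgroup.mem_centralizer_iff.1 h _ ⟨vA, mem_kV.2 (Or.inr (Or.inl rfl)), rfl⟩).symm
  -- the acting group
  set A := (hyper lM).map π
  have hA : Nine A := by
    refine ⟨⟨⟨fun p q => Subtype.ext ?_⟩⟩, ?_, ?_⟩
    · obtain ⟨v, hv, ep⟩ := p.2
      obtain ⟨w, hw, eq⟩ := q.2
      show (p : G) * q = q * p
      rw [← ep, ← eq, ← map_mul, ← map_mul, comm_of_right v w (mem_hyper.1 hv).1 (mem_hyper.1 hw).1]
    · rintro _ ⟨v, hv, rfl⟩
      rw [← map_pow, pow_three_of_right (mem_hyper.1 hv).1, map_one]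
    · rw [Subgroup.card_map_of_injective F.setting.inj, card_hyper_lM]
  have hnU : ∀ y ∈ A, ∀ u ∈ U, y * u * y⁻¹ ∈ U := by
    rintro _ ⟨v, hv, rfl⟩ _ ⟨u, hu, rfl⟩
    by_cases hv1 : v = 1
    · subst hv1; rw [map_one, one_mul, inv_one, mul_one]; exact ⟨u, hu, rfl⟩
    obtain ⟨hve, hvl⟩ := hyper_eq_inl hv
    rw [hve] at hv1 ⊢
    obtain ⟨i, j, e, -⟩ := lM_split v.left hvl hv1
    rw [e, map_mul, map_pow, map_pow]
    refine ⟨c0 ^ (i : ℕ) * u * (c0 ^ (i : ℕ))⁻¹, ?_, ?_⟩
    · refine mem_kV.2 (hnorm i u ?_)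
      rcases mem_kV.1 hu with rfl | rfl | rfl | rfl <;> simp
    · have h2 : Commute (iotaLast π ι u) (π last ^ (j : ℕ)) := (F.last_even (F.even_kV hu)).pow_right _
      rw [map_mul, map_mul, map_inv, map_pow, F.last_cyc0]
      calc π aAx ^ (i : ℕ) * iotaLast π ι u * (π aAx ^ (i : ℕ))⁻¹
          = π aAx ^ (i : ℕ) * (iotaLast π ι u * π last ^ (j : ℕ)) * (π last ^ (j : ℕ))⁻¹ *
              (π aAx ^ (i : ℕ))⁻¹ := by group
        _ = _ := by rw [h2.eq]; group
  have hAX : A ≤ Subgroup.normalizer (X : Set G) := fun y hy =>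
    mem_normalizer_centralizer (hnU y hy) fun u hu => by
      have := hnU _ (inv_mem hy) u hu
      rwa [inv_inv] at this
  have hpow : ∀ (c : G), c ^ 3 = 1 → ∀ j : Fin 3, j ≠ 0 → c = (c ^ (j : ℕ)) ^ (j : ℕ) := by
    intro c hc j hj
    fin_cases j
    · exact absurd rfl hj
    · simp
    · rw [← pow_mul, show (2 * 2 : ℕ) = 3 + 1 from rfl, pow_add, hc, one_mul, pow_one]
  have hcases : ∀ y ∈ A, y ≠ 1 → ∀ g ∈ X, Commute g y → Commute g a ∨ Commute g b ∨ g ^ 3 = 1 := by
    rintro _ ⟨v, hv, rfl⟩ hy1 g hgX hg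
    obtain ⟨hve, hvl⟩ := hyper_eq_inl hv
    rw [hve] at hy1 hg
    obtain ⟨i, j, e, hcase⟩ := lM_split v.left hvl (fun h => hy1 (by rw [h, map_one]))
    rcases hcase with ⟨rfl, hj⟩ | ⟨rfl, hi⟩ | hw
    · refine Or.inl ?_
      rw [e] at hg
      simp only [Fin.val_zero, pow_zero, one_mul, map_pow] at hg
      rw [hpow a ha3 j hj]
      exact hg.pow_right _
    · refine Or.inr (Or.inl ?_)
      rw [e] at hg
      simp only [Fin.val_zero, pow_zero, mul_one, map_pow] at hg
      rw [hpow b hb3 i hi]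
      exact hg.pow_right _
    · refine Or.inr (Or.inr ?_)
      obtain ⟨z, rfl, hzc⟩ := F.range_weight_two (SemidirectProduct.right_inl (φ := actHom) v.left) hw hg
      by_cases hzr : z.right = 1
      · rw [← map_pow, pow_three_of_right hzr, map_one]
      · exfalso
        have hcX : π z * a * (π z)⁻¹ ∈ X := X.mul_mem (X.mul_mem hgX haX) (X.inv_mem hgX)
        have ez : ∀ w : Q, z * last = w * z → π z * a * (π z)⁻¹ = π w := fun w hw' => by
          rw [← map_inv, ← map_mul, ← map_mul, hw', mul_inv_cancel_right]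
        rcases lM_flip v.left hvl hw z hzc hzr with h | h
        · exact hbX.1 (by have := ez _ h; rw [this] at hcX; exact hcX)
        · exact hbX.2 (by have := ez _ h; rw [this, map_mul] at hcX; exact hcX)
  have hW : ∀ g ∈ X, Commute g b → g ∈ wGroup π ι := fun g hgX hgb =>
    ⟨Subgroup.mem_centralizer_singleton_iff.2 hgb.eq, hgX⟩
  have hcore' := core_le hA hAX (U := U) fun K hKX hKn hK3 y hy hy1 g hgK hgy => by
    have hn3 : ¬ 3 ∣ Nat.card K := (Nat.Prime.coprime_iff_not_dvd Nat.prime_three).1 hK3.symm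
    have hKpow : ∀ {x : G}, x ∈ K → x ^ Nat.card K = 1 := fun {x} hx =>
      congrArg Subtype.val (pow_card_eq_one' (x := (⟨x, hx⟩ : K)))
    rcases hcases y hy hy1 g (hKX hgK) hgy with h | h | h
    · obtain ⟨k, hk⟩ := hself g (hKX hgK) h
      exact mem_of_axis ha3 haU h hn3 (hKpow hgK) hk
    · obtain ⟨k, -, s, hs, rfl⟩ := F.sext.gen g (Subgroup.mem_centralizer_singleton_iff.2 h.eq)
      have hsS : s ∈ F.sSet := ⟨hs, k, hW _ (hKX hgK) h⟩
      let T : Perm (Fin 6) → Prop := fun s => Perm.sign s = 1 ∧ ∃ k, b ^ k * ι s ∈ K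
      have hTmul : ∀ s t, T s → T t → T (s * t) := by
        rintro s t ⟨hs, k, hk⟩ ⟨ht, l, hl⟩
        refine ⟨by simp [hs, ht], k + l, ?_⟩
        have h := K.mul_mem hk hl
        rw [show b ^ k * ι s * (b ^ l * ι t) = b ^ (k + l) * ι (s * t) by
          rw [map_mul, pow_add, mul_assoc (b ^ k), ← mul_assoc (ι s),
            ((show Commute (ι s) b from F.sext.even s hs).pow_right l).eq]
          group] at h
        exact h
      have hTinv : ∀ s, T s → T s⁻¹ := by
        rintro s ⟨hs, k, hk⟩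
        refine ⟨by simp [hs], 2 * k, ?_⟩
        have h := K.inv_mem hk
        have e : (b ^ k * ι s)⁻¹ = b ^ (2 * k) * ι s⁻¹ := by
          rw [((show Commute b (ι s) from (F.sext.even s hs).symm).pow_left k).eq, mul_inv_rev, map_inv]
          congr 1
          rw [inv_eq_iff_mul_eq_one, ← pow_add, show k + 2 * k = 3 * k by ring, pow_mul, hb3, one_pow]
        rwa [e] at h
      have hTconj : ∀ g, Perm.sign g = 1 → ι g ∈ wGroup π ι → ∀ s, T s → T (g * s * g⁻¹) := by
        rintro g hg hgW s ⟨hs, k, hk⟩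
        refine ⟨by simp [hs, hg], k, ?_⟩
        have h := hKn _ hgW.2 _ hk
        rw [show ι g * (b ^ k * ι s) * (ι g)⁻¹ = b ^ k * ι (g * s * g⁻¹) by
          rw [map_mul, map_mul, map_inv, ← mul_assoc,
            ((show Commute (ι g) b from F.sext.even g hg).pow_right k).eq]
          group] at h
        exact h
      have hT3 : ∀ s, T s → s * (s * s) = 1 → s = 1 := by
        rintro s ⟨hs, k, hk⟩ h3
        have e := hKpow hk
        rw [((show Commute b (ι s) from (F.sext.even s hs).symm).pow_left k).mul_pow, ← pow_mul,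
          ← map_pow ι] at e
        have hi := (F.indep (k := k * Nat.card K) (s := (s ^ Nat.card K)⁻¹)
          (by rw [map_inv]; exact eq_inv_of_mul_eq_one_left e)).1
        have := pow_gcd_eq_one.2 ⟨(_root_.pow_three s).trans h3, inv_eq_one.1 hi⟩
        rwa [Nat.Coprime.gcd_eq_one hK3.symm, pow_one] at this
      have hTs : T s := ⟨hs, k, hgK⟩
      suffices s = 1 by
        subst this
        rw [map_one, mul_one] at hgK ⊢
        have e := hKpow hgK
        rw [← pow_mul, ← map_pow] at e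
        have hd := (F.indep (k := k * Nat.card K) (s := 1) (by rw [← map_pow, e, map_one])).2
        obtain ⟨m, rfl⟩ := (Nat.prime_three.dvd_mul.1 hd).resolve_right hn3
        rw [pow_mul, hb3, one_pow]
        exact U.one_mem
      rcases hcore with hsmall | hbig
      · rcases small_core s (hsmall s hsS) with h1 | h1 | ⟨hne, h1⟩
        · exact h1
        · exact hT3 s hTs h1
        · exact absurd (hT3 _ (hTmul _ _ hTs (hTconj c1 trich_facts.1 F.c1_mem s hTs)) h1) hne
      · have hsb := big_core s hs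
        simp only [Bool.or_eq_true, decide_eq_true_eq, List.any_eq_true] at hsb
        rcases hsb with (h1 | h1) | ⟨g, hg, hm⟩
        · exact h1
        · exact hT3 s hTs h1
        · have hgs : Perm.sign g = 1 := conjWords_sign g hg
          have hc := hTconj g hgs (F.even_conjWords hbig g hg) s hTs
          rcases hm with ⟨hne, h1⟩ | ⟨hne, h1⟩
          · exact absurd (hT3 _ (hTmul _ _ hTs hc) h1) hne
          · exact absurd (hT3 _ (hTmul _ _ hTs (hTinv _ hc)) h1) hne
    · have := pow_gcd_eq_one.2 ⟨h, hKpow hgK⟩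
      rw [Nat.Coprime.gcd_eq_one hK3.symm, pow_one] at this
      rw [this]; exact U.one_mem
  refine ⟨card_cases hUX le_rfl (by rw [Subgroup.card_map_of_injective F.last_inj, card_kV]) haX ha3 haU
    hself hcore', fun hsmall => card_small hA hAX fun y hy hy1 g hgX hgy h57 => ?_⟩
  have h6 : g ^ 6 = 1 := by
    rcases hcases y hy hy1 g hgX hgy with h | h | h
    · obtain ⟨k, hk⟩ := hself g hgX h
      obtain ⟨u, hu, e⟩ := hk
      have hu2 : u * u = 1 := by rcases mem_kV.1 hu with rfl | rfl | rfl | rfl <;> decide +kernel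
      have e2 : (a ^ k * g) ^ 6 = 1 := by
        rw [← e, ← map_pow, show u ^ 6 = (u * u) ^ 3 by rw [← pow_two, ← pow_mul], hu2, one_pow, map_one]
      rwa [(h.symm.pow_left k).mul_pow, ← pow_mul, mul_comm k 6, pow_mul, show (6 : ℕ) = 3 * 2 from rfl,
        pow_mul, ha3, one_pow, one_pow, one_mul] at e2
    · obtain ⟨k, -, s, hs, rfl⟩ := F.sext.gen g (Subgroup.mem_centralizer_singleton_iff.2 h.eq)
      have hsS : s ∈ F.sSet := ⟨hs, k, hW _ hgX h⟩
      have e6 : s ^ 6 = 1 := by
        rw [← small_pow s (hsmall s hsS)]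
        simp only [pow_succ, pow_zero, one_mul, mul_assoc]
      rw [((show Commute b (ι s) from (F.sext.even s hs).symm).pow_left k).mul_pow, ← map_pow ι, e6, map_one,
        ← pow_mul, mul_comm, pow_mul, show (6 : ℕ) = 3 * 2 from rfl, pow_mul, hb3, one_pow, one_pow, one_mul]
    · rw [show (6 : ℕ) = 3 * 2 from rfl, pow_mul, h, one_pow]
  rcases h57 with h5 | h5 <;>
  · have := pow_gcd_eq_one.2 ⟨h5, h6⟩
    norm_num at this
    exact this

/-- The centralizer when `C(a) ∩ C(V)` is small. -/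
theorem Frame.card_centralizer_V_small (F : Frame π ι) (h : ∀ s ∈ F.sSet, s ∈ wSmall) :
    Nat.card (Subgroup.centralizer (kV.map (iotaLast π ι) : Set G)) = 12 ∨
      Nat.card (Subgroup.centralizer (kV.map (iotaLast π ι) : Set G)) = 24 := by
  obtain ⟨hc, hn⟩ := F.centralizer_V_cases (Or.inl h)
  obtain ⟨n1, n2⟩ := hn h
  omega

/-- The centralizer in the large case. -/
theorem Frame.card_centralizer_V_big (F : Frame π ι) (h : ι wU ∈ wGroup π ι) :
    Nat.card (Subgroup.centralizer (kV.map (iotaLast π ι) : Set G)) = 240 := by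
  obtain ⟨hc, -⟩ := F.centralizer_V_cases (Or.inr h)
  obtain ⟨-, -, -, -, hne, h5, -⟩ := kV_facts
  have hmem : ι (wT * wU) ∈ Subgroup.centralizer (kV.map (iotaLast π ι) : Set G) := by
    rw [map_mul]; exact (mul_mem F.wT_mem h).2
  have : Fact (Nat.Prime 5) := ⟨by norm_num⟩
  have hord : orderOf (ι (wT * wU)) = 5 := by
    refine orderOf_eq_prime ?_ fun e => hne (F.sext.inj (by rw [e, map_one]))
    rw [← map_pow, ← map_one ι, ← h5]
    simp only [pow_succ, pow_zero, one_mul, mul_assoc]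
  have hd := Subgroup.orderOf_dvd_natCard _ hmem
  rw [hord] at hd
  omega

end Cfsg.Agent.AltNineThree
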