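import Cfsg.Agent.Lib.AltNineThree.Centralizers
import Cfsg.Agent.Lib.ThreeCubedSymFour.Embedding
import Cfsg.Agent.S3701

/-!
# All centralizers small: the model is the whole group
-/

set_option autoImplicit false

namespace Cfsg.Agent.AltNineThree

open Cfsg Cfsg.Agent.ThreeCubedSymFour

variable {G : Type*} [Group G] [Finite G] {π : Q →* G}

theorem Setting.range_eq_top (E : Setting π)
    (ha : Subgroup.centralizer ({π aAx} : Set G) ≤ π.range)
    (hb : Subgroup.centralizer ({π bAx} : Set G) ≤ π.range) : π.range = ⊤ := by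
  classical
  have := Fintype.ofFinite G
  have hc := E.centralizer_c
  have hcent : ∀ x : Q, x.right = 1 → x ≠ 1 → Subgroup.centralizer ({π x} : Set G) ≤ π.range := by
    intro x hx hx1
    obtain ⟨y, h⟩ := exists_axis x hx hx1
    rcases h with h | h | h <;> rw [← h] <;> exact centralizer_le_range_conj y (by assumption)
  have Emb : Embedded π := by
    refine ⟨E.inj, hcent, fun {x y} hx hx1 hy {g} h => ?_⟩
    obtain ⟨q, hq⟩ := E.fusion hx hy h.symm
    have h1 : (π q)⁻¹ * g ∈ Subgroup.centralizer ({π x} : Set G) := by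
      refine Subgroup.mem_centralizer_singleton_iff.2 ?_
      have e : π q * π x * (π q)⁻¹ = g * π x * g⁻¹ := by
        rw [← h, ← hq, map_mul, map_mul, map_inv]
      calc (π q)⁻¹ * g * π x = (π q)⁻¹ * (g * π x * g⁻¹) * g := by group
        _ = _ := by rw [← e]; group
    have := mul_mem (⟨q, rfl⟩ : π q ∈ π.range) (hcent x hx hx1 h1)
    rwa [mul_inv_cancel_left] at this
  obtain ⟨N, hN, hNmem⟩ := Emb.exists_normal
  have hplane : ∀ x : Q, x.right = 1 → x ∈ smallSub := fun x hx => by
    rw [ThreeCubedSymFour.mem_smallSub, hx]; exact ⟨rfl, rfl⟩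
  let A : Subgroup G := smallSub.map π
  have hAN : A ≤ N := by rintro _ ⟨x, hx, rfl⟩; exact (hNmem x).2 hx
  have hJA : plane.map π ≤ A := Subgroup.map_mono fun x hx => hplane x hx
  have hin : ∀ n ∈ N, n ∈ π.range → n ∈ A := by
    rintro _ hn ⟨x, rfl⟩; exact Subgroup.mem_map_of_mem π ((hNmem x).1 hn)
  have htop : A.subgroupOf N = ⊤ := by
    refine S3701.result (A.subgroupOf N)
      ⟨(Subgroup.subgroupOfEquivOfLe hAN).trans ((smallSub.equivMapOfInjective π E.inj).symm.trans
        ((smallSub.equivMapOfInjective toPerm toPerm_injective).trans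
          (MulEquiv.subgroupCongr map_toPerm_small)))⟩
      ((plane.map π).subgroupOf N) (Subgroup.comap_mono hJA) ?_ ?_ ?_
    · rw [Cores.card_subgroupOf (hJA.trans hAN), E.card_plane_map]
    · refine le_antisymm (fun n hn => Subgroup.mem_subgroupOf.2 (hin _ n.2 ?_)) fun n hn => ?_
      · exact E.mem_range_of_map fun z hz => Subgroup.mem_subgroupOf.1
          ((Subgroup.mem_normalizer_iff.1 hn ⟨z, hAN (hJA hz)⟩).1 (Subgroup.mem_subgroupOf.2 hz))
      · obtain ⟨x, -, hxe⟩ := Subgroup.mem_subgroupOf.1 hn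
        have hconj : ∀ z : Q, ∀ g ∈ plane.map π, π z * g * (π z)⁻¹ ∈ plane.map π := by
          rintro z _ ⟨y, hy, rfl⟩
          refine ⟨z * y * z⁻¹, ?_, by simp⟩
          rw [SetLike.mem_coe, mem_plane] at hy ⊢
          simp [hy]
        refine Subgroup.mem_normalizer_iff.2 fun m => ?_
        simp only [SetLike.mem_coe, Subgroup.mem_subgroupOf, Subgroup.coe_mul, InvMemClass.coe_inv, ← hxe]
        refine ⟨hconj x _, fun h => ?_⟩
        have h' := hconj x⁻¹ _ h
        rw [map_inv] at h'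
        simpa [mul_assoc] using h'
    · intro t ht ht1 c hc
      refine Subgroup.mem_subgroupOf.2 (hin _ c.2 ?_)
      obtain ⟨y, hy, e⟩ := Subgroup.mem_subgroupOf.1 ht
      refine hcent y hy (fun h => ht1 (Subtype.ext (by rw [← e, h, map_one]; rfl)))
        (Subgroup.mem_centralizer_singleton_iff.2 ?_)
      rw [e]
      exact congrArg Subtype.val (Subgroup.mem_centralizer_singleton_iff.1 hc)
  refine eq_top_iff.2 fun g _ => ?_
  refine E.norm g fun s hs => ?_
  have hn : g * π s * g⁻¹ ∈ N := hN.conj_mem _ ((hNmem s).2 (hplane s hs)) g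
  have h : (⟨_, hn⟩ : ↥N) ∈ A.subgroupOf N := htop ▸ Subgroup.mem_top _
  obtain ⟨x, hx, hxe⟩ := Subgroup.mem_subgroupOf.1 h
  rw [SetLike.mem_coe, ThreeCubedSymFour.mem_smallSub] at hx
  refine ⟨x, small_cube x hx.1 hx.2 (E.inj ?_), hxe⟩
  have h3 : (π s) ^ 3 = 1 := by rw [← map_pow, pow_three_of_right hs, map_one]
  rw [map_mul, map_mul, map_one, hxe, Subgroup.coe_mk,
    show g * π s * g⁻¹ * (g * π s * g⁻¹) * (g * π s * g⁻¹) = g * π s ^ 3 * g⁻¹ by
      simp [pow_succ, mul_assoc], h3, mul_one, mul_inv_cancel]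

end Cfsg.Agent.AltNineThree
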