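import Cfsg.Agent.Lib.AltNineThree.InvI
import Cfsg.Agent.Lib.AltNineThree.SmallCase
import Cfsg.Agent.S3347
import Cfsg.Agent.S0223
import Cfsg.Agent.S1225

/-!
# The characterisation of `A9`

* `NineModel.range_eq_top`: the subgroup `A9` is everything
* `Setting.conclusion`: the model is everything or the group is `A9`
* `setting_of_equiv`: the setting from an isomorphism of the normalizer
-/

set_option autoImplicit false

namespace Cfsg.Agent.AltNineThree

open Cfsg Cfsg.Agent.ThreeCubedSymFour Equiv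

variable {G : Type*} [Group G] {φ : alternatingGroup (Fin 9) →* G}

theorem commute_transfer {σ m : alternatingGroup (Fin 9)}
    (h : ∀ g : G, Commute g (φ m) → g ∈ φ.range) {g : G} (hg : Commute g (φ (σ * m * σ⁻¹))) :
    g ∈ φ.range := by
  have e : Commute ((φ σ)⁻¹ * g * φ σ) (φ m) := by
    calc (φ σ)⁻¹ * g * φ σ * φ m = (φ σ)⁻¹ * (g * φ (σ * m * σ⁻¹)) * φ σ := by
          rw [map_mul, map_mul, map_inv]; group
      _ = (φ σ)⁻¹ * (φ (σ * m * σ⁻¹) * g) * φ σ := by rw [hg.eq]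
      _ = _ := by rw [map_mul, map_mul, map_inv]; group
  have := mul_mem (mul_mem (⟨σ, rfl⟩ : φ σ ∈ φ.range) (h _ e)) (inv_mem (⟨σ, rfl⟩ : φ σ ∈ φ.range))
  simpa [mul_assoc] using this

variable [Finite G]

theorem NineModel.centralizer_class_j (N : NineModel φ) {g : G} (hg : Commute g (φ (toPermA jInv))) :
    g ∈ φ.range := by
  obtain ⟨-, -, hJ, -, cJ, -⟩ := aAx_flip
  obtain ⟨σ, hσ⟩ := conj_alt hJ class_facts.2.2.1 cJ
  refine commute_transfer (σ := σ⁻¹) (m := σ * toPermA jInv * σ⁻¹)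
    (fun g h => N.centralizer_jJ (g := g) ?_) ?_
  · rw [hσ] at h; exact h
  · rwa [show σ⁻¹ * (σ * toPermA jInv * σ⁻¹) * σ⁻¹⁻¹ = toPermA jInv by group]

theorem NineModel.centralizer_class_i (N : NineModel φ) {g : G} (hg : Commute g (φ (toPermA iInv))) :
    g ∈ φ.range := by
  obtain ⟨-, -, -, -, -, -, -, -, -, -, -, hσ, -, hσi, -⟩ := iI_facts
  set σ : alternatingGroup (Fin 9) := ⟨pSigma, Perm.mem_alternatingGroup.2 hσ⟩
  have e : σ⁻¹ * iI * σ⁻¹⁻¹ = toPermA iInv := by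
    rw [show iI = σ * toPermA iInv * σ⁻¹ from Subtype.ext (mul_inv_eq_iff_eq_mul.2 hσi).symm]
    group
  exact commute_transfer (σ := σ⁻¹) (m := iI) (fun g h => N.centralizer_iI h) (by rwa [e])

/-- An involution of the subgroup. -/
theorem NineModel.involution (N : NineModel φ) {t : G} (ht : t ∈ φ.range) (ho : orderOf t = 2) :
    ∃ σ : alternatingGroup (Fin 9),
      t = φ (σ * toPermA jInv * σ⁻¹) ∨ t = φ (σ * toPermA iInv * σ⁻¹) := by
  obtain ⟨m, rfl⟩ := ht
  have h2 : m * m = 1 := N.inj (by rw [map_mul, map_one, ← pow_two, ← ho, pow_orderOf_eq_one])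
  have h1 : m ≠ 1 := by
    rintro rfl
    rw [map_one, orderOf_one] at ho
    omega
  rcases involution_cases m h2 h1 with ⟨σ, h⟩ | ⟨σ, h⟩
  · exact ⟨σ, Or.inl (by rw [h])⟩
  · exact ⟨σ, Or.inr (by rw [h])⟩

theorem NineModel.range_eq_top (N : NineModel φ) : φ.range = ⊤ := by
  by_contra hne
  set M := φ.range
  have hinv2 : ∀ x : Q, x * x = 1 → x ≠ 1 → orderOf (φ (toPermA x)) = 2 := fun x h2 h1 =>
    orderOf_eq_prime (hp := ⟨Nat.prime_two⟩)
      (by rw [pow_two, ← map_mul, ← map_mul, h2, map_one, map_one])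
      fun h => h1 (N.setting.inj (h.trans (map_one _).symm))
  obtain ⟨-, -, -, -, -, -, i2, i1, -, j2, j1⟩ := axes_facts
  have hcent : ∀ t ∈ M, orderOf t = 2 → Subgroup.centralizer ({t} : Set G) ≤ M := by
    intro t ht ho g hg
    have hg' : Commute g t := Subgroup.mem_centralizer_singleton_iff.1 hg
    obtain ⟨σ, rfl | rfl⟩ := N.involution ht ho
    · exact commute_transfer (fun g h => N.centralizer_class_j h) hg'
    · exact commute_transfer (fun g h => N.centralizer_class_i h) hg'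
  have hfus : ∀ t ∈ M, ∀ s ∈ M, orderOf t = 2 → orderOf s = 2 → IsConj t s → ∃ h ∈ M, h * t * h⁻¹ = s := by
    intro t ht s hs hto hso hc
    obtain ⟨g, rfl⟩ := isConj_iff.1 hc
    obtain ⟨τ, h⟩ := N.involution hs hso
    obtain ⟨σ, rfl | rfl⟩ := N.involution ht hto <;> rcases h with h | h
    · exact ⟨φ (τ * σ⁻¹), ⟨_, rfl⟩, by rw [h, ← map_inv, ← map_mul, ← map_mul]; congr 1; group⟩
    · exfalso
      refine N.sep ((φ σ)⁻¹ * g⁻¹ * φ τ) ?_
      calc (φ σ)⁻¹ * g⁻¹ * φ τ * φ (toPermA iInv) * ((φ σ)⁻¹ * g⁻¹ * φ τ)⁻¹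
          = (φ σ)⁻¹ * g⁻¹ * φ (τ * toPermA iInv * τ⁻¹) * g * φ σ := by rw [map_mul, map_mul, map_inv]; group
        _ = _ := by rw [← h, map_mul, map_mul, map_inv]; group
    · exfalso
      refine N.sep ((φ τ)⁻¹ * g * φ σ) ?_
      calc (φ τ)⁻¹ * g * φ σ * φ (toPermA iInv) * ((φ τ)⁻¹ * g * φ σ)⁻¹
          = (φ τ)⁻¹ * (g * φ (σ * toPermA iInv * σ⁻¹) * g⁻¹) * φ τ := by
            rw [map_mul, map_mul, map_inv]; group
        _ = _ := by rw [h, map_mul, map_mul, map_inv]; group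
    · exact ⟨φ (τ * σ⁻¹), ⟨_, rfl⟩, by rw [h, ← map_inv, ← map_mul, ← map_mul]; congr 1; group⟩
  have heven : Even (Nat.card M) := by
    rw [← Nat.card_congr (MonoidHom.ofInjective N.inj).toEquiv, card_model_alt]
    exact ⟨90720, rfl⟩
  have hse := (S0223.result M hne heven).2 ⟨hcent, hfus⟩
  obtain ⟨u, hu, huM⟩ : ∃ u, orderOf u = 2 ∧ u ∉ M := by
    by_contra! hall
    refine hne (eq_top_iff.2 fun g _ => ?_)
    obtain ⟨m, hm⟩ := hall (g * φ (toPermA jInv) * g⁻¹)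
      ((Involution.orderOf_conj g _).trans (hinv2 _ j2 j1))
    obtain ⟨σ, hσ⟩ := N.class_j (m := m) (by rw [hm]; exact ⟨g, rfl⟩)
    have e : Commute ((φ σ)⁻¹ * g) (φ (toPermA jInv)) := by
      refine mul_inv_eq_iff_eq_mul.1 ?_
      calc (φ σ)⁻¹ * g * φ (toPermA jInv) * ((φ σ)⁻¹ * g)⁻¹
          = (φ σ)⁻¹ * (g * φ (toPermA jInv) * g⁻¹) * φ σ := by group
        _ = _ := by rw [← hm, ← hσ, map_mul, map_mul, map_inv]; group
    have := M.mul_mem (⟨σ, rfl⟩ : φ σ ∈ M) (N.centralizer_class_j e)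
    rwa [mul_inv_cancel_left] at this
  obtain ⟨-, hall⟩ := S1225.result M hse u hu huM _ _ (hinv2 _ j2 j1) ⟨_, rfl⟩ (hinv2 _ j2 j1) ⟨_, rfl⟩
  obtain ⟨g, hg⟩ := isConj_iff.1 (hall _ _ (hinv2 _ i2 i1) (hinv2 _ j2 j1))
  exact N.sep g hg

universe u

theorem Setting.conclusion {G : Type u} [Group G] [Finite G] {π : Q →* G} (E : Setting π) :
    π.range = ⊤ ∨ Nonempty (G ≃* alternatingGroup (Fin 9)) := by
  have hST : SmithTyrer.{u} := fun K _ _ P h1 h2 h3 =>
    haveI : Fact (Nat.Prime 3) := ⟨Nat.prime_three⟩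
    S3347.result 3 (by norm_num) P h1 h2 h3
  have hb := E.centralizer_b hST
  rcases E.centralizer_a hST with ha | ⟨L, F, ⟨e⟩⟩
  · exact Or.inl (E.range_eq_top ha hb)
  · obtain ⟨ι, S⟩ := E.exists_sextet F e
    obtain ⟨φ, N⟩ := (Frame.mk E S hb).exists_model
    exact Or.inr ⟨((MonoidHom.ofInjective N.inj).trans
      ((MulEquiv.subgroupCongr N.range_eq_top).trans Subgroup.topEquiv)).symm⟩

theorem setting_of_equiv {G : Type*} [Group G] [Finite G] {J H : Subgroup G}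
    (hJcomm : IsMulCommutative J) (hJexp : ∀ a ∈ J, a ^ 3 = 1) (hJcard : Nat.card J = 27)
    (hH : H = Subgroup.normalizer (J : Set G)) {π : Q →* G} (hinj : Function.Injective π)
    (hrange : π.range = H)
    (hcores : ∀ x ∈ H, orderOf x = 3 → Cfsg.pPrimeCore 3 (Subgroup.centralizer ({x} : Set G)) = ⊥) :
    Setting π := by
  have hJH : J ≤ π.range := by rw [hrange, hH]; exact Subgroup.le_normalizer
  set A := J.comap π
  have hAJ : A.map π = J := Subgroup.map_comap_eq_self hJH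
  have hAn : ∀ x ∈ A, ∀ q : Q, q * x * q⁻¹ ∈ A := by
    intro x hx q
    have hq : π q ∈ Subgroup.normalizer (J : Set G) := by rw [← hH, ← hrange]; exact ⟨q, rfl⟩
    show π (q * x * q⁻¹) ∈ J
    rw [map_mul, map_mul, map_inv]
    exact (Subgroup.mem_normalizer_iff.1 hq _).1 hx
  have hA3 : ∀ x ∈ A, x * x * x = 1 := fun x hx => hinj (by
    rw [map_mul, map_mul, map_one, ← hJexp _ hx, pow_succ, pow_two])
  have hAp : A = plane := by
    refine Subgroup.eq_of_le_of_card_ge (fun x hx => ?_) ?_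
    · by_contra hxr
      rw [mem_plane] at hxr
      have h9 : ∀ z : Q, z * z * z = 1 → z * z * z * (z * z * z) * (z * z * z) = 1 := fun z h => by
        rw [h, mul_one, mul_one]
      refine normal_three x (h9 _ (hA3 x hx)) hxr (h9 _ (hA3 _ ?_))
      have : x * vAxis * x⁻¹ * vAxis⁻¹ = x * (vAxis * x⁻¹ * vAxis⁻¹) := by group
      rw [this]
      exact A.mul_mem hx (hAn _ (A.inv_mem hx) vAxis)
    · rw [card_plane, ← hJcard, ← hAJ, Subgroup.card_map_of_injective hinj]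
  refine ⟨hinj, fun g hg => ?_, fun x hx hx1 => ?_⟩
  · rw [hrange, hH]
    have hle : J.map (MulAut.conj g).toMonoidHom ≤ J := by
      rintro _ ⟨a, ha, rfl⟩
      rw [← hAJ, hAp] at ha
      obtain ⟨v, hv, rfl⟩ := ha
      obtain ⟨w, hw, e⟩ := hg v hv
      have hwA : w ∈ A := hAp ▸ (hw : w ∈ plane)
      show g * π v * g⁻¹ ∈ J
      rw [← e]
      exact hwA
    exact Subgroup.mem_normalizer_iff_map_conj_eq.2 (Subgroup.eq_of_le_of_card_ge hle
      (Subgroup.card_map_of_injective (MulAut.conj g).injective).ge)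
  · have : Fact (Nat.Prime 3) := ⟨Nat.prime_three⟩
    refine hcores _ (hrange ▸ ⟨x, rfl⟩) ?_
    rw [orderOf_injective π hinj]
    exact orderOf_eq_prime (pow_three_of_right hx) hx1

end Cfsg.Agent.AltNineThree
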