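import Cfsg.Agent.Lib.AltNineThree.KleinV
import Cfsg.Agent.S2911

/-!
# The centralizer of the four group on four points is not small

* `Setting.not_conj_inv`, `Frame.not_conj_inv`: the two classes of involutions of the model stay apart
* `Frame.eq_top_of_index_two`: a subgroup of index two is impossible
* `Frame.wU_mem`: the small possibility gives a Sylow two-subgroup `2 × D8`, hence a subgroup of index two
-/

set_option autoImplicit false

namespace Cfsg.Agent.AltNineThree

open Cfsg Cfsg.Agent.ThreeCubedSymFour Equiv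

/-- `2 × D8`. -/
abbrev TwoEight : Type := Multiplicative (ZMod 2) × DihedralGroup 4

/-- The rotation of four points. -/
def dRot : Perm (Fin 6) := swap 0 2 * swap 2 1 * swap 1 3

/-- The image of an element of `D8`. -/
def dVal : DihedralGroup 4 → Perm (Fin 6)
  | .r i => dRot ^ i.val
  | .sr i => swap 0 1 * dRot ^ i.val

/-- `2 × D8` on four points and two points. -/
def dHom : TwoEight →* Perm (Fin 6) :=
  MonoidHom.mk' (fun m => swap 4 5 ^ m.1.toAdd.val * dVal m.2) (by decide +kernel)

/-- The elements of `2 × D8` with three transpositions. -/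
def iList : List TwoEight :=
  [(Multiplicative.ofAdd 1, .r 2), (Multiplicative.ofAdd 1, .sr 1), (Multiplicative.ofAdd 1, .sr 3)]

theorem dHom_injective : Function.Injective dHom := by
  have h : ∀ m : TwoEight, dHom m = 1 → m = 1 := by decide +kernel
  exact (injective_iff_map_eq_one dHom).2 h

theorem dHom_class : ∀ m : TwoEight, m * m = 1 → m ≠ 1 → m ∉ iList →
    ∃ g : Perm (Fin 6), g * dHom m = swap 0 1 * swap 3 4 * g ∨ g * dHom m = swap 0 1 * g := by
  decide +kernel

theorem dHom_iList : ∀ m ∈ iList, m * m = 1 ∧ m ≠ 1 ∧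
    ∃ g : Perm (Fin 6), g * dHom m = swap 0 3 * swap 1 4 * swap 2 5 * g := by
  decide +kernel

theorem dHom_products : (∀ a ∈ iList, ∀ b ∈ iList,
      dHom a * dHom b = 1 ∨ dHom a * dHom b = vA ∨ dHom a * dHom b = vB ∨ dHom a * dHom b = vA * vB) ∧
    ∀ v ∈ ([1, vA, vB, vA * vB] : List (Perm (Fin 6))), ∃ a ∈ iList, ∃ b ∈ iList, dHom a * dHom b = v := by
  decide +kernel

set_option synthInstance.maxSize 4000 in
theorem inv_facts : jInv * last = last * jInv ∧ iInv * bAx = bAx * iInv ∧
    weight last = 1 ∧ weight bAx = 2 ∧ weight (bAx * bAx) = 2 ∧ last ≠ 1 ∧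
    (∀ v : Multiplicative V3, iInv * SemidirectProduct.inl v = SemidirectProduct.inl v * iInv →
      (SemidirectProduct.inl v : Q) = 1 ∨ (SemidirectProduct.inl v : Q) = bAx ∨
        (SemidirectProduct.inl v : Q) = bAx * bAx) := by
  decide +kernel

theorem mon_cover : ∀ m : Mon, ∃ v ∈ ([1, jInv, flipPair, sideFlip] : List Q), ∃ k : Fin 3, ∃ e : Fin 2,
    (v * rotQ ^ (k : ℕ) * exchPair ^ (e : ℕ)).right = m := by
  decide +kernel

theorem rot_right_cube : (rotQ * rotQ * rotQ).right = 1 := by decide +kernel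

variable {G : Type*} [Group G]

theorem card_centralizer_map (U : Subgroup G) (f : G ≃* G) :
    Nat.card (Subgroup.centralizer (U.map f.toMonoidHom : Set G)) =
      Nat.card (Subgroup.centralizer (U : Set G)) := by
  rw [Nat.card_congr (f.subgroupMap (Subgroup.centralizer (U : Set G))).toEquiv]
  congr 1
  refine congrArg (fun H : Subgroup G => (H : Type _)) ?_
  ext g
  simp only [Subgroup.mem_centralizer_iff, Subgroup.mem_map, Subgroup.coe_map, Set.mem_image, SetLike.mem_coe]
  constructor
  · intro h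
    refine ⟨f.symm g, fun u hu => ?_, f.apply_symm_apply g⟩
    have := congrArg f.symm (h (f u) ⟨u, hu, rfl⟩)
    simpa using this
  · rintro ⟨x, hx, rfl⟩ _ ⟨u, hu, rfl⟩
    show f u * f x = f x * f u
    rw [← map_mul, ← map_mul, hx u hu]

/-- The normalizer of a four group. -/
theorem card_normalizer_four [Finite G] {U : Subgroup G} (hU : Nat.card U = 4) :
    Nat.card (Subgroup.normalizer (U : Set G)) ∣ Nat.card (Subgroup.centralizer (U : Set G)) * 6 := by
  classical
  let Ω := {x : U // x ≠ 1}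
  let ρ : MulAut U →* Perm Ω :=
    { toFun := fun f => f.toEquiv.subtypeEquiv fun x => (not_congr f.map_eq_one_iff).symm
      map_one' := rfl
      map_mul' := fun _ _ => rfl }
  have hρ : Function.Injective ρ := fun f g h => MulEquiv.ext fun x => by
    by_cases hx : x = 1
    · rw [hx, map_one, map_one]
    · exact congrArg Subtype.val (DFunLike.congr_fun h (⟨x, hx⟩ : Ω))
  have hΩ : Nat.card (Perm Ω) = 6 := by
    haveI := Fintype.ofFinite U
    rw [Nat.card_perm, Nat.card_eq_fintype_card, Fintype.card_subtype_compl, Fintype.card_subtype_eq,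
      ← Nat.card_eq_fintype_card, hU]
    rfl
  have hd : Nat.card U.normalizerMonoidHom.range ∣ 6 :=
    hΩ ▸ (Subgroup.card_dvd_of_injective (ρ.comp U.normalizerMonoidHom.range.subtype)
      (hρ.comp Subtype.val_injective))
  rw [← Subgroup.card_mul_index U.normalizerMonoidHom.ker, Subgroup.index_ker,
    Subgroup.normalizerMonoidHom_ker]
  exact Nat.mul_dvd_mul (dvd_of_eq (Cores.card_subgroupOf (Subgroup.centralizer_le_normalizer _))) hd

variable [Finite G] {π : Q →* G} {ι : Perm (Fin 6) →* G}

theorem Setting.not_conj_inv (E : Setting π)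
    (hcb : Subgroup.centralizer ({π bAx} : Set G) ≤ π.range) (g : G) : g * π iInv * g⁻¹ ≠ π jInv := by
  intro h
  have : Fact (Nat.Prime 3) := ⟨Nat.prime_three⟩
  obtain ⟨hjl, hib, wl, wb, wbb, hl1, hfix⟩ := inv_facts
  set C := Subgroup.centralizer ({π iInv} : Set G)
  let b : C := ⟨π bAx, Subgroup.mem_centralizer_singleton_iff.2 (by rw [← map_mul, ← map_mul, hib])⟩
  have hb3 : b ^ 3 = 1 := Subtype.ext (by
    rw [Subgroup.coe_pow]; show π bAx ^ 3 = 1; rw [← map_pow, pow_three_of_right rfl, map_one])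
  have hp : IsPGroup 3 (Subgroup.zpowers b) := fun ⟨y, k, hk⟩ => ⟨1, Subtype.ext (by
    rw [Subgroup.coe_pow, Subgroup.coe_one, pow_one]
    show y ^ 3 = 1
    rw [← hk]; dsimp only; rw [← zpow_natCast, ← zpow_mul, mul_comm, zpow_mul, zpow_natCast, hb3, one_zpow])⟩
  obtain ⟨P, hP⟩ := hp.exists_le_sylow
  have hbP : b ∈ (P : Subgroup C) := hP (Subgroup.mem_zpowers _)
  have key : ∀ y : C, y ∈ (P : Subgroup C) → Commute y b → y = 1 ∨ y = b ∨ y = b * b := by
    intro y hy hyb
    obtain ⟨z, hz⟩ := hcb (Subgroup.mem_centralizer_singleton_iff.2 (congrArg Subtype.val hyb.eq) :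
      (y : G) ∈ Subgroup.centralizer ({π bAx} : Set G))
    obtain ⟨n, hn⟩ := P.isPGroup' ⟨y, hy⟩
    have hn' : y ^ 3 ^ n = 1 := congrArg Subtype.val hn
    have hzb : z * bAx = bAx * z := E.inj (by
      rw [map_mul, map_mul, hz]; exact congrArg Subtype.val hyb.eq)
    have hzr : z.right = 1 := three_in_centralizer_b z hzb (nine_of_pow (n := n) (E.inj (by
      rw [map_pow, hz, map_one, ← Subgroup.coe_pow, hn', Subgroup.coe_one])))
    have e : z = SemidirectProduct.inl z.left := SemidirectProduct.ext rfl (by simpa using hzr)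
    have hzi : iInv * z = z * iInv := E.inj (by
      rw [map_mul, map_mul, hz]; exact (Subgroup.mem_centralizer_singleton_iff.1 y.2).symm)
    rw [e] at hzi hz
    rcases hfix z.left hzi with h1 | h1 | h1 <;> rw [h1] at hz
    · exact Or.inl (Subtype.ext (hz.symm.trans (map_one π)))
    · exact Or.inr (Or.inl (Subtype.ext hz.symm))
    · exact Or.inr (Or.inr (Subtype.ext (hz.symm.trans (map_mul π _ _))))
  have hbne : (⟨b, hbP⟩ : (P : Subgroup C)) ≠ 1 := fun e => axes_facts.2.2.2.2.1
    (E.inj ((congrArg (fun x : (P : Subgroup C) => ((x : C) : G)) e).trans (map_one π).symm))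
  haveI : Nontrivial (P : Subgroup C) := ⟨⟨b, hbP⟩, 1, hbne⟩
  haveI := P.isPGroup'.center_nontrivial
  obtain ⟨⟨z, hzc⟩, hz1⟩ := exists_ne (1 : Subgroup.center (P : Subgroup C))
  have hzb : Commute (z : C) b :=
    congrArg Subtype.val (Subgroup.mem_center_iff.1 hzc ⟨b, hbP⟩).symm
  have hbc : ∀ y ∈ (P : Subgroup C), Commute y b := by
    intro y hy
    have hyz : Commute y (z : C) := congrArg Subtype.val (Subgroup.mem_center_iff.1 hzc ⟨y, hy⟩)
    rcases key _ z.2 hzb with e | e | e
    · exact absurd (Subtype.ext (Subtype.ext e)) hz1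
    · exact e ▸ hyz
    · have h4 : (z : C) * (z : C) = b := by
        rw [e, show b * b * (b * b) = b ^ 3 * b by simp only [pow_succ, pow_zero, one_mul, mul_assoc],
          hb3, one_mul]
      exact h4 ▸ hyz.mul_right hyz
  let x : C := ⟨g⁻¹ * π last * g, Subgroup.mem_centralizer_singleton_iff.2 (by
    have e : π iInv = g⁻¹ * π jInv * g := by rw [← h]; group
    rw [e]
    calc g⁻¹ * π last * g * (g⁻¹ * π jInv * g) = g⁻¹ * π (last * jInv) * g := by rw [map_mul]; group
      _ = _ := by rw [← hjl, map_mul]; group)⟩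
  have hx3 : x ^ 3 = 1 := Subtype.ext (by
    rw [Subgroup.coe_pow]
    show (g⁻¹ * π last * g) ^ 3 = 1
    have := conj_pow (i := 3) (a := g⁻¹) (b := π last)
    rw [inv_inv] at this
    rw [this, ← map_pow, pow_three_of_right rfl, map_one, mul_one, inv_mul_cancel])
  have hpx : IsPGroup 3 (Subgroup.zpowers x) := fun ⟨y, k, hk⟩ => ⟨1, Subtype.ext (by
    rw [Subgroup.coe_pow, Subgroup.coe_one, pow_one]
    show y ^ 3 = 1
    rw [← hk]; dsimp only; rw [← zpow_natCast, ← zpow_mul, mul_comm, zpow_mul, zpow_natCast, hx3, one_zpow])⟩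
  obtain ⟨T, hT⟩ := hpx.exists_le_sylow
  obtain ⟨c, hc⟩ := MulAction.exists_smul_eq C T P
  have hcx : c * x * c⁻¹ ∈ (P : Subgroup C) := by
    rw [← hc]; exact ⟨x, hT (Subgroup.mem_zpowers _), rfl⟩
  have e : ((c * x * c⁻¹ : C) : G) = (c : G) * g⁻¹ * π last * ((c : G) * g⁻¹)⁻¹ := by
    simp [x, mul_assoc]
  rcases key _ hcx (hbc _ hcx) with h1 | h1 | h1 <;> rw [h1] at e
  · exact hl1 (E.inj (by
      rw [map_one]
      have e' := congrArg (fun y => ((c : G) * g⁻¹)⁻¹ * y * ((c : G) * g⁻¹)) e.symm
      simpa [mul_assoc] using e'))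
  · exact E.not_conj_weight (x := last) (y := bAx) rfl rfl (by rw [wl, wb]; norm_num) _ e.symm
  · exact E.not_conj_weight (x := last) (y := bAx * bAx) rfl rfl (by rw [wl, wbb]; norm_num) _
      (e.symm.trans (map_mul π _ _).symm)

theorem Frame.not_conj_inv (F : Frame π ι) (g : G) : g * π iInv * g⁻¹ ≠ π jInv :=
  F.setting.not_conj_inv F.cb g

omit [Finite G] in
theorem Frame.even_mem_of_index_two (F : Frame π ι) {K : Subgroup G} (hK : K.index = 2)
    {s : Perm (Fin 6)} (hs : Perm.sign s = 1) : ι s ∈ K := by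
  have h : alternatingGroup (Fin 6) ≤ K.comap ι := by
    rw [← Equiv.Perm.closure_three_cycles_eq_alternating, Subgroup.closure_le]
    intro t ht
    have e : t = t * t * (t * t) := by
      have h3 : t ^ 3 = 1 := ht.orderOf ▸ pow_orderOf_eq_one t
      calc t = t ^ 3 * t := by rw [h3, one_mul]
        _ = _ := by simp only [pow_succ, pow_zero, one_mul, mul_assoc]
    show ι t ∈ K
    rw [e, map_mul]
    exact Subgroup.mul_self_mem_of_index_two hK _
  exact h (Perm.mem_alternatingGroup.2 hs)

/-- There is no subgroup of index two. -/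
theorem Frame.no_index_two (F : Frame π ι) (K : Subgroup G) (hK : K.index = 2) : False := by
  have : Fact (Nat.Prime 3) := ⟨Nat.prime_three⟩
  haveI : K.Normal := Subgroup.normal_of_index_eq_two hK
  have hsq : ∀ {x : G}, x * x ∈ K := fun {x} => Subgroup.mul_self_mem_of_index_two hK x
  have h3 : ∀ v : Q, v.right = 1 → π v ∈ K := by
    intro v hv
    have e : π v = π v * π v * (π v * π v) := by
      calc π v = π v ^ 3 * π v := by rw [← map_pow, pow_three_of_right hv, map_one, one_mul]
        _ = _ := by simp only [pow_succ, pow_zero, one_mul, mul_assoc]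
    rw [e]; exact hsq
  have hconj : ∀ q z : Q, π z ∈ K → π (q * z * q⁻¹) ∈ K := fun q z hz => by
    rw [map_mul, map_mul, map_inv]; exact Subgroup.Normal.conj_mem inferInstance _ hz _
  have hrot : π rotQ ∈ K := by
    have e : rotQ = (rotQ * rotQ) * (rotQ * rotQ) * (rotQ * rotQ * rotQ)⁻¹ := by group
    rw [e, map_mul, map_mul, map_mul π rotQ rotQ]
    exact mul_mem hsq (by rw [map_inv]; exact inv_mem (h3 _ rot_right_cube))
  have hflip : π flipPair ∈ K := by
    rw [← F.sext.flip2]; exact F.even_mem_of_index_two hK (by decide +kernel)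
  have hj : π jInv ∈ K := by
    have := hconj rotQ⁻¹ flipPair hflip
    rwa [show rotQ⁻¹ * flipPair * rotQ⁻¹⁻¹ = jInv by simp [flipPair, mul_assoc]] at this
  have hside : π sideFlip ∈ K := hconj _ _ hj
  have hex : π exchPair ∈ K := by
    have h : ι (swap 0 3 * swap 1 4 * swap 2 5 * swap 0 1) ∈ K :=
      F.even_mem_of_index_two hK (by decide +kernel)
    rw [map_mul, F.sext.exch, F.sext.flip] at h
    exact (K.mul_mem_cancel_right hj).1 h
  have hrange : π.range ≤ K := by
    rintro _ ⟨x, rfl⟩
    obtain ⟨v, hv, k, e, he⟩ := mon_cover x.right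
    set w := v * rotQ ^ (k : ℕ) * exchPair ^ (e : ℕ)
    have hw : π w ∈ K := by
      rw [map_mul, map_mul, map_pow, map_pow]
      refine mul_mem (mul_mem ?_ (pow_mem hrot _)) (pow_mem hex _)
      simp only [List.mem_cons, List.not_mem_nil, or_false] at hv
      rcases hv with rfl | rfl | rfl | rfl
      exacts [by rw [map_one]; exact one_mem _, hj, hflip, hside]
    have : π (x * w⁻¹) ∈ K := h3 _ (by
      rw [SemidirectProduct.mul_right, SemidirectProduct.inv_right, he, mul_inv_cancel])
    rw [map_mul, map_inv] at this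
    exact (K.mul_mem_cancel_right (inv_mem hw)).1 this
  have hS : (F.setting.syl : Subgroup G) ≤ K := (Subgroup.map_le_range _ _).trans hrange
  have h := Sylow.normalizer_sup_eq_top (F.setting.syl.subtype hS)
  rw [show ((F.setting.syl.subtype hS : Sylow 3 K) : Subgroup K).map K.subtype =
    (F.setting.syl : Subgroup G) by
      rw [Sylow.coe_subtype, Subgroup.subgroupOf_map_subtype, inf_of_le_left hS]] at h
  have htop : K = ⊤ := top_le_iff.1 (h ▸ sup_le (F.setting.normalizer_syl_le.trans hrange) le_rfl)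
  rw [htop, Subgroup.index_top] at hK
  norm_num at hK

omit [Finite G] in
theorem Frame.class_of_involution (F : Frame π ι) {m : TwoEight} (h2 : m * m = 1) (h1 : m ≠ 1)
    (hm : m ∉ iList) : ∃ g : G, g * iotaLast π ι (dHom m) * g⁻¹ = π jInv := by
  obtain ⟨g, h | h⟩ := dHom_class m h2 h1 hm
  · refine ⟨iotaLast π ι g, ?_⟩
    rw [← map_inv, ← map_mul, ← map_mul, h, mul_inv_cancel_right, F.last_flip2]
  · refine ⟨(π (rotQ * rotQ))⁻¹ * iotaLast π ι g, ?_⟩
    calc _ = (π (rotQ * rotQ))⁻¹ * iotaLast π ι (g * dHom m * g⁻¹) * π (rotQ * rotQ) := by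
          rw [map_mul (iotaLast π ι), map_mul (iotaLast π ι), map_inv]; group
      _ = _ := by
          rw [h, mul_inv_cancel_right, F.last_flip, ← map_inv, ← map_mul, ← map_mul]
          exact congrArg π (by simp [sideFlip, mul_assoc])

/-- A two-group normalizing `2 × D8` normalizes the four group. -/
theorem Frame.normalizes_kV (F : Frame π ι) {g : G}
    (hg : ∀ y ∈ ((iotaLast π ι).comp dHom).range, g * y * g⁻¹ ∈ ((iotaLast π ι).comp dHom).range) :
    ∀ u ∈ kV.map (iotaLast π ι), g * u * g⁻¹ ∈ kV.map (iotaLast π ι) := by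
  obtain ⟨hprod, hsplit⟩ := dHom_products
  have hI : ∀ a ∈ iList, ∃ b ∈ iList,
      g * iotaLast π ι (dHom a) * g⁻¹ = iotaLast π ι (dHom b) := by
    intro a ha
    obtain ⟨b, hb⟩ := hg _ ⟨a, rfl⟩
    have hb' : iotaLast π ι (dHom b) = g * iotaLast π ι (dHom a) * g⁻¹ := hb
    obtain ⟨a2, a1, σ, hσ⟩ := dHom_iList a ha
    refine ⟨b, ?_, hb'.symm⟩
    by_contra hbI
    have hinj : Function.Injective ((iotaLast π ι).comp dHom) := F.last_inj.comp dHom_injective
    have b2 : b * b = 1 := hinj (by
      show iotaLast π ι (dHom (b * b)) = _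
      rw [map_one, map_mul, map_mul, hb']
      calc g * iotaLast π ι (dHom a) * g⁻¹ * (g * iotaLast π ι (dHom a) * g⁻¹)
          = g * iotaLast π ι (dHom (a * a)) * g⁻¹ := by rw [map_mul, map_mul]; group
        _ = 1 := by rw [a2, map_one, map_one, mul_one, mul_inv_cancel])
    have b1 : b ≠ 1 := fun e => a1 (hinj (by
      show iotaLast π ι (dHom a) = _
      rw [map_one]
      rw [e, map_one, map_one] at hb'
      calc iotaLast π ι (dHom a) = g⁻¹ * (g * iotaLast π ι (dHom a) * g⁻¹) * g := by group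
        _ = 1 := by rw [← hb']; group))
    obtain ⟨k, hk⟩ := F.class_of_involution b2 b1 hbI
    refine F.not_conj_inv (k * g * (iotaLast π ι σ)⁻¹) ?_
    rw [← hk, hb', ← F.last_exch, show swap 0 3 * swap 1 4 * swap 2 5 = σ * dHom a * σ⁻¹ by
      rw [hσ, mul_inv_cancel_right], map_mul (iotaLast π ι), map_mul (iotaLast π ι), map_inv]
    group
  rintro _ ⟨v, hv, rfl⟩
  obtain ⟨a, ha, b, hb, rfl⟩ := hsplit v (by rcases mem_kV.1 hv with rfl | rfl | rfl | rfl <;> simp)
  obtain ⟨a', ha', ea⟩ := hI a ha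
  obtain ⟨b', hb', eb⟩ := hI b hb
  refine ⟨dHom a' * dHom b', mem_kV.2 (hprod a' ha' b' hb'), ?_⟩
  rw [map_mul, map_mul, ← ea, ← eb]
  group

/-- The small case gives a Sylow two-subgroup. -/
theorem Frame.eq_twoEight (F : Frame π ι) (h : ∀ s ∈ F.sSet, s ∈ wSmall) {R : Subgroup G}
    (hR : IsPGroup 2 R) (hle : ((iotaLast π ι).comp dHom).range ≤ R) :
    R = ((iotaLast π ι).comp dHom).range := by
  have : Fact (Nat.Prime 2) := ⟨Nat.prime_two⟩
  haveI := hR.isNilpotent
  set T := ((iotaLast π ι).comp dHom).range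
  by_contra hne
  have hlt : T.subgroupOf R < ⊤ := lt_top_iff_ne_top.2 fun e =>
    hne (le_antisymm (Subgroup.subgroupOf_eq_top.1 e) hle)
  have h1 := normalizerCondition_of_isNilpotent (G := R) _ hlt
  set U := kV.map (iotaLast π ι)
  set N := (Subgroup.normalizer (T.subgroupOf R : Set R)).map R.subtype
  have hNU : N ≤ Subgroup.normalizer (U : Set G) := by
    rintro _ ⟨r, hr, rfl⟩
    have key : ∀ r : R, r ∈ Subgroup.normalizer (T.subgroupOf R : Set R) →
        ∀ u ∈ U, (r : G) * u * (r : G)⁻¹ ∈ U := fun r hr =>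
      F.normalizes_kV fun y hy => (Subgroup.mem_normalizer_iff.1 hr ⟨y, hle hy⟩).1 hy
    refine Subgroup.mem_normalizer_iff.2 fun u => ⟨key r hr u, fun hu => ?_⟩
    have := key r⁻¹ (inv_mem hr) _ hu
    simpa [mul_assoc] using this
  have hcard : Nat.card T = 16 := by
    rw [← Nat.card_congr (MonoidHom.ofInjective
      (f := (iotaLast π ι).comp dHom) (F.last_inj.comp dHom_injective)).toEquiv]
    simp [Nat.card_prod, DihedralGroup.card]
  have hgt : 16 < Nat.card N := by
    rw [Cores.card_map_subtype]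
    have : Nat.card (T.subgroupOf R) < Nat.card (Subgroup.normalizer (T.subgroupOf R : Set R)) := by
      by_contra hcon
      exact h1.ne (Subgroup.eq_of_le_of_card_ge h1.le (not_lt.1 hcon))
    rwa [Cores.card_subgroupOf hle, hcard] at this
  obtain ⟨n, hn⟩ := ((hR.to_subgroup _).map R.subtype : IsPGroup 2 N).exists_card_eq
  have hd : 2 ^ n ∣ 144 := by
    rw [← hn]
    refine (Subgroup.card_dvd_of_le hNU).trans ((card_normalizer_four (by
      rw [Subgroup.card_map_of_injective F.last_inj, card_kV])).trans ?_)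
    rcases F.card_centralizer_V_small h with e | e <;> rw [e] <;> norm_num
  rw [hn] at hgt
  have h5 : 5 ≤ n := by
    by_contra hn5
    have : 2 ^ n ≤ 2 ^ 4 := Nat.pow_le_pow_right (by norm_num) (by omega)
    norm_num at this
    omega
  have := (pow_dvd_pow 2 h5).trans hd
  norm_num at this

/-- The larger possibility holds. -/
theorem Frame.wU_mem (F : Frame π ι) : ι wU ∈ wGroup π ι := by
  refine F.sSet_cases.resolve_left fun h => ?_
  have hinj : Function.Injective ((iotaLast π ι).comp dHom) := F.last_inj.comp dHom_injective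
  let T : Sylow 2 G :=
    { toSubgroup := ((iotaLast π ι).comp dHom).range
      isPGroup' := by
        refine IsPGroup.of_card (n := 4) ?_
        rw [← Nat.card_congr (MonoidHom.ofInjective hinj).toEquiv]
        simp [Nat.card_prod, DihedralGroup.card]
      is_maximal' := fun hR hle => F.eq_twoEight h hR hle }
  obtain ⟨K, hK⟩ := S2911.result T ⟨(MonoidHom.ofInjective hinj).symm⟩
  exact F.no_index_two K hK

/-- The centralizer of the four group on four points. -/
theorem Frame.card_centralizer_V (F : Frame π ι) :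
    Nat.card (Subgroup.centralizer (kV.map (iotaLast π ι) : Set G)) = 240 :=
  F.card_centralizer_V_big F.wU_mem

end Cfsg.Agent.AltNineThree
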