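import Cfsg.Agent.Lib.AltNineThree.Calc
import Cfsg.Agent.Lib.Cores.Basic
import Cfsg.Agent.EqLemmas

/-!
# The setting of the characterisation of `A9`

* `Setting π`: the image of the model is the normalizer of the space and the cores are trivial
* `Setting.unique`, `Setting.syl`, `Setting.fusion`: Sylow subgroup and fusion in the space
-/

set_option autoImplicit false

namespace Cfsg.Agent.AltNineThree

open Cfsg Cfsg.Agent.ThreeCubedSymFour

/-- The space inside the model. -/
def plane : Subgroup Q := (SemidirectProduct.rightHom : Q →* Mon).ker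

theorem mem_plane (x : Q) : x ∈ plane ↔ x.right = 1 := Iff.rfl

theorem card_plane : Nat.card plane = 27 := by
  have h : plane = (SemidirectProduct.inl : Multiplicative V3 →* Q).range :=
    SemidirectProduct.range_inl_eq_ker_rightHom.symm
  rw [h, ← Nat.card_congr (MonoidHom.ofInjective SemidirectProduct.inl_injective).toEquiv,
    Nat.card_congr Multiplicative.toAdd]
  simp [Nat.card_prod, Nat.card_zmod]

theorem card_sylSub : Nat.card sylSub = 81 := by
  have h : Nat.card {x : Q // x.right.w = false ∧ x.right.s = false ∧ x.right.t = false} = 81 := by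
    rw [Nat.subtype_card (Finset.univ.filter fun x : Q =>
      x.right.w = false ∧ x.right.s = false ∧ x.right.t = false) fun x => by simp]
    decide +kernel
  exact h

theorem card_model : Nat.card Q = 648 := by
  rw [Nat.card_eq_fintype_card]
  decide +kernel

theorem plane_le_sylSub : plane ≤ sylSub := fun x hx => by
  rw [mem_plane] at hx
  rw [mem_sylSub, hx]
  exact ⟨rfl, rfl, rfl⟩

theorem pow_three_of_right {x : Q} (hx : x.right = 1) : x ^ 3 = 1 := by
  rw [pow_succ, pow_two, cube_of_right x hx]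

theorem nine_of_pow {x : Q} {n : ℕ} (hn : x ^ 3 ^ n = 1) :
    x * x * x * (x * x * x) * (x * x * x) = 1 := by
  have h := pow_gcd_eq_one.2 ⟨hn, pow_thirty_six x⟩
  have hd : Nat.gcd (3 ^ n) 36 ∣ 9 := by
    have h1 : Nat.gcd (3 ^ n) 36 ∣ 9 * 4 := Nat.gcd_dvd_right _ _
    refine (Nat.Coprime.dvd_of_dvd_mul_right ?_ h1)
    exact Nat.Coprime.coprime_dvd_left (Nat.gcd_dvd_left _ _) (Nat.Coprime.pow_left n (by norm_num))
  have h9 : x ^ 9 = 1 := by
    obtain ⟨k, hk⟩ := hd
    rw [hk, pow_mul, h, one_pow]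
  rw [← h9]
  simp only [pow_succ, pow_zero, one_mul, mul_assoc]

variable {G : Type*} [Group G]

/-- The hypotheses on an embedding of the model. -/
structure Setting (π : Q →* G) : Prop where
  inj : Function.Injective π
  norm : ∀ g : G, (∀ v : Q, v.right = 1 → ∃ w : Q, w.right = 1 ∧ π w = g * π v * g⁻¹) → g ∈ π.range
  core : ∀ x : Q, x.right = 1 → x ≠ 1 →
    Cfsg.pPrimeCore 3 (Subgroup.centralizer ({π x} : Set G)) = ⊥

variable {π : Q →* G}

theorem centralizer_map_conj {g x : G} (q : Q) (h : g ∈ Subgroup.centralizer ({x} : Set G)) :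
    π q * g * (π q)⁻¹ ∈ Subgroup.centralizer ({π q * x * (π q)⁻¹} : Set G) := by
  rw [Subgroup.mem_centralizer_singleton_iff] at h ⊢
  calc π q * g * (π q)⁻¹ * (π q * x * (π q)⁻¹) = π q * (g * x) * (π q)⁻¹ := by group
    _ = π q * (x * g) * (π q)⁻¹ := by rw [h]
    _ = _ := by group

theorem centralizer_le_range_conj {x : Q} (q : Q)
    (h : Subgroup.centralizer ({π x} : Set G) ≤ π.range) :
    Subgroup.centralizer ({π (q * x * q⁻¹)} : Set G) ≤ π.range := by
  intro g hg
  have e : π x = π q⁻¹ * π (q * x * q⁻¹) * (π q⁻¹)⁻¹ := by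
    simp only [map_mul, map_inv]; group
  have := h (e ▸ centralizer_map_conj q⁻¹ hg)
  have h2 := mul_mem (mul_mem (⟨q, rfl⟩ : π q ∈ π.range) this) (inv_mem (⟨q, rfl⟩ : π q ∈ π.range))
  simpa [mul_assoc] using h2

theorem mem_plane_map {y : Q} (hinj : Function.Injective π) :
    π y ∈ plane.map π ↔ y.right = 1 :=
  ⟨by rintro ⟨z, hz, e⟩; exact hinj e ▸ hz, fun h => Subgroup.mem_map_of_mem π h⟩

theorem plane_map_comm {g h : G} (hg : g ∈ plane.map π) (hh : h ∈ plane.map π) : g * h = h * g := by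
  obtain ⟨x, hx, rfl⟩ := hg
  obtain ⟨y, hy, rfl⟩ := hh
  rw [← map_mul, ← map_mul, comm_of_right x y hx hy]

theorem isPGroup_sylSub_map : IsPGroup 3 (sylSub.map π) :=
  (IsPGroup.of_card (p := 3) (n := 4) (card_sylSub.trans (by norm_num))).map π

variable (E : Setting π)
include E

theorem Setting.card_plane_map : Nat.card (plane.map π) = 27 := by
  rw [← Nat.card_congr (plane.equivMapOfInjective π E.inj).toEquiv, card_plane]

theorem Setting.card_syl_map : Nat.card (sylSub.map π) = 81 := by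
  rw [← Nat.card_congr (sylSub.equivMapOfInjective π E.inj).toEquiv, card_sylSub]

theorem Setting.mem_plane_of_cent {g : G} (h : ∀ v : Q, v.right = 1 → g * π v = π v * g) :
    g ∈ plane.map π := by
  obtain ⟨x, rfl⟩ := E.norm g fun v hv => ⟨v, hv, by rw [h v hv, mul_inv_cancel_right]⟩
  refine (mem_plane_map E.inj).2 (right_of_comm_plane x ?_ ?_ ?_) <;>
    exact E.inj (by rw [map_mul, map_mul, h _ rfl])

theorem Setting.mem_range_of_map {g : G}
    (h : ∀ z ∈ plane.map π, g * z * g⁻¹ ∈ plane.map π) : g ∈ π.range :=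
  E.norm g fun v hv => by
    obtain ⟨w, hw, e⟩ := h _ ((mem_plane_map E.inj).2 hv)
    exact ⟨w, hw, e⟩

variable [Finite G]

theorem Setting.unique_in_syl {A : Subgroup G} (hA : A ≤ sylSub.map π) (hcard : Nat.card A = 27)
    (hcomm : ∀ a ∈ A, ∀ b ∈ A, a * b = b * a) : A = plane.map π := by
  set A' := A.comap π
  have hmap : A'.map π = A := Subgroup.map_comap_eq_self (hA.trans (Subgroup.map_le_range _ _))
  have hA' : A' ≤ sylSub := fun x hx => by
    obtain ⟨y, hy, e⟩ := hA (Subgroup.mem_comap.1 hx)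
    exact E.inj e ▸ hy
  have hc' : Nat.card A' = 27 := by
    rw [Nat.card_congr (A'.equivMapOfInjective π E.inj).toEquiv, hmap, hcard]
  refine Subgroup.eq_of_le_of_card_ge ?_ (by rw [hcard, E.card_plane_map])
  rw [← hmap]
  refine Subgroup.map_mono fun x hx => ?_
  by_contra hxr
  rw [mem_plane] at hxr
  obtain ⟨xw, xs, xt⟩ := hA' hx
  have hsmall : ∀ y ∈ A', y ∈ plane → y = 1 ∨ y = cAx ∨ y = cAx * cAx := by
    intro y hy hyp
    have e : y = SemidirectProduct.inl y.left := SemidirectProduct.ext rfl (by simpa [mem_plane] using hyp)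
    have hc : x * y = y * x := E.inj (by rw [map_mul, map_mul]; exact hcomm _ hx _ hy)
    rw [e] at hc ⊢
    exact comm_out x xw xs xt hxr y.left hc
  let f : A' →* Mon := (SemidirectProduct.rightHom : Q →* Mon).comp A'.subtype
  have hker : Nat.card f.ker ≤ 3 := by
    rw [Nat.card_congr (f.ker.equivMapOfInjective A'.subtype A'.subtype_injective).toEquiv]
    refine le_trans (Nat.card_mono (t := ({1, cAx, cAx * cAx} : Set Q)) (Set.toFinite _) ?_) ?_
    · rintro _ ⟨y, hy, rfl⟩
      rcases hsmall y y.2 hy with e | e | e <;> simp [e]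
    · rw [Nat.card_coe_set_eq]
      exact le_trans (Set.ncard_insert_le _ _) (Nat.succ_le_succ
        (le_trans (Set.ncard_insert_le _ _) (by rw [Set.ncard_singleton])))
  have hrange : Nat.card f.range ≤ 3 := by
    refine le_trans (Nat.card_mono (t := Set.range fun r : ZMod 3 => (⟨r, false, false, false⟩ : Mon))
      (Set.toFinite _) ?_) (le_trans (Finite.card_range_le _) (by simp))
    rintro _ ⟨y, rfl⟩
    obtain ⟨yw, ys, yt⟩ := hA' y.2
    refine ⟨(y : Q).right.r, ?_⟩
    show Mon.mk _ _ _ _ = (y : Q).right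
    rw [show (y : Q).right = ⟨(y : Q).right.r, (y : Q).right.w, (y : Q).right.s, (y : Q).right.t⟩ from rfl,
      yw, ys, yt]
  have hprod : Nat.card f.ker * f.ker.index = Nat.card A' := Subgroup.card_mul_index _
  rw [Subgroup.index_ker, hc'] at hprod
  nlinarith

/-- The Sylow subgroup. -/
theorem Setting.normalizer_syl_le :
    Subgroup.normalizer (sylSub.map π : Set G) ≤ π.range := by
  intro g hg
  refine E.mem_range_of_map fun z hz => ?_
  have e : (plane.map π).map (MulAut.conj g).toMonoidHom = plane.map π := by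
    refine E.unique_in_syl ?_ ?_ ?_
    · rintro _ ⟨z, hz, rfl⟩
      exact (Subgroup.mem_normalizer_iff.1 hg z).1 (Subgroup.map_mono plane_le_sylSub hz)
    · rw [Subgroup.card_map_of_injective (MulAut.conj g).injective, E.card_plane_map]
    · rintro _ ⟨a, ha, rfl⟩ _ ⟨b, hb, rfl⟩
      rw [← map_mul, ← map_mul, plane_map_comm ha hb]
  exact e ▸ ⟨z, hz, rfl⟩

theorem Setting.card_le_of_range {R : Subgroup G} (hR : IsPGroup 3 R) (hle : R ≤ π.range) :
    Nat.card R ≤ 81 := by
  have : Fact (Nat.Prime 3) := ⟨Nat.prime_three⟩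
  obtain ⟨n, hn⟩ := hR.exists_card_eq
  have hd := Subgroup.card_dvd_of_le hle
  rw [hn, ← Nat.card_congr (MonoidHom.ofInjective E.inj).toEquiv, card_model] at hd
  rw [hn]
  have h4 : n ≤ 4 := by
    by_contra h
    have : (3 : ℕ) ^ 5 ∣ 648 := (pow_dvd_pow 3 (by omega : 5 ≤ n)).trans hd
    norm_num at this
  calc 3 ^ n ≤ 3 ^ 4 := Nat.pow_le_pow_right (by norm_num) h4
    _ = 81 := by norm_num

theorem Setting.eq_syl {R : Subgroup G} (hR : IsPGroup 3 R) (hle : sylSub.map π ≤ R) :
    R = sylSub.map π := by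
  have : Fact (Nat.Prime 3) := ⟨Nat.prime_three⟩
  haveI := hR.isNilpotent
  by_contra hne
  set S' := (sylSub.map π).subgroupOf R
  have hlt : S' < ⊤ := lt_top_iff_ne_top.2 fun h =>
    hne (le_antisymm (Subgroup.subgroupOf_eq_top.1 h) hle)
  have h1 := normalizerCondition_of_isNilpotent (G := R) S' hlt
  have hN : (Subgroup.normalizer (S' : Set R)).map R.subtype ≤ π.range := by
    rintro _ ⟨r, hr, rfl⟩
    refine E.normalizer_syl_le (Subgroup.mem_normalizer_iff.2 fun z => ?_)
    refine ⟨fun hz => ?_, fun hz => ?_⟩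
    · exact (Subgroup.mem_normalizer_iff.1 hr ⟨z, hle hz⟩).1 hz
    · have hzR : z ∈ R := by
        have := R.mul_mem (R.mul_mem (R.inv_mem r.2) (hle hz)) r.2
        simpa [mul_assoc] using this
      exact (Subgroup.mem_normalizer_iff.1 hr ⟨z, hzR⟩).2 hz
  have h2 := E.card_le_of_range ((hR.to_subgroup _).map R.subtype) hN
  rw [Cores.card_map_subtype] at h2
  have h3 : Nat.card S' < Nat.card (Subgroup.normalizer (S' : Set R)) := by
    by_contra h
    exact h1.ne (Subgroup.eq_of_le_of_card_ge h1.le (not_lt.1 h))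
  rw [Cores.card_subgroupOf hle, E.card_syl_map] at h3
  omega

/-- The Sylow subgroup of `G`. -/
noncomputable def Setting.syl : Sylow 3 G where
  toSubgroup := sylSub.map π
  isPGroup' := isPGroup_sylSub_map
  is_maximal' := fun hQ hle => E.eq_syl hQ hle

theorem Setting.unique {P A : Subgroup G} (hP : IsPGroup 3 P) (hJ : plane.map π ≤ P) (hA : A ≤ P)
    (hcard : Nat.card A = 27) (hcomm : ∀ a ∈ A, ∀ b ∈ A, a * b = b * a) : A = plane.map π := by
  have : Fact (Nat.Prime 3) := ⟨Nat.prime_three⟩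
  obtain ⟨T, hT⟩ := hP.exists_le_sylow
  obtain ⟨h, hh⟩ := MulAction.exists_smul_eq G T E.syl
  have key : ∀ B : Subgroup G, B ≤ P → Nat.card B = 27 → (∀ a ∈ B, ∀ b ∈ B, a * b = b * a) →
      B.map (MulAut.conj h).toMonoidHom = plane.map π := by
    intro B hB hc hcm
    refine E.unique_in_syl ?_ ?_ ?_
    · rintro _ ⟨z, hz, rfl⟩
      show _ ∈ ((E.syl : Sylow 3 G) : Subgroup G)
      rw [← hh]
      exact ⟨z, hT (hB hz), rfl⟩
    · rw [Subgroup.card_map_of_injective (MulAut.conj h).injective, hc]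
    · rintro _ ⟨a, ha, rfl⟩ _ ⟨b, hb, rfl⟩
      rw [← map_mul, ← map_mul, hcm a ha b hb]
  have e := (key A hA hcard hcomm).trans
    (key _ hJ E.card_plane_map fun a ha b hb => plane_map_comm ha hb).symm
  exact Subgroup.map_injective (MulAut.conj h).injective e

theorem Setting.fusion {x y : Q} (hx : x.right = 1) (hy : y.right = 1) {g : G}
    (h : g * π x * g⁻¹ = π y) : ∃ q : Q, q * x * q⁻¹ = y := by
  have : Fact (Nat.Prime 3) := ⟨Nat.prime_three⟩
  set C := Subgroup.centralizer ({π y} : Set G)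
  have hJC : plane.map π ≤ C := fun z hz =>
    Subgroup.mem_centralizer_singleton_iff.2 (plane_map_comm hz ((mem_plane_map E.inj).2 hy))
  have hJgC : (plane.map π).map (MulAut.conj g).toMonoidHom ≤ C := by
    rintro _ ⟨z, hz, rfl⟩
    refine Subgroup.mem_centralizer_singleton_iff.2 ?_
    rw [← h]
    show MulAut.conj g z * MulAut.conj g (π x) = MulAut.conj g (π x) * MulAut.conj g z
    rw [← map_mul, ← map_mul, plane_map_comm hz ((mem_plane_map E.inj).2 hx)]
  have hJp : IsPGroup 3 (plane.map π) :=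
    IsPGroup.of_card (n := 3) (E.card_plane_map.trans (by norm_num))
  obtain ⟨T, hT⟩ := (hJp.comap_subtype (K := C)).exists_le_sylow
  obtain ⟨T', hT'⟩ := ((hJp.map (MulAut.conj g).toMonoidHom).comap_subtype (K := C)).exists_le_sylow
  obtain ⟨c, hc⟩ := MulAction.exists_smul_eq C T' T
  have hgc : ∀ z ∈ plane.map π, ((c : G) * g) * z * ((c : G) * g)⁻¹ ∈ plane.map π := by
    have e : (plane.map π).map (MulAut.conj ((c : G) * g)).toMonoidHom = plane.map π := by
      refine E.unique (P := (T : Subgroup C).map C.subtype) (T.isPGroup'.map _)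
        (fun z hz => ⟨⟨z, hJC hz⟩, hT hz, rfl⟩) ?_ ?_ ?_
      · rintro _ ⟨z, hz, rfl⟩
        have hm : MulAut.conj g z ∈ (plane.map π).map (MulAut.conj g).toMonoidHom := ⟨z, hz, rfl⟩
        refine ⟨c * ⟨_, hJgC hm⟩ * c⁻¹, ?_, ?_⟩
        · rw [← hc]; exact ⟨⟨_, hJgC hm⟩, hT' hm, rfl⟩
        · simp [MulAut.conj_apply, mul_assoc]
      · rw [Subgroup.card_map_of_injective (MulAut.conj _).injective, E.card_plane_map]
      · rintro _ ⟨a, ha, rfl⟩ _ ⟨b, hb, rfl⟩
        rw [← map_mul, ← map_mul, plane_map_comm ha hb]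
    exact fun z hz => e ▸ ⟨z, hz, rfl⟩
  obtain ⟨q, hq⟩ := E.mem_range_of_map hgc
  refine ⟨q, E.inj ?_⟩
  have hcy := Subgroup.mem_centralizer_singleton_iff.1 c.2
  rw [map_mul, map_mul, map_inv, hq]
  calc (c : G) * g * π x * ((c : G) * g)⁻¹ = c * (g * π x * g⁻¹) * (c : G)⁻¹ := by group
    _ = π y := by rw [h, hcy, mul_inv_cancel_right]

theorem Setting.not_conj_weight {x y : Q} (hx : x.right = 1) (hy : y.right = 1)
    (hw : weight x ≠ weight y) (g : G) : g * π x * g⁻¹ ≠ π y := fun h => by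
  obtain ⟨q, hq⟩ := E.fusion hx hy h
  exact hw (by rw [← hq, weight_conj x q hx])

/-- A three-subgroup over the space inside the centralizer of an axis of weight one or two is the space. -/
theorem Setting.eq_plane_of_le {x : Q} (hC : ∀ z : Q, z * x = x * z →
      z * z * z * (z * z * z) * (z * z * z) = 1 → z.right = 1)
    {R : Subgroup G} (hR : IsPGroup 3 R) (hle : plane.map π ≤ R)
    (hRC : R ≤ Subgroup.centralizer ({π x} : Set G)) : R = plane.map π := by
  have : Fact (Nat.Prime 3) := ⟨Nat.prime_three⟩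
  haveI := hR.isNilpotent
  by_contra hne
  set S' := (plane.map π).subgroupOf R
  have hlt : S' < ⊤ := lt_top_iff_ne_top.2 fun h =>
    hne (le_antisymm (Subgroup.subgroupOf_eq_top.1 h) hle)
  have h1 := normalizerCondition_of_isNilpotent (G := R) S' hlt
  obtain ⟨r, hr, hr'⟩ := SetLike.exists_of_lt h1
  obtain ⟨z, hz⟩ := E.mem_range_of_map (g := (r : G)) fun v hv =>
    (Subgroup.mem_normalizer_iff.1 hr ⟨v, hle hv⟩).1 hv
  obtain ⟨n, hn⟩ := hR r
  refine hr' ?_
  show (r : G) ∈ plane.map π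
  rw [← hz]
  refine (mem_plane_map E.inj).2 (hC z (E.inj ?_) (nine_of_pow (n := n) (E.inj ?_)))
  · rw [map_mul, map_mul, hz]
    exact Subgroup.mem_centralizer_singleton_iff.1 (hRC r.2)
  · rw [map_pow, hz, map_one]
    simpa using congrArg Subtype.val hn

end Cfsg.Agent.AltNineThree
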