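import Cfsg.Agent.Lib.AltNineThree.Centralizers
import Cfsg.Agent.Lib.AltNineThree.ExoticSix

/-!
# The symmetric group of degree six normalizing a block cycle

* `Sextet π ι`: `ι : S6 → G` on the points of two blocks, compatible with the model
* `Setting.exists_sextet`: it exists when the factor is alternating of degree six
-/

set_option autoImplicit false

namespace Cfsg.Agent.AltNineThree

open Cfsg Cfsg.Agent.ThreeCubedSymFour Equiv

/-- The second block cycle. -/
def mid : Q := el 0 1 0 0 false false false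
/-- The last block cycle. -/
def last : Q := el 0 0 1 0 false false false
/-- A double transposition on the last two blocks. -/
def flipPair : Q := rotQ * jInv * rotQ⁻¹
/-- The exchange of the last two blocks. -/
def exchPair : Q := rotQ * iInv * rotQ⁻¹

/-- `S6` on the points of the last two blocks. -/
structure Sextet {G : Type*} [Group G] (π : Q →* G) (ι : Perm (Fin 6) →* G) : Prop where
  inj : Function.Injective ι
  cyc0 : ι c0 = π mid
  cyc1 : ι c1 = π last
  flip : ι (swap 0 1) = π jInv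
  flip2 : ι (swap 0 1 * swap 3 4) = π flipPair
  exch : ι (swap 0 3 * swap 1 4 * swap 2 5) = π exchPair
  even : ∀ σ, Perm.sign σ = 1 → ι σ * π aAx = π aAx * ι σ
  gen : ∀ g ∈ Subgroup.centralizer ({π aAx} : Set G),
    ∃ k < 3, ∃ σ, Perm.sign σ = 1 ∧ g = π aAx ^ k * ι σ

theorem light_a : ∀ v : Multiplicative V3, lA v.toAdd = 0 →
    weight (SemidirectProduct.inl v) = 1 →
    (SemidirectProduct.inl v : Q) = mid ∨ (SemidirectProduct.inl v : Q) = mid * mid ∨
      (SemidirectProduct.inl v : Q) = last ∨ (SemidirectProduct.inl v : Q) = last * last := by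
  decide +kernel

set_option synthInstance.maxSize 4000 in
theorem local_facts : mid ∈ hyper lA ∧ last ∈ hyper lA ∧
    fFour * mid * fFour⁻¹ = last ∧
    rotQ * aAx * rotQ⁻¹ = mid ∧ rotQ * rotQ * aAx * (rotQ * rotQ)⁻¹ = last ∧
    jInv * aAx * jInv⁻¹ = aAx * aAx ∧ jInv * mid * jInv⁻¹ = mid * mid ∧ jInv * last * jInv⁻¹ = last ∧
    flipPair * aAx = aAx * flipPair ∧ flipPair * flipPair = 1 ∧ flipPair * mid * flipPair⁻¹ = mid * mid ∧
    flipPair * last * flipPair⁻¹ = last * last ∧ flipPair * jInv = jInv * flipPair ∧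
    exchPair * aAx * exchPair⁻¹ = aAx * aAx ∧ exchPair * mid * exchPair⁻¹ = last ∧
    exchPair * exchPair = 1 ∧ exchPair * flipPair = flipPair * exchPair ∧
    exchPair * jInv * aAx = aAx * (exchPair * jInv) ∧
    exchPair * jInv * (exchPair * jInv) * (exchPair * jInv * (exchPair * jInv)) = 1 ∧
    mid ≠ 1 ∧ last ≠ mid ∧ last ≠ mid * mid := by
  refine ⟨mem_hyper.2 ⟨rfl, rfl⟩, mem_hyper.2 ⟨rfl, rfl⟩, ?_⟩
  decide +kernel

theorem partner : ∀ σ : Perm (Fin 6), σ.support.card = 3 → σ * c0 = c0 * σ →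
    σ = c0 ∨ σ = c0 * c0 ∨ σ = c1 ∨ σ = c1 * c1 := by decide +kernel

theorem flip_first : ∀ σ : Perm (Fin 6), σ * σ = 1 → σ * c0 = c0 * c0 * σ → σ * c1 = c1 * σ →
    ∃ k : Fin 3, c0 ^ (k : ℕ) * σ = swap 0 1 * c0 ^ (k : ℕ) := by decide +kernel

set_option synthInstance.maxSize 4000 in
theorem flip_second : ∀ σ : Perm (Fin 6), σ * σ = 1 → σ * c0 = c0 * c0 * σ → σ * c1 = c1 * c1 * σ →
    σ * swap 0 1 = swap 0 1 * σ →
    ∃ k : Fin 3, c1 ^ (k : ℕ) * σ = swap 0 1 * swap 3 4 * c1 ^ (k : ℕ) := by decide +kernel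

theorem exch_unique : ∀ σ : Perm (Fin 6), σ * σ = 1 → σ * c0 = c1 * σ →
    σ * (swap 0 1 * swap 3 4) = swap 0 1 * swap 3 4 * σ →
    σ = swap 0 3 * swap 1 4 * swap 2 5 := by decide +kernel

theorem six_center : ∀ σ : Perm (Fin 6), σ * c0 = c0 * σ → σ * c1 = c1 * σ →
    σ * (swap 0 3 * swap 1 2) = swap 0 3 * swap 1 2 * σ → σ = 1 := by decide +kernel

theorem small_facts : swap (4 : Fin 6) 5 * c0 = c0 * swap 4 5 ∧
    swap (4 : Fin 6) 5 * (c1 * c1) = c1 * swap 4 5 ∧ c1 * c0 = c0 * c1 ∧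
    c1 * swap 0 1 = swap 0 1 * c1 ∧ Perm.sign (swap (0 : Fin 6) 3 * swap 1 2) = 1 ∧
    c0 * c0 * c0 = 1 ∧ c0.support.card = 3 ∧ (c0 * c0).support.card = 3 ∧ c1.support.card = 3 ∧
    (c1 * c1).support.card = 3 ∧ Perm.sign (swap (0 : Fin 6) 1 * swap 3 4) = 1 := by decide +kernel

variable {G : Type*} [Group G]

/-- The factor with an identification with `A6`. -/
structure Ident (π : Q →* G) (L : Subgroup G) (e : L ≃* alternatingGroup (Fin 6)) : Prop where
  factor : Factor π aAx lA L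
  mem_mid : π mid ∈ L
  mem_last : π last ∈ L
  val_mid : (e ⟨π mid, mem_mid⟩ : Perm (Fin 6)) = c0
  val_last : (e ⟨π last, mem_last⟩ : Perm (Fin 6)) = c1

/-- `n` acts on the factor as `σ`. -/
def Acts (L : Subgroup G) (e : L ≃* alternatingGroup (Fin 6)) (n : G) (σ : Perm (Fin 6)) : Prop :=
  ∀ y (hy : y ∈ L) (hy' : n * y * n⁻¹ ∈ L),
    (e ⟨n * y * n⁻¹, hy'⟩ : Perm (Fin 6)) = σ * (e ⟨y, hy⟩ : Perm (Fin 6)) * σ⁻¹

/-- `n` normalizes the centralizer of the first block cycle. -/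
def Normalizes (π : Q →* G) (n : G) : Prop :=
  n * π aAx * n⁻¹ = π aAx ∨ n * π aAx * n⁻¹ = π aAx * π aAx

theorem Normalizes.conj_centralizer {π : Q →* G} {n c : G} (hn : Normalizes π n)
    (hc : c ∈ Subgroup.centralizer ({π aAx} : Set G)) :
    n * c * n⁻¹ ∈ Subgroup.centralizer ({π aAx} : Set G) := by
  have hc' : Commute c (π aAx) := Subgroup.mem_centralizer_singleton_iff.1 hc
  have h3 : π aAx * π aAx * (π aAx * π aAx) = π aAx := by
    rw [← map_mul, ← map_mul]; exact congrArg π (by decide +kernel)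
  have h1 : Commute (n * c * n⁻¹) (n * π aAx * n⁻¹) := hc'.map (MulAut.conj n).toMonoidHom
  refine Subgroup.mem_centralizer_singleton_iff.2 ?_
  rcases hn with h | h
  · rw [← h]; exact h1
  · have h2 := h1.mul_right h1
    rw [h, h3] at h2
    exact h2

theorem normalizes_model (π : Q →* G) {z : Q} (h : z * aAx * z⁻¹ = aAx ∨ z * aAx * z⁻¹ = aAx * aAx) :
    Normalizes π (π z) := by
  unfold Normalizes
  rw [← map_inv, ← map_mul, ← map_mul, ← map_mul]
  exact h.imp (congrArg π) (congrArg π)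

theorem Acts.transport {L : Subgroup G} {e : L ≃* alternatingGroup (Fin 6)} {n : G} {σ : Perm (Fin 6)}
    (h : Acts L e n σ) (p : Perm (Fin 6)) :
    Acts L (e.trans (MulAut.conjNormal p)) n (p * σ * p⁻¹) := fun y hy hy' => by
  simp only [MulEquiv.trans_apply, MulAut.conjNormal_apply, h y hy hy']
  group

variable {π : Q →* G} {L : Subgroup G} {e : L ≃* alternatingGroup (Fin 6)}

theorem Ident.transport (I : Ident π L e) {p : Perm (Fin 6)} (h0 : p * c0 = c0 * p)
    (h1 : p * c1 = c1 * p) : Ident π L (e.trans (MulAut.conjNormal p)) := by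
  refine ⟨I.factor, I.mem_mid, I.mem_last, ?_, ?_⟩
  · rw [MulEquiv.trans_apply, MulAut.conjNormal_apply, I.val_mid, h0, mul_inv_cancel_right]
  · rw [MulEquiv.trans_apply, MulAut.conjNormal_apply, I.val_last, h1, mul_inv_cancel_right]

theorem conj_mem_factor (F : Factor π aAx lA L) (e : L ≃* alternatingGroup (Fin 6)) {n y : G}
    (hn : Normalizes π n) (hy : y ∈ L) : n * y * n⁻¹ ∈ L := by
  let K : Subgroup L := (L.comap (MulAut.conj n).toMonoidHom).comap L.subtype
  have hcomm : commutator L ≤ K := by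
    rw [commutator_def, Subgroup.commutator_le]
    intro a _ b _
    show n * ((a : G) * b * (a : G)⁻¹ * (b : G)⁻¹) * n⁻¹ ∈ L
    obtain ⟨i, -, hi⟩ := F.gen _ (hn.conj_centralizer (F.le a.2))
    obtain ⟨j, -, hj⟩ := F.gen _ (hn.conj_centralizer (F.le b.2))
    set u := π aAx ^ i * (n * (a : G) * n⁻¹)
    set v := π aAx ^ j * (n * (b : G) * n⁻¹)
    have hu : Commute u (π aAx) := Subgroup.mem_centralizer_singleton_iff.1 (F.le hi)
    have hv : Commute v (π aAx) := Subgroup.mem_centralizer_singleton_iff.1 (F.le hj)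
    have key : ∀ (z w : G) (p q : G), Commute p z → Commute p w → Commute q z → Commute q w →
        Commute z w → z * p * (w * q) * (z * p)⁻¹ * (w * q)⁻¹ = p * q * p⁻¹ * q⁻¹ := by
      intro z w p q pz pw qz qw zw
      have e1 : z * p * (w * q) = z * w * (p * q) := by
        rw [mul_assoc, ← mul_assoc p, pw.eq]; group
      have e2 : w * q * (z * p) = z * w * (q * p) := by
        rw [mul_assoc, ← mul_assoc q, qz.eq, zw.eq]; group
      rw [mul_assoc, ← mul_inv_rev, e1, e2, mul_inv_rev]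
      have hp : Commute (p * q * (q * p)⁻¹) (z * w) :=
        ((pz.mul_left qz).mul_left (qz.mul_left pz).inv_left).mul_right
          ((pw.mul_left qw).mul_left (qw.mul_left pw).inv_left)
      rw [show z * w * (p * q) * ((q * p)⁻¹ * (z * w)⁻¹) = z * w * (p * q * (q * p)⁻¹) * (z * w)⁻¹ by group,
        ← hp.eq, mul_inv_cancel_right]
      group
    have hcc : Commute (π aAx) (π aAx) := Commute.refl _
    have := key ((π aAx ^ i)⁻¹) ((π aAx ^ j)⁻¹) u v (hu.pow_right i).inv_right (hu.pow_right j).inv_right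
      (hv.pow_right i).inv_right (hv.pow_right j).inv_right (hcc.pow_pow i j).inv_inv
    simp only [u, v, inv_mul_cancel_left] at this
    rw [show n * ((a : G) * b * (a : G)⁻¹ * (b : G)⁻¹) * n⁻¹ =
      n * (a : G) * n⁻¹ * (n * (b : G) * n⁻¹) * (n * (a : G) * n⁻¹)⁻¹ * (n * (b : G) * n⁻¹)⁻¹ by group,
      this]
    exact mul_mem (mul_mem (mul_mem hi hj) (inv_mem hi)) (inv_mem hj)
  have htop : commutator L = ⊤ := by
    have : IsSimpleGroup (alternatingGroup (Fin 6)) := alternatingGroup.isSimpleGroup (by simp)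
    have hs : IsSimpleGroup L := e.isSimpleGroup
    refine (IsSimpleGroup.eq_bot_or_eq_top_of_normal _ inferInstance).resolve_left fun h => ?_
    rw [commutator_def, Subgroup.commutator_eq_bot_iff_le_centralizer] at h
    let d : alternatingGroup (Fin 6) :=
      ⟨swap 0 3 * swap 1 2, Perm.mem_alternatingGroup.2 small_facts.2.2.2.2.1⟩
    have h2 := congrArg e ((Subgroup.mem_centralizer_iff.1 (h (Subgroup.mem_top (e.symm c0A))))
      (e.symm d) (Subgroup.mem_top _))
    rw [map_mul, map_mul, MulEquiv.apply_symm_apply, MulEquiv.apply_symm_apply] at h2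
    have h3 : swap (0 : Fin 6) 3 * swap 1 2 * c0 = c0 * (swap 0 3 * swap 1 2) := congrArg Subtype.val h2
    exact absurd h3 (by decide +kernel)
  exact hcomm (htop ▸ Subgroup.mem_top (⟨y, hy⟩ : L))

theorem Ident.acts_unique (I : Ident π L e) {n : G} (hn : Normalizes π n) {σ τ : Perm (Fin 6)}
    (h : Acts L e n σ) (h' : Acts L e n τ) : σ = τ := by
  have key : ∀ x ∈ alternatingGroup (Fin 6), τ⁻¹ * σ * x = x * (τ⁻¹ * σ) := by
    intro x hx
    set y := e.symm ⟨x, hx⟩
    have hy' := conj_mem_factor I.factor e hn y.2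
    have e1 := (h _ y.2 hy').symm.trans (h' _ y.2 hy')
    simp only [Subtype.coe_eta, y, MulEquiv.apply_symm_apply] at e1
    calc τ⁻¹ * σ * x = τ⁻¹ * (σ * x * σ⁻¹) * σ := by group
      _ = x * (τ⁻¹ * σ) := by rw [e1]; group
  have := six_center _ (key _ c0_mem) (key _ c1_mem)
    (key _ (Perm.mem_alternatingGroup.2 small_facts.2.2.2.2.1))
  exact (inv_mul_eq_one.1 this).symm

theorem Ident.acts_mul (I : Ident π L e) {n m : G} (hm : Normalizes π m) {σ τ : Perm (Fin 6)}
    (h : Acts L e n σ) (h' : Acts L e m τ) : Acts L e (n * m) (σ * τ) := fun y hy hy' => by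
  have hm' := conj_mem_factor I.factor e hm hy
  have e0 : n * m * y * (n * m)⁻¹ = n * (m * y * m⁻¹) * n⁻¹ := by group
  have hy'' : n * (m * y * m⁻¹) * n⁻¹ ∈ L := e0 ▸ hy'
  rw [show (⟨_, hy'⟩ : L) = ⟨_, hy''⟩ from Subtype.ext e0, h _ hm' hy'', h' _ hy hm']
  group

theorem Ident.acts_inner {n : G} (hn : n ∈ L) : Acts L e n (e ⟨n, hn⟩ : Perm (Fin 6)) :=
  fun y hy hy' => by
    rw [show (⟨_, hy'⟩ : L) = ⟨n, hn⟩ * ⟨y, hy⟩ * ⟨n, hn⟩⁻¹ from rfl, map_mul, map_mul, map_inv]
    rfl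

theorem acts_one : Acts L e 1 1 := fun y hy hy' => by
  simp only [one_mul, inv_one, mul_one]

variable [Finite G] (E : Setting π)
include E

/-- An element of the factor conjugate to a block cycle is a three-cycle. -/
theorem Setting.three_of_conj (I : Ident π L e) {g : G} (hy : g * π aAx * g⁻¹ ∈ L) :
    (e ⟨_, hy⟩ : Perm (Fin 6)).support.card = 3 := by
  have : Fact (Nat.Prime 3) := ⟨Nat.prime_three⟩
  obtain ⟨P, hP, hN⟩ := E.factor_sylow axis_a I.factor
  set y : L := ⟨_, hy⟩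
  have hp : IsPGroup 3 (Subgroup.zpowers y) := by
    have h3 : y ^ 3 = 1 := Subtype.ext (by
      rw [Subgroup.coe_pow]
      show (g * π aAx * g⁻¹) ^ 3 = 1
      rw [conj_pow, ← map_pow, pow_three_of_right rfl, map_one]
      group)
    obtain ⟨k, -, hk⟩ := (Nat.dvd_prime_pow Nat.prime_three).mp
      (orderOf_dvd_of_pow_eq_one (show y ^ 3 ^ 1 = 1 by simpa using h3))
    exact IsPGroup.of_card (n := k) (by rw [Nat.card_zpowers, hk])
  obtain ⟨T, hT⟩ := hp.exists_le_sylow
  obtain ⟨c, hc⟩ := MulAction.exists_smul_eq L T P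
  have hcy : c * y * c⁻¹ ∈ (P : Subgroup L) := by
    rw [← hc]; exact ⟨y, hT (Subgroup.mem_zpowers _), rfl⟩
  obtain ⟨w, hw, ew⟩ := (hP _).1 hcy
  obtain ⟨hwe, hwl⟩ := hyper_eq_inl hw
  have hwt : weight w = 1 := by
    by_contra hne
    refine E.not_conj_weight (x := aAx) rfl (mem_hyper.1 hw).1 ?_ ((c : G) * g) ?_
    · rw [weight_axes.1]; exact Ne.symm hne
    · rw [ew]; simp [y, mul_assoc]
  have hval : ∀ (z : Q) (hz : π z ∈ L), w = z → (e y : Perm (Fin 6)) =
      (e c : Perm (Fin 6))⁻¹ * (e ⟨π z, hz⟩ : Perm (Fin 6)) * (e c : Perm (Fin 6)) := by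
    intro z hz h
    have : (⟨π z, hz⟩ : L) = c * y * c⁻¹ := Subtype.ext (h ▸ ew)
    rw [this, map_mul, map_mul, map_inv]
    simp [mul_assoc]
  obtain ⟨-, -, -, -, -, -, s0, s0', s1, s1', -⟩ := small_facts
  have hfin : ∀ (x : Perm (Fin 6)) (p : Perm (Fin 6)), x.support.card = 3 →
      (p⁻¹ * x * p).support.card = 3 := fun x p h => by
    have := Perm.card_support_conj (σ := p⁻¹) (τ := x)
    rw [inv_inv] at this
    rw [this, h]
  rcases light_a w.left hwl (hwe ▸ hwt) with h | h | h | h <;> rw [← hwe] at h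
  · rw [hval _ I.mem_mid h, I.val_mid]; exact hfin _ _ s0
  · rw [hval _ (by rw [map_mul]; exact mul_mem I.mem_mid I.mem_mid) h]
    refine hfin _ _ ?_
    rw [show (⟨π (mid * mid), _⟩ : L) = ⟨π mid, I.mem_mid⟩ * ⟨π mid, I.mem_mid⟩ from
      Subtype.ext (map_mul π _ _), map_mul, Subgroup.coe_mul, I.val_mid]
    exact s0'
  · rw [hval _ I.mem_last h, I.val_last]; exact hfin _ _ s1
  · rw [hval _ (by rw [map_mul]; exact mul_mem I.mem_last I.mem_last) h]
    refine hfin _ _ ?_
    rw [show (⟨π (last * last), _⟩ : L) = ⟨π last, I.mem_last⟩ * ⟨π last, I.mem_last⟩ from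
      Subtype.ext (map_mul π _ _), map_mul, Subgroup.coe_mul, I.val_last]
    exact s1'

theorem Setting.exists_acts (I : Ident π L e) {n : G} (hn : Normalizes π n) :
    ∃ σ, Acts L e n σ := by
  have hmap : ∀ y : L, n * y * n⁻¹ ∈ L := fun y => conj_mem_factor I.factor e hn y.2
  let f : L →* L :=
    { toFun := fun y => ⟨_, hmap y⟩
      map_one' := Subtype.ext (by simp)
      map_mul' := fun a b => Subtype.ext (by simp [mul_assoc]) }
  have hf : Function.Injective f := fun a b h => Subtype.ext (by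
    have := congrArg Subtype.val h
    simpa [f] using this)
  let θ : MulAut (alternatingGroup (Fin 6)) :=
    e.symm.trans ((MulEquiv.ofBijective f (Finite.injective_iff_bijective.1 hf)).trans e)
  have h3 : ∀ x : alternatingGroup (Fin 6), (x : Perm (Fin 6)).IsThreeCycle →
      ((θ x : alternatingGroup (Fin 6)) : Perm (Fin 6)).IsThreeCycle := by
    intro x hx
    obtain ⟨-, -, -, hrot, -⟩ := local_facts
    obtain ⟨q, hq⟩ := isConj_iff.1 (alternatingGroup.isThreeCycle_isConj (α := Fin 6) (by simp)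
      (σ := c0A) (τ := x) (card_support_eq_three_iff.1 small_facts.2.2.2.2.2.2.1) hx)
    have e0 : e.symm c0A = ⟨π mid, I.mem_mid⟩ := by
      rw [MulEquiv.symm_apply_eq]; exact Subtype.ext I.val_mid.symm
    set g := n * (e.symm q : G) * π rotQ
    have hg : (f (e.symm x) : G) = g * π aAx * g⁻¹ := by
      show n * (e.symm x : G) * n⁻¹ = _
      rw [← hq, map_mul, map_mul, map_inv, e0, Subgroup.coe_mul, Subgroup.coe_mul, InvMemClass.coe_inv]
      simp only [g, ← hrot, map_mul, map_inv]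
      group
    refine card_support_eq_three_iff.1 ?_
    show (e (f (e.symm x)) : Perm (Fin 6)).support.card = 3
    rw [show f (e.symm x) = ⟨g * π aAx * g⁻¹, hg ▸ (f (e.symm x)).2⟩ from Subtype.ext hg]
    exact E.three_of_conj I _
  obtain ⟨σ, hσ⟩ := AltAut.exists_conjNormal_of_threeCycle (by norm_num) θ h3
  refine ⟨σ, fun y hy hy' => ?_⟩
  rw [← MulAut.conjNormal_apply, hσ]
  show _ = (e (f (e.symm (e ⟨y, hy⟩))) : Perm (Fin 6))
  rw [MulEquiv.symm_apply_apply]
  rfl

theorem Setting.exists_ident (F : Factor π aAx lA L) (e : L ≃* alternatingGroup (Fin 6)) :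
    ∃ e', Ident π L e' := by
  obtain ⟨hm, hl, hf, hrot, hrot2, -, -, -, -, -, -, -, -, -, -, -, -, -, -, hm1, hlm, hlm'⟩ := local_facts
  have hmL : π mid ∈ L := (F.plane_iff mid rfl).2 hm
  have hlL : π last ∈ L := (F.plane_iff last rfl).2 hl
  obtain ⟨e1, he1⟩ := exists_iso_cyc e (a := ⟨π mid, hmL⟩)
    (Subtype.ext (by rw [Subgroup.coe_pow]; show π mid ^ 3 = 1; rw [← map_pow, pow_three_of_right rfl, map_one]))
    (fun h => hm1 (E.inj ((congrArg Subtype.val h).trans (map_one π).symm)))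
  obtain ⟨hfa, hf4, -⟩ := fFour_facts
  have hfL : π fFour ∈ L := F.small _
    (Subgroup.mem_centralizer_singleton_iff.2 (by rw [← map_mul, ← map_mul, hfa]))
    4 (by norm_num) (by
      rw [← map_pow, show fFour ^ 4 = 1 by rw [← hf4]; simp [pow_succ, mul_assoc], map_one])
  have h3 : (e1 ⟨π last, hlL⟩ : Perm (Fin 6)).support.card = 3 := by
    have el : (⟨π last, hlL⟩ : L) = ⟨π fFour, hfL⟩ * ⟨π mid, hmL⟩ * ⟨π fFour, hfL⟩⁻¹ := by
      refine Subtype.ext ?_
      show π last = π fFour * π mid * (π fFour)⁻¹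
      rw [← map_inv, ← map_mul, ← map_mul, hf]
    rw [el, map_mul, map_mul, map_inv, Subgroup.coe_mul,
      Subgroup.coe_mul, InvMemClass.coe_inv, Perm.card_support_conj, he1]
    exact small_facts.2.2.2.2.2.2.1
  have hc : (e1 ⟨π last, hlL⟩ : Perm (Fin 6)) * c0 = c0 * e1 ⟨π last, hlL⟩ := by
    have e0 : (e1 ⟨π mid, hmL⟩ : Perm (Fin 6)) = c0 := congrArg Subtype.val he1
    rw [← e0, ← Subgroup.coe_mul, ← Subgroup.coe_mul, ← map_mul, ← map_mul]
    refine congrArg (fun y => ((e1 y : alternatingGroup (Fin 6)) : Perm (Fin 6))) (Subtype.ext ?_)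
    show π last * π mid = π mid * π last
    rw [← map_mul, ← map_mul, comm_of_right last mid rfl rfl]
  have e0 : (e1 ⟨π mid, hmL⟩ : Perm (Fin 6)) = c0 := congrArg Subtype.val he1
  rcases partner _ h3 hc with h | h | h | h
  · refine absurd (E.inj (congrArg Subtype.val (e1.injective (Subtype.ext (h.trans e0.symm))))) hlm
  · refine absurd (E.inj ?_) hlm'
    rw [map_mul]
    exact congrArg Subtype.val (e1.injective (a₂ := ⟨π mid, hmL⟩ * ⟨π mid, hmL⟩)
      (Subtype.ext (h.trans (by rw [map_mul, Subgroup.coe_mul, e0]))))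
  · exact ⟨e1, F, hmL, hlL, e0, h⟩
  · obtain ⟨s1, s2, -⟩ := small_facts
    refine ⟨e1.trans (MulAut.conjNormal (swap 4 5)), F, hmL, hlL, ?_, ?_⟩
    · rw [MulEquiv.trans_apply, MulAut.conjNormal_apply, e0, s1, mul_inv_cancel_right]
    · rw [MulEquiv.trans_apply, MulAut.conjNormal_apply, h, s2, mul_inv_cancel_right]

theorem Setting.acts_conj (I : Ident π L e) {z : Q} {σ : Perm (Fin 6)} (h : Acts L e (π z) σ)
    {u w : Q} (hu : π u ∈ L) (hw : π w ∈ L) (huw : z * u * z⁻¹ = w) :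
    σ * (e ⟨π u, hu⟩ : Perm (Fin 6)) = (e ⟨π w, hw⟩ : Perm (Fin 6)) * σ := by
  have e1 : π z * π u * (π z)⁻¹ = π w := by rw [← map_inv, ← map_mul, ← map_mul, huw]
  have := h _ hu (e1 ▸ hw)
  rw [show (⟨_, e1 ▸ hw⟩ : L) = ⟨π w, hw⟩ from Subtype.ext e1] at this
  rw [this, inv_mul_cancel_right]

theorem Setting.acts_sq (I : Ident π L e) {z : Q} (hz : z * z = 1) (hn : Normalizes π (π z))
    {σ : Perm (Fin 6)} (h : Acts L e (π z) σ) : σ * σ = 1 := by
  have h1 := I.acts_mul hn h h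
  rw [← map_mul, hz, map_one] at h1
  exact I.acts_unique (Or.inl (by simp)) h1 acts_one

theorem Setting.exists_sextet (F : Factor π aAx lA L) (e₀ : L ≃* alternatingGroup (Fin 6)) :
    ∃ ι, Sextet π ι := by
  obtain ⟨e, I⟩ := E.exists_ident F e₀
  obtain ⟨-, -, -, -, -, ja, jm, jl, fa, f2, fm, fl, fj, xa, xm, x2, xf, xja, xj4, -, -, -⟩ := local_facts
  obtain ⟨-, -, c10, c1s, -, -, -, -, -, -, sflip⟩ := small_facts
  have hj2 : jInv * jInv = 1 := axes_facts.2.2.2.2.2.2.2.2.2.1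
  have nJ : Normalizes π (π jInv) := normalizes_model π (Or.inr ja)
  have nF : Normalizes π (π flipPair) := normalizes_model π (Or.inl (by rw [fa, mul_inv_cancel_right]))
  have nX : Normalizes π (π exchPair) := normalizes_model π (Or.inr xa)
  have mm : π (mid * mid) ∈ L := by rw [map_mul]; exact mul_mem I.mem_mid I.mem_mid
  have ll : π (last * last) ∈ L := by rw [map_mul]; exact mul_mem I.mem_last I.mem_last
  -- the first flip
  obtain ⟨σ, hσ⟩ := E.exists_acts I nJ
  have a1 := E.acts_conj I hσ I.mem_mid mm jm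
  have a2 := E.acts_conj I hσ I.mem_last I.mem_last jl
  rw [show (⟨_, mm⟩ : L) = ⟨π mid, I.mem_mid⟩ * ⟨π mid, I.mem_mid⟩ from Subtype.ext (map_mul π _ _),
    map_mul, Subgroup.coe_mul, I.val_mid] at a1
  rw [I.val_last] at a2
  obtain ⟨k, hk⟩ := flip_first σ (E.acts_sq I hj2 nJ hσ) a1 a2
  set p := c0 ^ (k : ℕ)
  have hI1 := I.transport (p := p) ((Commute.refl c0).pow_left _).eq
    ((show Commute c0 c1 from c10.symm).pow_left _).eq
  have hσ1 := hσ.transport p
  rw [hk, mul_inv_cancel_right] at hσ1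
  clear a1 a2
  revert hI1 hσ1
  generalize e.trans (MulAut.conjNormal p) = e1
  intro hI1 hσ1
  -- the second flip
  obtain ⟨τ, hτ⟩ := E.exists_acts hI1 nF
  have b1 := E.acts_conj hI1 hτ hI1.mem_mid mm fm
  have b2 := E.acts_conj hI1 hτ hI1.mem_last ll fl
  rw [show (⟨_, mm⟩ : L) = ⟨π mid, hI1.mem_mid⟩ * ⟨π mid, hI1.mem_mid⟩ from Subtype.ext (map_mul π _ _),
    map_mul, Subgroup.coe_mul, hI1.val_mid] at b1
  rw [show (⟨_, ll⟩ : L) = ⟨π last, hI1.mem_last⟩ * ⟨π last, hI1.mem_last⟩ from Subtype.ext (map_mul π _ _),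
    map_mul, Subgroup.coe_mul, hI1.val_last] at b2
  have b3 : τ * swap 0 1 = swap 0 1 * τ := by
    have h1 := hI1.acts_mul nJ hτ hσ1
    have h2 := hI1.acts_mul nF hσ1 hτ
    rw [← map_mul] at h1 h2
    rw [fj] at h1
    refine hI1.acts_unique (normalizes_model π (Or.inr ?_)) h1 h2
    decide +kernel
  obtain ⟨l, hl⟩ := flip_second τ (E.acts_sq hI1 f2 nF hτ) b1 b2 b3
  set q := c1 ^ (l : ℕ)
  have hI2 := hI1.transport (p := q) ((show Commute c1 c0 from c10).pow_left _).eq
    ((Commute.refl c1).pow_left _).eq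
  have hσ2 := hσ1.transport q
  have hτ2 := hτ.transport q
  rw [((show Commute c1 (swap 0 1) from c1s).pow_left _).eq, mul_inv_cancel_right] at hσ2
  rw [hl, mul_inv_cancel_right] at hτ2
  revert hI2 hσ2 hτ2
  generalize e1.trans (MulAut.conjNormal q) = e2
  intro hI2 hσ2 hτ2
  clear hσ hσ1 hτ hI1 b1 b2 b3 hl hk
  -- the exchange
  obtain ⟨ξ, hξ⟩ := E.exists_acts hI2 nX
  have c2 := E.acts_conj hI2 hξ hI2.mem_mid hI2.mem_last xm
  rw [hI2.val_mid, hI2.val_last] at c2
  have c3 : ξ * (swap 0 1 * swap 3 4) = swap 0 1 * swap 3 4 * ξ := by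
    have h1 := hI2.acts_mul nF hξ hτ2
    have h2 := hI2.acts_mul nX hτ2 hξ
    rw [← map_mul] at h1 h2
    rw [xf] at h1
    refine hI2.acts_unique (normalizes_model π (Or.inr ?_)) h1 h2
    decide +kernel
  have hξe := exch_unique ξ (E.acts_sq hI2 x2 nX hξ) c2 c3
  subst hξe
  -- the homomorphism
  set d : Perm (Fin 6) := swap 0 1
  have hd : Perm.sign d = -1 := Perm.sign_swap (by decide)
  have hdd : d * d = 1 := swap_mul_self _ _
  let ev : Perm (Fin 6) → G := fun s =>
    if h : Perm.sign s = 1 then (e2.symm ⟨s, Perm.mem_alternatingGroup.2 h⟩ : G)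
    else (e2.symm ⟨s * d, Perm.mem_alternatingGroup.2 (by
      rw [Perm.sign_mul, hd, (Int.units_eq_one_or _).resolve_left h]; rfl)⟩ : G) * π jInv
  have ev_even : ∀ (s : Perm (Fin 6)) (h : Perm.sign s = 1),
      ev s = e2.symm ⟨s, Perm.mem_alternatingGroup.2 h⟩ := fun s h => dif_pos h
  have hswap : ∀ (s : alternatingGroup (Fin 6)) (h : d * s * d⁻¹ ∈ alternatingGroup (Fin 6)),
      π jInv * e2.symm s = (e2.symm ⟨d * s * d⁻¹, h⟩ : G) * π jInv := by
    intro s h
    have hy' := conj_mem_factor F e2 nJ (e2.symm s).2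
    have e1 := hσ2 _ (e2.symm s).2 hy'
    simp only [Subtype.coe_eta, MulEquiv.apply_symm_apply] at e1
    have e3 : (e2.symm ⟨d * s * d⁻¹, h⟩ : L) = ⟨_, hy'⟩ := by
      rw [MulEquiv.symm_apply_eq]; exact Subtype.ext e1.symm
    rw [e3]
    show _ = π jInv * _ * (π jInv)⁻¹ * π jInv
    rw [inv_mul_cancel_right]
  have ev_odd : ∀ (s : alternatingGroup (Fin 6)), ev ((s : Perm (Fin 6)) * d) = (e2.symm s : G) * π jInv := by
    intro s
    have hne : ¬ Perm.sign ((s : Perm (Fin 6)) * d) = 1 := by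
      rw [Perm.sign_mul, hd, Perm.mem_alternatingGroup.1 s.2]; decide
    simp only [ev, dif_neg hne, mul_assoc, hdd, mul_one, Subtype.coe_eta]
  have ev_even' : ∀ (s : alternatingGroup (Fin 6)), ev s = e2.symm s := fun s => by
    rw [ev_even _ (Perm.mem_alternatingGroup.1 s.2)]
  have split : ∀ s : Perm (Fin 6), ∃ t : alternatingGroup (Fin 6), s = t ∨ s = t * d := by
    intro s
    rcases Int.units_eq_one_or (Perm.sign s) with h | h
    · exact ⟨⟨s, Perm.mem_alternatingGroup.2 h⟩, Or.inl rfl⟩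
    · refine ⟨⟨s * d, Perm.mem_alternatingGroup.2 (by rw [Perm.sign_mul, h, hd]; rfl)⟩, Or.inr ?_⟩
      rw [mul_assoc, hdd, mul_one]
  have hdc : ∀ t : alternatingGroup (Fin 6), d * (t : Perm (Fin 6)) * d⁻¹ ∈ alternatingGroup (Fin 6) :=
    fun t => Perm.mem_alternatingGroup.2 (by
      rw [Perm.sign_mul, Perm.sign_mul, Perm.sign_inv, hd, Perm.mem_alternatingGroup.1 t.2]; rfl)
  have hmul : ∀ a b, ev (a * b) = ev a * ev b := by
    intro a b
    obtain ⟨s, rfl | rfl⟩ := split a <;> obtain ⟨t, rfl | rfl⟩ := split b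
    · rw [← Subgroup.coe_mul, ev_even', ev_even', ev_even', map_mul, Subgroup.coe_mul]
    · rw [← mul_assoc, ← Subgroup.coe_mul, ev_odd, ev_odd, ev_even', map_mul, Subgroup.coe_mul, mul_assoc]
    · rw [show (s : Perm (Fin 6)) * d * t = ((s * ⟨_, hdc t⟩ : alternatingGroup (Fin 6)) : Perm (Fin 6)) * d by
        simp [mul_assoc], ev_odd, ev_odd, ev_even', map_mul, Subgroup.coe_mul,
        mul_assoc (e2.symm s : G), ← hswap t (hdc t), ← mul_assoc]
    · rw [show (s : Perm (Fin 6)) * d * (t * d) = ((s * ⟨_, hdc t⟩ : alternatingGroup (Fin 6)) : Perm (Fin 6)) by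
        simp [d, mul_assoc], ev_odd, ev_odd, ev_even', map_mul, Subgroup.coe_mul,
        show (e2.symm s : G) * π jInv * ((e2.symm t : G) * π jInv) =
          (e2.symm s : G) * ((π jInv * e2.symm t) * π jInv) by group,
        hswap t (hdc t), mul_assoc _ (π jInv) (π jInv), ← map_mul, hj2, map_one, mul_one]
  let ι : Perm (Fin 6) →* G := MonoidHom.mk' ev hmul
  have hι : ∀ s, ι s = ev s := fun s => rfl
  have hval : ∀ (y : L) (s : Perm (Fin 6)), (e2 y : Perm (Fin 6)) = s → ι s = y := by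
    rintro y _ rfl
    rw [hι, ev_even', MulEquiv.symm_apply_apply]
  have hdJ : ι d = π jInv := by
    rw [hι, show d = ((1 : alternatingGroup (Fin 6)) : Perm (Fin 6)) * d from (one_mul d).symm, ev_odd,
      map_one, Subgroup.coe_one, one_mul]
  have hfL : π flipPair ∈ L := F.small _
    (Subgroup.mem_centralizer_singleton_iff.2 (by rw [← map_mul, ← map_mul, fa])) 2 (by norm_num)
    (by rw [pow_two, ← map_mul, f2, map_one])
  refine ⟨ι, ?_, hval _ _ hI2.val_mid, hval _ _ hI2.val_last, hdJ, ?_, ?_, ?_, ?_⟩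
  · rw [injective_iff_map_eq_one]
    intro s hs
    obtain ⟨t, rfl | rfl⟩ := split s
    · rw [hι, ev_even', OneMemClass.coe_eq_one] at hs
      rw [e2.symm.map_eq_one_iff.1 hs]
      rfl
    · rw [hι, ev_odd] at hs
      have hjL : π jInv ∈ L := by
        rw [show π jInv = (e2.symm t : G)⁻¹ from eq_inv_of_mul_eq_one_right hs]
        exact inv_mem (e2.symm t).2
      have hc := Subgroup.mem_centralizer_singleton_iff.1 (F.le hjL)
      rw [← map_mul, ← map_mul] at hc
      exact absurd (E.inj hc) (by decide +kernel)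
  · refine hval ⟨_, hfL⟩ _ (hI2.acts_unique nF ?_ hτ2)
    exact Ident.acts_inner hfL
  · have hg : π (exchPair * jInv) ∈ L := F.small _
      (Subgroup.mem_centralizer_singleton_iff.2 (by rw [← map_mul, ← map_mul, xja])) 4 (by norm_num)
      (by rw [← map_pow, show (exchPair * jInv) ^ 4 = 1 by rw [← xj4]; simp [pow_succ, mul_assoc], map_one])
    have hn : Normalizes π (π exchPair * π jInv) := by
      rw [← map_mul]; exact normalizes_model π (Or.inl (by rw [xja, mul_inv_cancel_right]))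
    have h1 := hI2.acts_mul nJ hξ hσ2
    rw [← map_mul] at h1 hn
    have e4 := hval ⟨_, hg⟩ _ (hI2.acts_unique hn (Ident.acts_inner hg) h1)
    change ι (_ * d) = π (exchPair * jInv) at e4
    rw [map_mul, hdJ, map_mul π] at e4
    exact mul_right_cancel e4
  · intro s hs
    rw [hι, ev_even _ hs]
    exact Subgroup.mem_centralizer_singleton_iff.1 (F.le (Subtype.coe_prop _))
  · intro g hg
    obtain ⟨m, hm, hmem⟩ := F.gen g hg
    refine ⟨(3 - m) % 3, Nat.mod_lt _ (by norm_num), _,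
      Perm.mem_alternatingGroup.1 (e2 ⟨_, hmem⟩).2, ?_⟩
    rw [hι, ev_even', MulEquiv.symm_apply_apply]
    have h3 : π aAx ^ 3 = 1 := by rw [← map_pow, pow_three_of_right rfl, map_one]
    show g = π aAx ^ ((3 - m) % 3) * (π aAx ^ m * g)
    rw [← mul_assoc, ← pow_add]
    interval_cases m <;> norm_num [h3]

end Cfsg.Agent.AltNineThree
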