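import Cfsg.Agent.Lib.AltNineThree.KleinR

/-!
# Computations for the group commuting with a four group on one block and a point

* `kV`, `kR'`: the four groups
* `decided_or_small`: the word certificate
-/

set_option autoImplicit false

namespace Cfsg.Agent.AltNineThree

open Cfsg Cfsg.Agent.ThreeCubedSymFour Equiv

/-- The first generator of the four group on four points. -/
def vA : Perm (Fin 6) := swap 0 1 * swap 2 3
/-- The second generator of the four group on four points. -/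
def vB : Perm (Fin 6) := swap 0 2 * swap 1 3

/-- The four group on four points. -/
def kV : Subgroup (Perm (Fin 6)) :=
  fourGroup vA vB (by decide +kernel) (by decide +kernel) (by decide +kernel)

theorem mem_kV {x : Perm (Fin 6)} : x ∈ kV ↔ x = 1 ∨ x = vA ∨ x = vB ∨ x = vA * vB := Iff.rfl

theorem card_kV : Nat.card kV = 4 := by
  have h : Nat.card {x : Perm (Fin 6) // x = 1 ∨ x = vA ∨ x = vB ∨ x = vA * vB} = 4 := by
    rw [Nat.subtype_card (Finset.univ.filter fun x => x = 1 ∨ x = vA ∨ x = vB ∨ x = vA * vB)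
      fun x => by simp]
    decide +kernel
  exact h

/-- An involution in the centralizer of the four group. -/
def wT : Perm (Fin 6) := swap 1 2 * swap 3 4
/-- The involution giving the larger alternating group. -/
def wU : Perm (Fin 6) := swap 2 3 * swap 4 5
/-- The involution leading to too large a centralizer. -/
def wR : Perm (Fin 6) := swap 0 3 * swap 1 2
/-- Its partner. -/
def wR' : Perm (Fin 6) := swap 0 3 * swap 4 5

/-- The four group spanned by `wR` and `wR'`. -/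
def kR' : Subgroup (Perm (Fin 6)) :=
  fourGroup wR wR' (by decide +kernel) (by decide +kernel) (by decide +kernel)

theorem mem_kR' {x : Perm (Fin 6)} : x ∈ kR' ↔ x = 1 ∨ x = wR ∨ x = wR' ∨ x = wR * wR' := Iff.rfl

/-- The small possibility. -/
def wSmall : List (Perm (Fin 6)) := [1, c1, c1 * c1, wT, c1 * wT, c1 * c1 * wT]

/-- The elements forcing a decision. -/
def wTargets : List (Perm (Fin 6)) :=
  [c0, c0 * c1, c0 * (c1 * c1), c0 * c0, c0 * c0 * c1, c0 * c0 * (c1 * c1), wR, wU]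

/-- A word in `c1`, `wT` and `s`. -/
def wordVal (s : Perm (Fin 6)) (w : List (Fin 3)) : Perm (Fin 6) :=
  w.foldl (fun r i => r * ![c1, wT, s] i) 1

/-- The words of the first round. -/
def words₀ : List (List (Fin 3)) :=
  [[2, 0, 2, 2, 2], [2, 1, 0, 2, 2], [2, 2, 1, 0, 2], [1, 2, 0, 2, 2], [2, 2, 1, 2], [2, 1, 2, 2],
    [1, 2, 1, 2, 2], [2, 2, 0, 1, 2], [2, 0, 1, 2, 2], [1, 2, 2, 1, 2], [2, 0, 2, 1, 2], [2, 1, 2, 0, 2]]

/-- The words of the second round. -/
def words₁ : List (List (Fin 3)) :=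
  [[2, 2, 0, 2], [2, 0, 2, 2, 2], [0, 2, 2, 1, 2], [0, 2, 0, 1, 2], [2, 1, 0, 2, 2], [2, 2, 0, 1],
    [0, 1, 2, 0, 2], [0, 1, 2, 1]]

/-- One round suffices. -/
def decided (s : Perm (Fin 6)) : Bool :=
  decide (s ∈ wTargets) || words₀.any fun w => decide (wordVal s w ∈ wTargets)

theorem decided_or_small : ∀ s : Perm (Fin 6), Perm.sign s = 1 →
    (decide (s ∈ wSmall) || decided s || words₁.any fun w => decided (wordVal s w)) = true := by
  decide +kernel

set_option synthInstance.maxSize 4000 in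
theorem trich_facts : Perm.sign c1 = 1 ∧ Perm.sign wT = 1 ∧ Perm.sign vA = 1 ∧ Perm.sign vB = 1 ∧
    (∀ v ∈ ([1, vA, vB, vA * vB] : List (Perm (Fin 6))),
      c1 * (swap 0 1 * swap 3 4 * swap 0 1) * c1⁻¹ * v = v * (c1 * (swap 0 1 * swap 3 4 * swap 0 1) * c1⁻¹)) ∧
    c0 * (swap 0 1 * swap 3 4) * c0⁻¹ = wT ∧
    (∀ k i j : Fin 3, i ≠ 0 →
      c0 ^ (k : ℕ) * c1 ^ (i : ℕ) * vA ≠ vA * (c0 ^ (k : ℕ) * c1 ^ (i : ℕ)) ∨
        c0 ^ (k : ℕ) * c1 ^ (i : ℕ) * vB ≠ vB * (c0 ^ (k : ℕ) * c1 ^ (i : ℕ))) ∧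
    wR * wR * wR = wR ∧ wR' = wR * (c1 * wT * (c1 * c1)) ∧ wU * wU * wU = wU ∧
    wR' * wR' * wR' = wR' ∧ (∀ v : Perm (Fin 6), v * c0 = c0 * v →
      (v = 1 ∨ v = vA ∨ v = vB ∨ v = vA * vB) → v = 1) ∧
    Perm.sign wR = 1 ∧ Perm.sign wR' = 1 := by
  decide +kernel

/-- A permutation taking the pairs of `kR` to those of `kR'`. -/
def sigR : Perm (Fin 6) := swap 1 3 * swap 3 4 * swap 4 5 * swap 5 2

theorem sigR_spec : ∀ x : Perm (Fin 6),
    (sigR⁻¹ * x * sigR = 1 ∨ sigR⁻¹ * x * sigR = rA ∨ sigR⁻¹ * x * sigR = rB ∨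
      sigR⁻¹ * x * sigR = rA * rB) ↔ (x = 1 ∨ x = wR ∨ x = wR' ∨ x = wR * wR') := by
  decide +kernel

end Cfsg.Agent.AltNineThree
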