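import Cfsg.Agent.Lib.AltNineThree.TrichCalc

/-!
# The group commuting with a four group on one block and a point

* `wGroup`, `Frame.sSet`: `C(a) ∩ C(V)` and its image in `S6`
* `Frame.sSet_cases`: that image is small, or contains `(23)(45)`
-/

set_option autoImplicit false

namespace Cfsg.Agent.AltNineThree

open Cfsg Cfsg.Agent.ThreeCubedSymFour Equiv

variable {G : Type*} [Group G] {π : Q →* G} {ι : Perm (Fin 6) →* G}

/-- `C(a) ∩ C(V)`. -/
def wGroup (π : Q →* G) (ι : Perm (Fin 6) →* G) : Subgroup G :=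
  Subgroup.centralizer ({π aAx} : Set G) ⊓ Subgroup.centralizer (kV.map (iotaLast π ι) : Set G)

theorem Frame.pow_three (F : Frame π ι) : π aAx ^ 3 = 1 := by
  rw [← map_pow, pow_three_of_right rfl, map_one]

/-- The image of `C(a) ∩ C(V)` in `S6`. -/
def Frame.sSet (F : Frame π ι) : Subgroup (Perm (Fin 6)) where
  carrier := {s | Perm.sign s = 1 ∧ ∃ k : ℕ, π aAx ^ k * ι s ∈ wGroup π ι}
  one_mem' := ⟨by simp, 0, by simp⟩
  mul_mem' := by
    rintro s t ⟨hs, k, hk⟩ ⟨ht, l, hl⟩
    refine ⟨by simp [hs, ht], k + l, ?_⟩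
    have h := mul_mem hk hl
    have e : π aAx ^ k * ι s * (π aAx ^ l * ι t) = π aAx ^ (k + l) * ι (s * t) := by
      rw [map_mul, pow_add, mul_assoc (π aAx ^ k), ← mul_assoc (ι s),
        ((show Commute (ι s) (π aAx) from F.sext.even s hs).pow_right l).eq]
      group
    rwa [e] at h
  inv_mem' := by
    rintro s ⟨hs, k, hk⟩
    refine ⟨by simp [hs], 2 * k, ?_⟩
    have h := inv_mem hk
    have e : (π aAx ^ k * ι s)⁻¹ = π aAx ^ (2 * k) * ι s⁻¹ := by
      rw [((show Commute (π aAx) (ι s) from (F.sext.even s hs).symm).pow_left k).eq, mul_inv_rev, map_inv]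
      congr 1
      rw [inv_eq_iff_mul_eq_one, ← pow_add, show k + 2 * k = 3 * k by ring, pow_mul, F.pow_three, one_pow]
    rwa [e] at h

theorem Frame.lift_mem (F : Frame π ι) {s : Perm (Fin 6)} (hs : s ∈ F.sSet) (h : s * s * s = s) :
    ι s ∈ wGroup π ι := by
  obtain ⟨hsgn, k, hk⟩ := hs
  have := pow_mem hk 3
  rw [((show Commute (π aAx) (ι s) from (F.sext.even s hsgn).symm).pow_left k).mul_pow, ← pow_mul,
    mul_comm k 3, pow_mul, F.pow_three, one_pow, one_mul, ← map_pow,
    show s ^ 3 = s * s * s by rw [pow_succ, pow_two], h] at this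
  exact this

theorem Frame.even_kV (F : Frame π ι) {v : Perm (Fin 6)} (hv : v ∈ kV) : Perm.sign v = 1 := by
  obtain ⟨-, -, sA, sB, -⟩ := trich_facts
  rcases mem_kV.1 hv with rfl | rfl | rfl | rfl <;> simp [sA, sB]

theorem Frame.c1_mem (F : Frame π ι) : ι c1 ∈ wGroup π ι := by
  refine ⟨Subgroup.mem_centralizer_singleton_iff.2 (F.sext.even c1 trich_facts.1), ?_⟩
  refine Subgroup.mem_centralizer_iff.2 ?_
  rintro _ ⟨v, hv, rfl⟩
  rw [F.sext.cyc1]
  exact (F.last_even (F.even_kV hv)).eq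

theorem Frame.wT_mem (F : Frame π ι) : ι wT ∈ wGroup π ι := by
  obtain ⟨-, hsT, -, -, hcomm, hwT, -⟩ := trich_facts
  refine ⟨Subgroup.mem_centralizer_singleton_iff.2 (F.sext.even _ hsT), ?_⟩
  refine Subgroup.mem_centralizer_iff.2 ?_
  have h1 : flipPair = jInv * sideFlip := by decide +kernel
  have e : ι wT = iotaLast π ι (c1 * (swap 0 1 * swap 3 4 * swap 0 1) * c1⁻¹) := by
    rw [← hwT]
    simp only [map_mul, map_inv]
    rw [← map_mul (iotaLast π ι) (swap 0 1) (swap 3 4), ← map_mul ι (swap 0 1) (swap 3 4), F.sext.flip2,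
      F.sext.cyc0, F.last_flip2, F.last_flip, F.last_cyc1, h1, map_mul]
  rintro _ ⟨v, hv, rfl⟩
  rw [e, ← map_mul, ← map_mul]
  refine congrArg _ (hcomm v ?_).symm
  rcases mem_kV.1 hv with rfl | rfl | rfl | rfl <;> simp

variable [Finite G]

theorem Frame.card_centralizer_R' (F : Frame π ι) :
    Nat.card (Subgroup.centralizer (kR'.map ι : Set G)) = 12 ∨
      Nat.card (Subgroup.centralizer (kR'.map ι : Set G)) = 24 := by
  have hσ := sigR_spec
  set σ := sigR
  have hmap : kR' = kR.map (MulAut.conj σ).toMonoidHom := by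
    ext x
    rw [mem_kR', ← hσ x, ← mem_kR, Subgroup.mem_map]
    refine ⟨fun h => ⟨σ⁻¹ * x * σ, h, by simp [mul_assoc]⟩, ?_⟩
    rintro ⟨y, hy, rfl⟩
    simpa [mul_assoc] using hy
  set δ := ι σ * (π (rotQ * rotQ))⁻¹
  have hU : kR'.map ι = (kR.map (iotaLast π ι)).map (MulAut.conj δ).toMonoidHom := by
    rw [hmap, Subgroup.map_map, Subgroup.map_map]
    congr 1
    ext x
    simp [δ, iotaLast, mul_assoc]
  have key : ∀ (U : Subgroup G) (f : G ≃* G),
      Nat.card (Subgroup.centralizer (U.map f.toMonoidHom : Set G)) =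
        Nat.card (Subgroup.centralizer (U : Set G)) := by
    intro U f
    rw [Nat.card_congr (f.subgroupMap (Subgroup.centralizer (U : Set G))).toEquiv]
    congr 1
    refine congrArg (fun H : Subgroup G => (H : Type _)) ?_
    ext g
    simp only [Subgroup.mem_centralizer_iff, Subgroup.mem_map, Subgroup.coe_map, Set.mem_image, SetLike.mem_coe]
    constructor
    · intro h
      refine ⟨f.symm g, fun u hu => ?_, f.apply_symm_apply g⟩
      have := congrArg f.symm (h (f u) ⟨u, hu, rfl⟩)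
      simpa using this
    · rintro ⟨x, hx, rfl⟩ _ ⟨u, hu, rfl⟩
      show f u * f x = f x * f u
      rw [← map_mul, ← map_mul, hx u hu]
  rw [hU, key]
  exact F.card_centralizer_R

theorem Frame.not_wR (F : Frame π ι) : wR ∉ F.sSet := by
  intro hR
  obtain ⟨hs1, -, sA, sB, -, -, -, hR3, hR'e, -, hR'3, hvfix, sR, sR'⟩ := trich_facts
  have hc1 : c1 ∈ F.sSet := ⟨hs1, 0, by simpa using F.c1_mem⟩
  have hT : wT ∈ F.sSet := ⟨trich_facts.2.1, 0, by simpa using F.wT_mem⟩
  have hR' : wR' ∈ F.sSet := hR'e ▸ mul_mem hR (mul_mem (mul_mem hc1 hT) (mul_mem hc1 hc1))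
  have h1 := F.lift_mem hR hR3
  have h2 := F.lift_mem hR' hR'3
  have hW : ∀ r ∈ kR', ι r ∈ wGroup π ι := by
    intro r hr
    rcases mem_kR'.1 hr with rfl | rfl | rfl | rfl
    · rw [map_one]; exact one_mem _
    · exact h1
    · exact h2
    · rw [map_mul]; exact mul_mem h1 h2
  let V := kV.map (iotaLast π ι)
  let R := kR'.map ι
  have hVR : ∀ v ∈ V, ∀ r ∈ R, Commute v r := by
    rintro v hv _ ⟨r, hr, rfl⟩
    exact Subgroup.mem_centralizer_iff.1 (hW r hr).2 v hv
  have hRR : ∀ r ∈ R, ∀ r' ∈ R, Commute r r' := by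
    rintro _ ⟨r, hr, rfl⟩ _ ⟨r', hr', rfl⟩
    show _ = _
    rw [← map_mul, ← map_mul]
    refine congrArg ι ?_
    rcases mem_kR'.1 hr with rfl | rfl | rfl | rfl <;> rcases mem_kR'.1 hr' with rfl | rfl | rfl | rfl <;>
      decide +kernel
  let φ : V × R →* Subgroup.centralizer (R : Set G) :=
    { toFun := fun p => ⟨p.1 * p.2, Subgroup.mem_centralizer_iff.2 fun r hr =>
        (((hVR _ p.1.2 _ hr).symm).mul_right (hRR _ hr _ p.2.2)).eq⟩
      map_one' := Subtype.ext (by simp)
      map_mul' := fun p q => Subtype.ext (by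
        show (p.1 : G) * q.1 * (p.2 * q.2) = p.1 * p.2 * (q.1 * q.2)
        rw [mul_assoc, ← mul_assoc (q.1 : G), (hVR _ q.1.2 _ p.2.2).eq]; group) }
  have hφ : Function.Injective φ := by
    rw [injective_iff_map_eq_one]
    rintro ⟨⟨v, hv⟩, ⟨r, hr⟩⟩ h
    have e : v * r = 1 := congrArg Subtype.val h
    obtain ⟨x, hx, rfl⟩ := hv
    obtain ⟨y, hy, rfl⟩ := hr
    have hva : Commute (iotaLast π ι x) (π aAx) := by
      rw [eq_inv_of_mul_eq_one_left e]
      exact Commute.inv_left (Subgroup.mem_centralizer_singleton_iff.1 (hW y hy).1)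
    rw [← F.last_cyc0] at hva
    have hx1 := hvfix x (F.last_inj (by rw [map_mul, map_mul]; exact hva.eq)) (mem_kV.1 hx)
    subst hx1
    rw [map_one, one_mul] at e
    exact Prod.ext (Subtype.ext (map_one _)) (Subtype.ext e)
  have hd := Subgroup.card_dvd_of_injective φ hφ
  rw [Nat.card_prod, Subgroup.card_map_of_injective F.last_inj, card_kV,
    Subgroup.card_map_of_injective F.sext.inj] at hd
  have h4 : Nat.card kR' = 4 := by
    have h : Nat.card {x : Perm (Fin 6) // x = 1 ∨ x = wR ∨ x = wR' ∨ x = wR * wR'} = 4 := by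
      rw [Nat.subtype_card (Finset.univ.filter fun x => x = 1 ∨ x = wR ∨ x = wR' ∨ x = wR * wR')
        fun x => by simp]
      decide +kernel
    exact h
  rw [h4] at hd
  rcases F.card_centralizer_R' with h | h <;> rw [h] at hd <;> norm_num at hd

theorem Frame.not_mid (F : Frame π ι) {i : Fin 3} (hi : i ≠ 0) (j : Fin 3) :
    c0 ^ (i : ℕ) * c1 ^ (j : ℕ) ∉ F.sSet := by
  rintro ⟨-, k, hk⟩
  obtain ⟨-, -, -, -, -, -, hbad, -⟩ := trich_facts
  have hj : π last ^ (j : ℕ) ∈ wGroup π ι := F.sext.cyc1 ▸ pow_mem F.c1_mem _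
  rw [map_mul, map_pow, map_pow, F.sext.cyc0, F.sext.cyc1, ← mul_assoc] at hk
  have h := ((wGroup π ι).mul_mem_cancel_right hj).1 hk
  rw [← Nat.mod_add_div k 3, pow_add, pow_mul, F.pow_three, one_pow, mul_one, ← F.last_cyc0,
    ← F.last_cyc1, ← map_pow, ← map_pow, ← map_mul] at h
  have hc : ∀ v ∈ kV, c0 ^ (k % 3) * c1 ^ (i : ℕ) * v = v * (c0 ^ (k % 3) * c1 ^ (i : ℕ)) := by
    intro v hv
    refine F.last_inj ?_
    rw [map_mul (iotaLast π ι) _ v, map_mul (iotaLast π ι) v]
    exact (Subgroup.mem_centralizer_iff.1 h.2 _ ⟨v, hv, rfl⟩).symm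
  rcases hbad ⟨k % 3, Nat.mod_lt _ (by norm_num)⟩ i j hi with h' | h'
  · exact h' (hc _ (mem_kV.2 (Or.inr (Or.inl rfl))))
  · exact h' (hc _ (mem_kV.2 (Or.inr (Or.inr (Or.inl rfl)))))

/-- The image is small or contains `(23)(45)`. -/
theorem Frame.sSet_cases (F : Frame π ι) :
    (∀ s ∈ F.sSet, s ∈ wSmall) ∨ ι wU ∈ wGroup π ι := by
  by_cases hU : wU ∈ F.sSet
  · exact Or.inr (F.lift_mem hU trich_facts.2.2.2.2.2.2.2.2.2.1)
  refine Or.inl fun s hs => ?_
  have hc1 : c1 ∈ F.sSet := ⟨trich_facts.1, 0, by simpa using F.c1_mem⟩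
  have hT : wT ∈ F.sSet := ⟨trich_facts.2.1, 0, by simpa using F.wT_mem⟩
  have htarget : ∀ x ∈ F.sSet, x ∉ wTargets := by
    intro x hx hm
    simp only [wTargets, List.mem_cons, List.not_mem_nil, or_false] at hm
    rcases hm with rfl | rfl | rfl | rfl | rfl | rfl | rfl | rfl
    · exact F.not_mid (i := 1) (by decide) 0 (by simpa using hx)
    · exact F.not_mid (i := 1) (by decide) 1 (by simpa using hx)
    · exact F.not_mid (i := 1) (by decide) 2 (by simpa [pow_two] using hx)
    · exact F.not_mid (i := 2) (by decide) 0 (by simpa [pow_two] using hx)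
    · exact F.not_mid (i := 2) (by decide) 1 (by simpa [pow_two] using hx)
    · exact F.not_mid (i := 2) (by decide) 2 (by simpa [pow_two] using hx)
    · exact F.not_wR hx
    · exact hU hx
  have hword : ∀ x ∈ F.sSet, ∀ w : List (Fin 3), wordVal x w ∈ F.sSet := by
    intro x hx w
    have : ∀ (w : List (Fin 3)) (r : Perm (Fin 6)), r ∈ F.sSet →
        w.foldl (fun r i => r * ![c1, wT, x] i) r ∈ F.sSet := by
      intro w
      induction w with
      | nil => exact fun r hr => hr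
      | cons i w ih =>
        intro r hr
        refine ih _ (mul_mem hr ?_)
        fin_cases i
        exacts [hc1, hT, hx]
    exact this w 1 (one_mem _)
  have hdec : ∀ x ∈ F.sSet, decided x = false := by
    intro x hx
    simp only [decided, Bool.or_eq_false_iff, decide_eq_false_iff_not, List.any_eq_false,
      decide_eq_true_eq]
    exact ⟨htarget x hx, fun w _ => htarget _ (hword x hx w)⟩
  have h := decided_or_small s hs.1
  simp only [Bool.or_eq_true, decide_eq_true_eq, List.any_eq_true] at h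
  rcases h with (h | h) | ⟨w, -, h⟩
  · exact h
  · rw [hdec s hs] at h; exact Bool.noConfusion h
  · rw [hdec _ (hword s hs w)] at h; exact Bool.noConfusion h

end Cfsg.Agent.AltNineThree
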